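/-
Golay library, part 1: finite sets and binary words on the 24 points as bit masks (natural numbers
below `2 ^ 24`; bit `i < 23` is the residue `i`, bit `23` is the extra point), population count,
and checkers for statements about all of `0, ..., 2 ^ k - 1`.

Main results: `mem_pts`, `pts_injOn`, `pts_maskOf`, `pts_xor`, `pts_and`, `pts_or`, `word_xor`,
`support₂_word`, `card_pts`, `allSpan_sound`, `countSpan_eq`,
`forall_lt_two_pow`.
-/
import Cfsg.Agent.EqLemmas

set_option autoImplicit false
open scoped Pointwise symmDiff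
open Cfsg

namespace Cfsg.Agent.Golay

/-- The bit index of a point. -/
def idx : GolayPt → ℕ
  | none => 23
  | some x => x.val

/-- The point with a given bit index. -/
def pt (i : ℕ) : GolayPt := if i < 23 then some (i : ZMod 23) else none

theorem idx_lt : ∀ p, idx p < 24 := by decide

theorem pt_idx : ∀ p, pt (idx p) = p := by decide

theorem idx_pt {i : ℕ} (h : i < 24) : idx (pt i) = i := by
  revert i; decide

theorem idx_injective : Function.Injective idx :=
  Function.LeftInverse.injective pt_idx

/-- The set of points coded by a mask. -/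
def pts (m : ℕ) : Finset GolayPt := Finset.univ.filter fun p => m.testBit (idx p)

@[simp] theorem mem_pts {m : ℕ} {p : GolayPt} : p ∈ pts m ↔ m.testBit (idx p) = true := by
  simp [pts]

/-- The mask of a set of points. -/
def maskOf (s : Finset GolayPt) : ℕ := Nat.ofBits fun i : Fin 24 => decide (pt i ∈ s)

theorem maskOf_lt (s : Finset GolayPt) : maskOf s < 2 ^ 24 := Nat.ofBits_lt_two_pow _

@[simp] theorem pts_maskOf (s : Finset GolayPt) : pts (maskOf s) = s := by
  ext p
  rw [mem_pts, maskOf, Nat.testBit_ofBits_lt _ _ (idx_lt p)]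
  simp [pt_idx]

theorem pts_injOn {a b : ℕ} (ha : a < 2 ^ 24) (hb : b < 2 ^ 24) (h : pts a = pts b) : a = b := by
  apply Nat.eq_of_testBit_eq
  intro i
  rcases lt_or_ge i 24 with hi | hi
  · have := Finset.ext_iff.mp h (pt i)
    simpa [idx_pt hi] using this
  · have h2 : 2 ^ 24 ≤ 2 ^ i := Nat.pow_le_pow_right (by norm_num) hi
    rw [Nat.testBit_lt_two_pow (lt_of_lt_of_le ha h2),
      Nat.testBit_lt_two_pow (lt_of_lt_of_le hb h2)]

theorem maskOf_pts {a : ℕ} (ha : a < 2 ^ 24) : maskOf (pts a) = a :=
  pts_injOn (maskOf_lt _) ha (pts_maskOf _)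

theorem pts_xor (a b : ℕ) : pts (a ^^^ b) = symmDiff (pts a) (pts b) := by
  ext p
  simp only [mem_pts, Nat.testBit_xor, Finset.mem_symmDiff]
  cases a.testBit (idx p) <;> cases b.testBit (idx p) <;> simp

theorem pts_and (a b : ℕ) : pts (a &&& b) = pts a ∩ pts b := by
  ext p
  simp [Nat.testBit_and]

theorem pts_or (a b : ℕ) : pts (a ||| b) = pts a ∪ pts b := by
  ext p
  simp [Nat.testBit_or]

theorem pts_zero : pts 0 = ∅ := by
  ext p; simp

theorem pts_full : pts 16777215 = Finset.univ := by decide +kernel

/-- The binary word coded by a mask. -/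
def word (m : ℕ) : GolayPt → ZMod 2 := fun p => if m.testBit (idx p) then 1 else 0

theorem word_xor (a b : ℕ) : word (a ^^^ b) = word a + word b := by
  funext p
  simp only [word, Nat.testBit_xor, Pi.add_apply]
  cases a.testBit (idx p) <;> cases b.testBit (idx p) <;> decide

theorem word_zero : word 0 = 0 := by
  funext p; simp [word]

@[simp] theorem support₂_word (m : ℕ) : support₂ (word m) = pts m := by
  ext p
  rw [mem_pts]
  simp only [support₂, Finset.mem_filter, Finset.mem_univ, true_and]
  by_cases h : m.testBit (idx p) = true <;> simp [word, h]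

theorem eq_of_support₂_eq {α : Type*} [Fintype α] {v w : α → ZMod 2}
    (h : support₂ v = support₂ w) : v = w := by
  funext p
  have hp := Finset.ext_iff.mp h p
  simp only [support₂, Finset.mem_filter, Finset.mem_univ, true_and] at hp
  rcases (by decide : ∀ x : ZMod 2, x = 0 ∨ x = 1) (v p) with h1 | h1 <;>
    rcases (by decide : ∀ x : ZMod 2, x = 0 ∨ x = 1) (w p) with h2 | h2 <;>
    simp_all

theorem word_maskOf_support₂ (w : GolayPt → ZMod 2) : word (maskOf (support₂ w)) = w :=
  eq_of_support₂_eq (by simp)

theorem card_support₂ {α : Type*} [Fintype α] (w : α → ZMod 2) :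
    (support₂ w).card = hammingNorm w := by
  simp [support₂, hammingNorm]

/-- Popcount of a number below `64`, three bits for each entry of a packed table. -/
def pop6 (x : ℕ) : ℕ := (popTable >>> (3 * x)) &&& 7
where
  /-- The packed table. -/
  popTable : ℕ := 5266721624626081916652898579601397356032429460333936579656

/-- Popcount of a number below `2 ^ 24`. -/
def popcount (m : ℕ) : ℕ :=
  pop6 (m &&& 63) + pop6 ((m >>> 6) &&& 63) + pop6 ((m >>> 12) &&& 63) + pop6 ((m >>> 18) &&& 63)

theorem pop6_eq : ∀ x < 64, pop6 x = ∑ i ∈ Finset.range 6, (x.testBit i).toNat := by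
  decide +kernel

theorem pop6_chunk (m k : ℕ) :
    pop6 ((m >>> k) &&& 63) = ∑ i ∈ Finset.range 6, (m.testBit (k + i)).toNat := by
  rw [pop6_eq _ (Nat.lt_succ_of_le Nat.and_le_right)]
  refine Finset.sum_congr rfl fun i hi => ?_
  have h63 : (63 : ℕ).testBit i = true := by
    rw [show (63 : ℕ) = 2 ^ 6 - 1 from rfl, Nat.testBit_two_pow_sub_one]
    simpa using Finset.mem_range.mp hi
  simp [Nat.testBit_and, Nat.testBit_shiftRight, h63]

theorem popcount_eq_sum (m : ℕ) :
    popcount m = ∑ i ∈ Finset.range 24, (m.testBit i).toNat := by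
  rw [show (24 : ℕ) = 6 + 6 + 6 + 6 from rfl, Finset.sum_range_add, Finset.sum_range_add,
    Finset.sum_range_add]
  have h0 := pop6_chunk m 0
  simp only [Nat.shiftRight_zero, Nat.zero_add] at h0
  rw [popcount, h0, pop6_chunk, pop6_chunk, pop6_chunk]

theorem card_pts (m : ℕ) : (pts m).card = popcount m := by
  rw [popcount_eq_sum]
  have h : (pts m).card = ((Finset.range 24).filter fun i => m.testBit i).card := by
    refine Finset.card_bij (fun p _ => idx p) ?_ ?_ ?_
    · intro p hp
      simp [idx_lt p, mem_pts.mp hp]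
    · intro p _ q _ hpq
      exact idx_injective hpq
    · intro i hi
      simp only [Finset.mem_filter, Finset.mem_range] at hi
      exact ⟨pt i, by simp [idx_pt hi.1, hi.2], idx_pt hi.1⟩
  rw [h, Finset.card_filter]
  refine Finset.sum_congr rfl fun i _ => ?_
  cases m.testBit i <;> rfl

theorem popcount_maskOf (s : Finset GolayPt) : popcount (maskOf s) = s.card := by
  rw [← card_pts, pts_maskOf]

theorem hammingNorm_word (m : ℕ) : hammingNorm (word m) = popcount m := by
  rw [← card_support₂, support₂_word, card_pts]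

/-! ### Checkers over the span of a list of masks -/

/-- Linear combination of the masks in a list with coefficients the bits of `x`. -/
def encAux : List ℕ → ℕ → ℕ
  | [], _ => 0
  | g :: gs, x => (if x % 2 = 1 then g else 0) ^^^ encAux gs (x / 2)

theorem encAux_xor (gs : List ℕ) :
    ∀ x y, encAux gs (x ^^^ y) = encAux gs x ^^^ encAux gs y := by
  induction gs with
  | nil => simp [encAux]
  | cons g gs ih =>
    intro x y
    have h2 : (x ^^^ y) % 2 = (x % 2) ^^^ (y % 2) := by
      simpa using Nat.xor_mod_two_pow (a := x) (b := y) (n := 1)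
    simp only [encAux, Nat.xor_div_two, ih, h2]
    rcases Nat.mod_two_eq_zero_or_one x with hx | hx <;>
      rcases Nat.mod_two_eq_zero_or_one y with hy | hy <;>
      simp [hx, hy, Nat.xor_comm, Nat.xor_assoc, Nat.xor_left_comm]

theorem encAux_zero (gs : List ℕ) : encAux gs 0 = 0 := by
  induction gs with
  | nil => rfl
  | cons g gs ih => simp [encAux, ih]

theorem encAux_lt (gs : List ℕ) (n : ℕ) (h : ∀ g ∈ gs, g < 2 ^ n) :
    ∀ x, encAux gs x < 2 ^ n := by
  induction gs with
  | nil => intro x; simp [encAux]
  | cons g gs ih =>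
    intro x
    refine Nat.xor_lt_two_pow ?_ (ih (fun a ha => h a (List.mem_cons_of_mem _ ha)) _)
    split
    · exact h g List.mem_cons_self
    · exact Nat.two_pow_pos n

/-- `p` holds on every element `acc + (combination of gs)`. -/
def allSpan (p : ℕ → Bool) : List ℕ → ℕ → Bool
  | [], acc => p acc
  | g :: gs, acc => allSpan p gs acc && allSpan p gs (acc ^^^ g)

theorem allSpan_sound (p : ℕ → Bool) (gs : List ℕ) :
    ∀ acc, allSpan p gs acc = true → ∀ x, p (acc ^^^ encAux gs x) = true := by
  induction gs with
  | nil => intro acc h x; simpa [allSpan, encAux] using h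
  | cons g gs ih =>
    intro acc h x
    simp only [allSpan, Bool.and_eq_true] at h
    simp only [encAux]
    split
    · rw [← Nat.xor_assoc]; exact ih _ h.2 _
    · rw [Nat.zero_xor]; exact ih _ h.1 _

/-- The number of combinations of `gs` on which `p` holds. -/
def countSpan (p : ℕ → Bool) : List ℕ → ℕ → ℕ
  | [], acc => bif p acc then 1 else 0
  | g :: gs, acc => countSpan p gs acc + countSpan p gs (acc ^^^ g)

theorem sum_range_two_mul (f : ℕ → ℕ) (n : ℕ) :
    ∑ x ∈ Finset.range (2 * n), f x = ∑ y ∈ Finset.range n, (f (2 * y) + f (2 * y + 1)) := by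
  induction n with
  | zero => simp
  | succ n ih =>
    rw [Finset.sum_range_succ _ n, show 2 * (n + 1) = 2 * n + 1 + 1 from rfl,
      Finset.sum_range_succ, Finset.sum_range_succ, ih]
    omega

theorem encAux_two_mul (g : ℕ) (gs : List ℕ) (y : ℕ) :
    encAux (g :: gs) (2 * y) = encAux gs y := by
  rw [encAux, if_neg (by omega), Nat.zero_xor, show 2 * y / 2 = y by omega]

theorem encAux_two_mul_add_one (g : ℕ) (gs : List ℕ) (y : ℕ) :
    encAux (g :: gs) (2 * y + 1) = g ^^^ encAux gs y := by
  rw [encAux, if_pos (by omega), show (2 * y + 1) / 2 = y by omega]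

theorem countSpan_eq (p : ℕ → Bool) (gs : List ℕ) :
    ∀ acc, countSpan p gs acc =
      ((Finset.range (2 ^ gs.length)).filter fun x => p (acc ^^^ encAux gs x) = true).card := by
  induction gs with
  | nil =>
    intro acc
    cases h : p acc <;> simp [countSpan, encAux, h, Finset.filter_singleton]
  | cons g gs ih =>
    intro acc
    rw [countSpan, ih, ih, Finset.card_filter, Finset.card_filter, Finset.card_filter,
      List.length_cons, Nat.pow_succ, Nat.mul_comm _ 2, sum_range_two_mul,
      ← Finset.sum_add_distrib]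
    refine Finset.sum_congr rfl fun y _ => ?_
    simp only [encAux_two_mul, encAux_two_mul_add_one, Nat.xor_assoc]

/-- `p` holds on all the numbers `x * 2 ^ k + i`, `i < 2 ^ k`. -/
def allBits (p : ℕ → Bool) : ℕ → ℕ → Bool
  | 0, x => p x
  | k + 1, x => allBits p k (2 * x) && allBits p k (2 * x + 1)

theorem allBits_sound (p : ℕ → Bool) :
    ∀ k x, allBits p k x = true → ∀ i < 2 ^ k, p (x * 2 ^ k + i) = true
  | 0, x, h, i, hi => by
    obtain rfl : i = 0 := by simpa using hi
    simpa [allBits] using h
  | k + 1, x, h, i, hi => by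
    simp only [allBits, Bool.and_eq_true] at h
    have e : 2 ^ (k + 1) = 2 * 2 ^ k := by rw [Nat.pow_succ, Nat.mul_comm]
    rcases lt_or_ge i (2 ^ k) with hlt | hge
    · have := allBits_sound p k _ h.1 i hlt
      rwa [Nat.mul_comm 2 x, Nat.mul_assoc, ← e] at this
    · have := allBits_sound p k _ h.2 (i - 2 ^ k) (by omega)
      have e2 : (2 * x + 1) * 2 ^ k + (i - 2 ^ k) = x * 2 ^ (k + 1) + i := by
        rw [Nat.add_mul, Nat.one_mul, Nat.mul_comm 2 x, Nat.mul_assoc, ← e]
        omega
      rwa [e2] at this

theorem forall_lt_two_pow {p : ℕ → Bool} {k : ℕ} (h : allBits p k 0 = true) {i : ℕ}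
    (hi : i < 2 ^ k) : p i = true := by
  simpa using allBits_sound p k 0 h i hi

end Cfsg.Agent.Golay
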