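/-
Golay library, part 2: the code `Cfsg.golayCode` as the set of combinations of twelve explicit
masks, its dimension, weights, self-orthogonality, and the octads as a Steiner system S(5, 8, 24).

Main results (`C` is `(golayCode : Set (GolayPt → ZMod 2))`):
* `mem_golayCode_iff`, `word_mem_golayCode_iff`, `mem_supports_iff`, `mem_supports_iff_exists`;
* `supports_forall` (transfer of a kernel check over the 4096 words to all supports);
* `empty_mem`, `univ_mem`, `symmDiff_mem`, `compl_mem` (closure of `supports C`);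
* `finrank_golayCode`, `natCard_golayCode`, `weights`, `self_orthogonal`, `inter_even`;
* `ncard_wordsOfWeight`, `ncard_octads`, `ncard_dodecads`;
* `octad_inter_octad`, `octad_inter_dodecad`, `octad_eq_of_five`, `octads_steiner`,
  `octadOf` and its specification.
-/
import Cfsg.Agent.Lib.Golay.Bits

set_option autoImplicit false
open scoped Pointwise symmDiff
open Cfsg

namespace Cfsg.Agent.Golay

/-- Twelve octads forming a basis of the code, in systematic form on the bits `0, ..., 11`. -/
def rows : List ℕ :=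
  [0xc75001, 0x49f002, 0xd4b004, 0x6e3008, 0x9b3010, 0xb66020, 0xecc040, 0x1ed080, 0x3da100, 0x7b4200, 0xb1d400, 0xe3a800]

/-- Masks of the 23 translates of the squares. -/
def qrMasks : List ℕ :=
  [0x5335f, 0xa66be, 0x14cd7c, 0x299af8, 0x5335f0, 0x266be1, 0x4cd7c2, 0x19af85,
    0x335f0a, 0x66be14, 0x4d7c29, 0x1af853, 0x35f0a6, 0x6be14c, 0x57c299, 0x2f8533,
    0x5f0a66, 0x3e14cd, 0x7c299a, 0x785335, 0x70a66b, 0x614cd7, 0x4299af]

/-- For each row, the translates (`23` is the all-ones word) of which it is the sum. -/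
def rowCombos : List (List ℕ) :=
  [[0, 3, 5, 7, 9, 10, 23],
    [3, 4, 8],
    [0, 3, 4, 7, 10, 23],
    [3, 4, 5, 6, 8, 10],
    [1, 3, 4, 5, 7, 9, 10, 23],
    [0, 1, 2, 4, 7, 8, 9, 10, 23],
    [0, 2, 3, 6, 7, 8, 10, 23],
    [4, 6, 7, 8, 9, 10],
    [0, 1, 6, 8, 10],
    [0, 2, 5, 6],
    [0, 1, 5, 6, 9, 10, 23],
    [0, 2, 5, 9, 10, 23]]

/-- The code word with coefficients the low twelve bits of `x`. -/
def enc (x : ℕ) : ℕ := encAux rows x

/-- The membership test for the code. -/
def isCode (m : ℕ) : Bool := enc (m % 4096) == m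

theorem rows_lt : ∀ g ∈ rows, g < 2 ^ 24 := by decide +kernel

theorem enc_lt (x : ℕ) : enc x < 2 ^ 24 := encAux_lt rows 24 rows_lt x

theorem enc_xor (x y : ℕ) : enc (x ^^^ y) = enc x ^^^ enc y := encAux_xor rows x y

theorem enc_zero : enc 0 = 0 := encAux_zero rows

theorem allSpan_rows {p : ℕ → Bool} (h : allSpan p rows 0 = true) (x : ℕ) : p (enc x) = true := by
  have := allSpan_sound p rows 0 h x
  rwa [Nat.zero_xor] at this

theorem isCode_enc (x : ℕ) : isCode (enc x) = true := by
  have h : allSpan isCode rows 0 = true := by decide +kernel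
  exact allSpan_rows h x

theorem enc_mod {x : ℕ} (hx : x < 4096) : enc x % 4096 = x := by
  have h : allBits (fun y => enc y % 4096 == y) 12 0 = true := by decide +kernel
  simpa using forall_lt_two_pow h (k := 12) hx

theorem enc_injOn {x y : ℕ} (hx : x < 4096) (hy : y < 4096) (h : enc x = enc y) : x = y := by
  rw [← enc_mod hx, ← enc_mod hy, h]

theorem isCode_iff {m : ℕ} : isCode m = true ↔ ∃ x < 4096, enc x = m := by
  constructor
  · intro h
    exact ⟨m % 4096, Nat.mod_lt _ (by norm_num), by simpa [isCode] using h⟩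
  · rintro ⟨x, -, rfl⟩
    exact isCode_enc x

theorem lt_of_isCode {m : ℕ} (h : isCode m = true) : m < 2 ^ 24 := by
  obtain ⟨x, -, rfl⟩ := isCode_iff.mp h
  exact enc_lt x

theorem qrWord_eq : ∀ t : ZMod 23, ∀ p, qrWord t p = word (qrMasks.getD t.val 0) p := by
  decide +kernel

theorem one_eq : (1 : GolayPt → ZMod 2) = word 16777215 := by
  funext p
  have h := pts_full
  have hp : p ∈ pts 16777215 := h ▸ Finset.mem_univ p
  simp [word, mem_pts.mp hp]

theorem word_gen_mem {t : ℕ} (ht : t < 24) :
    word (if t < 23 then qrMasks.getD t 0 else 16777215) ∈ golayCode := by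
  apply Submodule.subset_span
  split
  · next h =>
    refine Or.inl ⟨(t : ZMod 23), ?_⟩
    funext p
    rw [qrWord_eq, ZMod.val_natCast, Nat.mod_eq_of_lt h]
  · exact Or.inr one_eq.symm

theorem rows_mem : ∀ g ∈ rows, word g ∈ golayCode := by
  have hdata : rows = rowCombos.map (fun l => l.foldr
      (fun t acc => (if t < 23 then qrMasks.getD t 0 else 16777215) ^^^ acc) 0) := by
    decide +kernel
  have hlt : ∀ l ∈ rowCombos, ∀ t ∈ l, t < 24 := by decide +kernel
  intro g hg
  rw [hdata, List.mem_map] at hg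
  obtain ⟨l, hl, rfl⟩ := hg
  have hl' := hlt l hl
  clear hl hlt hdata
  induction l with
  | nil => simp [word_zero]
  | cons t l ih =>
    rw [List.foldr_cons, word_xor]
    exact Submodule.add_mem _ (word_gen_mem (hl' t List.mem_cons_self))
      (ih fun u hu => hl' u (List.mem_cons_of_mem _ hu))

theorem word_encAux_mem (gs : List ℕ) (h : ∀ g ∈ gs, word g ∈ golayCode) :
    ∀ x, word (encAux gs x) ∈ golayCode := by
  induction gs with
  | nil => intro x; simp [encAux, word_zero]
  | cons g gs ih =>
    intro x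
    rw [encAux, word_xor]
    refine Submodule.add_mem _ ?_ (ih (fun a ha => h a (List.mem_cons_of_mem _ ha)) _)
    split
    · exact h g List.mem_cons_self
    · simp [word_zero]

theorem word_enc_mem (x : ℕ) : word (enc x) ∈ golayCode := word_encAux_mem rows rows_mem x

/-- The words coded by elements of the span of `rows`, as a submodule. -/
def spanCode : Submodule (ZMod 2) (GolayPt → ZMod 2) where
  carrier := {w | ∃ x < 4096, word (enc x) = w}
  zero_mem' := ⟨0, by norm_num, by rw [enc_zero, word_zero]⟩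
  add_mem' := by
    rintro v w ⟨x, hx, rfl⟩ ⟨y, hy, rfl⟩
    exact ⟨x ^^^ y, Nat.xor_lt_two_pow (n := 12) hx hy, by rw [enc_xor, word_xor]⟩
  smul_mem' := by
    rintro c w ⟨x, hx, rfl⟩
    rcases (by decide : ∀ c : ZMod 2, c = 0 ∨ c = 1) c with rfl | rfl
    · exact ⟨0, by norm_num, by rw [enc_zero, word_zero, zero_smul]⟩
    · exact ⟨x, hx, by rw [one_smul]⟩

theorem mem_golayCode_iff {w : GolayPt → ZMod 2} :
    w ∈ golayCode ↔ ∃ x < 4096, word (enc x) = w := by
  refine ⟨fun h => ?_, fun ⟨x, _, hx⟩ => hx ▸ word_enc_mem x⟩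
  have hle : golayCode ≤ spanCode := by
    rw [golayCode, Submodule.span_le]
    rintro v (⟨t, rfl⟩ | hv)
    · have hc : ∀ k < 23, isCode (qrMasks.getD k 0) = true := by decide +kernel
      obtain ⟨x, hx, he⟩ := isCode_iff.mp (hc t.val (ZMod.val_lt t))
      exact ⟨x, hx, by funext p; rw [he, qrWord_eq]⟩
    · obtain rfl : v = 1 := hv
      obtain ⟨x, hx, he⟩ := isCode_iff.mp (by decide +kernel : isCode 16777215 = true)
      exact ⟨x, hx, by rw [he, one_eq]⟩
  exact hle h

theorem word_mem_golayCode_iff {m : ℕ} (hm : m < 2 ^ 24) :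
    word m ∈ golayCode ↔ isCode m = true := by
  rw [mem_golayCode_iff, isCode_iff]
  refine exists_congr fun x => and_congr_right fun _ => ⟨fun h => ?_, fun h => by rw [h]⟩
  have h2 := congrArg support₂ h
  rw [support₂_word, support₂_word] at h2
  exact pts_injOn (enc_lt x) hm h2

theorem mem_supports_iff_exists {s : Finset GolayPt} :
    s ∈ supports (golayCode : Set (GolayPt → ZMod 2)) ↔ ∃ x < 4096, pts (enc x) = s := by
  constructor
  · rintro ⟨w, hw, rfl⟩
    obtain ⟨x, hx, rfl⟩ := mem_golayCode_iff.mp hw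
    exact ⟨x, hx, (support₂_word _).symm⟩
  · rintro ⟨x, -, rfl⟩
    exact ⟨_, word_enc_mem x, support₂_word _⟩

theorem mem_supports_iff {s : Finset GolayPt} :
    s ∈ supports (golayCode : Set (GolayPt → ZMod 2)) ↔ isCode (maskOf s) = true := by
  rw [mem_supports_iff_exists, isCode_iff]
  refine exists_congr fun x => and_congr_right fun _ => ⟨fun h => ?_, fun h => ?_⟩
  · rw [← h, maskOf_pts (enc_lt x)]
  · rw [h, pts_maskOf]

theorem pts_mem_supports_iff {m : ℕ} (hm : m < 2 ^ 24) :
    pts m ∈ supports (golayCode : Set (GolayPt → ZMod 2)) ↔ isCode m = true := by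
  rw [mem_supports_iff, maskOf_pts hm]

theorem mem_supports_iff_word {s : Finset GolayPt} :
    s ∈ supports (golayCode : Set (GolayPt → ZMod 2)) ↔ word (maskOf s) ∈ golayCode := by
  rw [mem_supports_iff, word_mem_golayCode_iff (maskOf_lt s)]

theorem supports_forall {p : ℕ → Bool} (h : allSpan p rows 0 = true) {s : Finset GolayPt}
    (hs : s ∈ supports (golayCode : Set (GolayPt → ZMod 2))) : p (maskOf s) = true := by
  obtain ⟨x, -, rfl⟩ := mem_supports_iff_exists.mp hs
  rw [maskOf_pts (enc_lt x)]
  exact allSpan_rows h x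

theorem empty_mem : (∅ : Finset GolayPt) ∈ supports (golayCode : Set (GolayPt → ZMod 2)) :=
  mem_supports_iff_exists.mpr ⟨0, by norm_num, by rw [enc_zero, pts_zero]⟩

theorem univ_mem :
    (Finset.univ : Finset GolayPt) ∈ supports (golayCode : Set (GolayPt → ZMod 2)) :=
  Cfsg.Spor.univ_mem_supports_golayCode

theorem symmDiff_mem {s t : Finset GolayPt}
    (hs : s ∈ supports (golayCode : Set (GolayPt → ZMod 2)))
    (ht : t ∈ supports (golayCode : Set (GolayPt → ZMod 2))) :
    symmDiff s t ∈ supports (golayCode : Set (GolayPt → ZMod 2)) := by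
  obtain ⟨x, hx, rfl⟩ := mem_supports_iff_exists.mp hs
  obtain ⟨y, hy, rfl⟩ := mem_supports_iff_exists.mp ht
  exact mem_supports_iff_exists.mpr
    ⟨x ^^^ y, Nat.xor_lt_two_pow (n := 12) hx hy, by rw [enc_xor, pts_xor]⟩

theorem compl_mem {s : Finset GolayPt}
    (hs : s ∈ supports (golayCode : Set (GolayPt → ZMod 2))) :
    sᶜ ∈ supports (golayCode : Set (GolayPt → ZMod 2)) := by
  have h := symmDiff_mem univ_mem hs
  rwa [← Finset.top_eq_univ, top_symmDiff] at h

theorem card_mem_weights {s : Finset GolayPt}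
    (hs : s ∈ supports (golayCode : Set (GolayPt → ZMod 2))) :
    s.card = 0 ∨ s.card = 8 ∨ s.card = 12 ∨ s.card = 16 ∨ s.card = 24 := by
  have h : allSpan (fun m => let k := popcount m
      k == 0 || k == 8 || k == 12 || k == 16 || k == 24) rows 0 = true := by decide +kernel
  have := supports_forall h hs
  simpa [popcount_maskOf, or_assoc] using this

theorem weights {w : GolayPt → ZMod 2} (hw : w ∈ golayCode) :
    hammingNorm w = 0 ∨ hammingNorm w = 8 ∨ hammingNorm w = 12 ∨ hammingNorm w = 16 ∨
      hammingNorm w = 24 := by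
  rw [← card_support₂]
  exact card_mem_weights ⟨w, hw, rfl⟩

theorem bijOn_word_enc :
    Set.BijOn (fun x => word (enc x)) (Set.Iio 4096) (golayCode : Set (GolayPt → ZMod 2)) := by
  refine ⟨fun x _ => word_enc_mem x, fun x hx y hy h => ?_, fun w hw => ?_⟩
  · have h2 := congrArg support₂ h
    simp only [support₂_word] at h2
    exact enc_injOn hx hy (pts_injOn (enc_lt x) (enc_lt y) h2)
  · obtain ⟨x, hx, rfl⟩ := mem_golayCode_iff.mp hw
    exact ⟨x, hx, rfl⟩

theorem natCard_golayCode : Nat.card golayCode = 4096 := by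
  have h := Set.ncard_congr' bijOn_word_enc.equiv
  rw [← Nat.card_coe_set_eq, ← Nat.card_coe_set_eq] at h
  simpa using h.symm

theorem finrank_golayCode : Module.finrank (ZMod 2) golayCode = 12 := by
  have h := Module.natCard_eq_pow_finrank (K := ZMod 2) (V := golayCode)
  rw [natCard_golayCode, Nat.card_zmod] at h
  exact (Nat.pow_right_injective le_rfl (h.symm.trans (by norm_num : (4096 : ℕ) = 2 ^ 12)))

theorem ncard_wordsOfWeight (n : ℕ) :
    (wordsOfWeight (golayCode : Set (GolayPt → ZMod 2)) n).ncard =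
      countSpan (fun m => popcount m == n) rows 0 := by
  rw [countSpan_eq, show rows.length = 12 from rfl]
  have hset : wordsOfWeight (golayCode : Set (GolayPt → ZMod 2)) n =
      ↑(((Finset.range (2 ^ 12)).filter
        fun x => (popcount (0 ^^^ encAux rows x) == n) = true).image fun x => pts (enc x)) := by
    ext s
    simp only [Finset.coe_image, Set.mem_image, Finset.coe_filter, Finset.mem_range,
      Nat.zero_xor, beq_iff_eq, Set.mem_ofPred_eq]
    constructor
    · rintro ⟨hs, hn⟩
      obtain ⟨x, hx, rfl⟩ := mem_supports_iff_exists.mp hs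
      exact ⟨x, ⟨hx, by rw [← hn, card_pts]; rfl⟩, rfl⟩
    · rintro ⟨x, ⟨hx, hn⟩, rfl⟩
      exact ⟨mem_supports_iff_exists.mpr ⟨x, hx, rfl⟩, by rw [card_pts]; exact hn⟩
  rw [hset, Set.ncard_coe_finset, Finset.card_image_of_injOn]
  intro x hx y hy h
  simp only [Finset.coe_filter, Finset.mem_range, Set.mem_ofPred_eq] at hx hy
  exact enc_injOn hx.1 hy.1 (pts_injOn (enc_lt x) (enc_lt y) h)

theorem ncard_octads : octads.ncard = 759 := by
  rw [octads, ncard_wordsOfWeight]; decide +kernel

theorem ncard_dodecads : dodecads.ncard = 2576 := by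
  rw [dodecads, ncard_wordsOfWeight]; decide +kernel

theorem mem_octads_iff {s : Finset GolayPt} :
    s ∈ octads ↔ s ∈ supports (golayCode : Set (GolayPt → ZMod 2)) ∧ s.card = 8 := Iff.rfl

theorem mem_dodecads_iff {s : Finset GolayPt} :
    s ∈ dodecads ↔ s ∈ supports (golayCode : Set (GolayPt → ZMod 2)) ∧ s.card = 12 := Iff.rfl

theorem pts_mem_octads {m : ℕ} (h : (isCode m && popcount m == 8) = true) : pts m ∈ octads := by
  simp only [Bool.and_eq_true, beq_iff_eq] at h
  exact ⟨(pts_mem_supports_iff (lt_of_isCode h.1)).mpr h.1, by rw [card_pts, h.2]⟩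

theorem pts_mem_dodecads {m : ℕ} (h : (isCode m && popcount m == 12) = true) :
    pts m ∈ dodecads := by
  simp only [Bool.and_eq_true, beq_iff_eq] at h
  exact ⟨(pts_mem_supports_iff (lt_of_isCode h.1)).mpr h.1, by rw [card_pts, h.2]⟩

theorem compl_mem_dodecads {d : Finset GolayPt} (hd : d ∈ dodecads) : dᶜ ∈ dodecads := by
  refine ⟨compl_mem hd.1, ?_⟩
  have := hd.2
  rw [Finset.card_compl, this]
  rfl

theorem card_symmDiff_add {α : Type*} [DecidableEq α] (s t : Finset α) :
    (symmDiff s t).card + 2 * (s ∩ t).card = s.card + t.card := by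
  have h1 : symmDiff s t = (s \ t) ∪ (t \ s) := rfl
  have h2 := Finset.card_sdiff_add_card_inter s t
  have h3 := Finset.card_sdiff_add_card_inter t s
  rw [Finset.inter_comm t s] at h3
  rw [h1, Finset.card_union_of_disjoint disjoint_sdiff_sdiff]
  omega

theorem octad_inter_octad {o o' : Finset GolayPt} (ho : o ∈ octads) (ho' : o' ∈ octads) :
    (o ∩ o').card = 0 ∨ (o ∩ o').card = 2 ∨ (o ∩ o').card = 4 ∨ o = o' := by
  have h := card_mem_weights (symmDiff_mem ho.1 ho'.1)
  have h2 := card_symmDiff_add o o'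
  have hc : o.card = 8 := ho.2
  have hc' : o'.card = 8 := ho'.2
  rcases h with h | h | h | h | h
  · refine Or.inr (Or.inr (Or.inr ?_))
    rw [Finset.card_eq_zero] at h
    exact symmDiff_eq_bot.mp h
  all_goals omega

theorem octad_inter_dodecad {o d : Finset GolayPt} (ho : o ∈ octads) (hd : d ∈ dodecads) :
    (o ∩ d).card = 2 ∨ (o ∩ d).card = 4 ∨ (o ∩ d).card = 6 := by
  have h := card_mem_weights (symmDiff_mem ho.1 hd.1)
  have h2 := card_symmDiff_add o d
  have hc : o.card = 8 := ho.2
  have hc' : d.card = 12 := hd.2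
  have h3 : (o ∩ d).card ≤ o.card := Finset.card_le_card Finset.inter_subset_left
  rcases h with h | h | h | h | h <;> omega

theorem octad_eq_of_five {o o' : Finset GolayPt} (ho : o ∈ octads) (ho' : o' ∈ octads)
    (h : 5 ≤ (o ∩ o').card) : o = o' := by
  rcases octad_inter_octad ho ho' with h' | h' | h' | h'
  · omega
  · omega
  · omega
  · exact h'

theorem exists_octad {s : Finset GolayPt} (hs : s.card = 5) : ∃ o ∈ octads, s ⊆ o := by
  classical
  have hfin : octads.Finite := Set.toFinite _
  let T : Finset (Finset GolayPt) := hfin.toFinset.biUnion fun o => o.powersetCard 5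
  have hT : T.card = 42504 := by
    rw [Finset.card_biUnion]
    · rw [Finset.sum_congr rfl (g := fun _ => 56) ?_, Finset.sum_const,
        ← Set.ncard_eq_toFinset_card _ hfin, ncard_octads]
      · rfl
      · intro o ho
        rw [Set.Finite.mem_toFinset] at ho
        rw [Finset.card_powersetCard, show o.card = 8 from ho.2]
        rfl
    · intro o ho o' ho' hne
      rw [Finset.mem_coe, Set.Finite.mem_toFinset] at ho ho'
      refine Finset.disjoint_left.mpr fun a ha ha' => hne (octad_eq_of_five ho ho' ?_)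
      rw [Finset.mem_powersetCard] at ha ha'
      rw [← ha.2]
      exact Finset.card_le_card (Finset.subset_inter ha.1 ha'.1)
  have hsub : T ⊆ (Finset.univ : Finset GolayPt).powersetCard 5 := by
    intro a ha
    simp only [T, Finset.mem_biUnion, Finset.mem_powersetCard] at ha
    obtain ⟨o, -, -, hc⟩ := ha
    exact Finset.mem_powersetCard.mpr ⟨Finset.subset_univ _, hc⟩
  have heq := Finset.eq_of_subset_of_card_le hsub (by
    rw [hT, Finset.card_powersetCard, Finset.card_univ,
      show Fintype.card GolayPt = 24 from rfl]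
    exact le_of_eq (by decide +kernel))
  have : s ∈ T := heq ▸ Finset.mem_powersetCard.mpr ⟨Finset.subset_univ _, hs⟩
  simp only [T, Finset.mem_biUnion, Set.Finite.mem_toFinset, Finset.mem_powersetCard] at this
  obtain ⟨o, ho, hso, -⟩ := this
  exact ⟨o, ho, hso⟩

theorem octads_steiner : IsSteinerSystem 5 8 octads := by
  refine ⟨fun o ho => ho.2, fun s hs => ?_⟩
  obtain ⟨o, ho, hso⟩ := exists_octad hs
  refine ⟨o, ⟨ho, hso⟩, fun o' ho' => octad_eq_of_five ho'.1 ho ?_⟩
  rw [← hs]
  exact Finset.card_le_card (Finset.subset_inter ho'.2 hso)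

/-- An octad containing the given points (the only one if there are five). -/
noncomputable def octadOf (s : Finset GolayPt) : Finset GolayPt :=
  Classical.epsilon fun o => o ∈ octads ∧ s ⊆ o

theorem octadOf_spec {s : Finset GolayPt} (hs : s.card = 5) :
    octadOf s ∈ octads ∧ s ⊆ octadOf s :=
  Classical.epsilon_spec (p := fun o => o ∈ octads ∧ s ⊆ o)
    (let ⟨o, ho, h⟩ := exists_octad hs; ⟨o, ho, h⟩)

theorem octadOf_eq {s o : Finset GolayPt} (hs : s.card = 5) (ho : o ∈ octads) (h : s ⊆ o) :
    octadOf s = o :=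
  (octads_steiner.2 s hs).unique (octadOf_spec hs) ⟨ho, h⟩

/-! ### Self-orthogonality -/

theorem dot_word (a b : ℕ) :
    ∑ p, word a p * word b p = ((popcount (a &&& b) : ℕ) : ZMod 2) := by
  rw [← card_pts, pts, Finset.card_filter, Nat.cast_sum]
  refine Finset.sum_congr rfl fun p _ => ?_
  simp only [word, Nat.testBit_and]
  cases a.testBit (idx p) <;> cases b.testBit (idx p) <;> simp

theorem dot_word_encAux (v : GolayPt → ZMod 2) (gs : List ℕ)
    (h : ∀ g ∈ gs, ∑ p, v p * word g p = 0) :
    ∀ x, ∑ p, v p * word (encAux gs x) p = 0 := by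
  induction gs with
  | nil => intro x; simp [encAux, word_zero]
  | cons g gs ih =>
    intro x
    simp only [encAux, word_xor, Pi.add_apply, mul_add, Finset.sum_add_distrib,
      ih (fun a ha => h a (List.mem_cons_of_mem _ ha)), add_zero]
    split
    · exact h g List.mem_cons_self
    · simp [word_zero]

theorem self_orthogonal {v w : GolayPt → ZMod 2} (hv : v ∈ golayCode) (hw : w ∈ golayCode) :
    ∑ p, v p * w p = 0 := by
  obtain ⟨x, -, rfl⟩ := mem_golayCode_iff.mp hv
  obtain ⟨y, -, rfl⟩ := mem_golayCode_iff.mp hw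
  have h : ∀ g ∈ rows, ∀ g' ∈ rows, popcount (g &&& g') % 2 = 0 := by decide +kernel
  refine dot_word_encAux _ rows (fun g hg => ?_) y
  simp only [mul_comm (word (enc x) _)]
  refine dot_word_encAux _ rows (fun g' hg' => ?_) x
  rw [dot_word, ZMod.natCast_eq_zero_iff_even]
  exact Nat.even_iff.mpr (h g hg g' hg')

theorem inter_even {s t : Finset GolayPt}
    (hs : s ∈ supports (golayCode : Set (GolayPt → ZMod 2)))
    (ht : t ∈ supports (golayCode : Set (GolayPt → ZMod 2))) : Even (s ∩ t).card := by
  obtain ⟨x, -, rfl⟩ := mem_supports_iff_exists.mp hs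
  obtain ⟨y, -, rfl⟩ := mem_supports_iff_exists.mp ht
  rw [← pts_and, card_pts, ← ZMod.natCast_eq_zero_iff_even, ← dot_word]
  exact self_orthogonal (word_enc_mem x) (word_enc_mem y)

end Cfsg.Agent.Golay
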