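/-
Golay library, part 3: permutations of the 24 points coded by packed numbers, membership in
`Cfsg.M24`, rigidity certificates and a stabiliser-chain counting step.

Main results: `mem_M24_iff`, `mem_M24_of_octads`, `smul_mem_octads`, `smul_mem_dodecads`,
`toPerm_mem_M24`, `idx_toPerm`, `pts_imgMask`, `fixes_of_steps`, `natCard_step`.
-/
import Cfsg.Agent.Lib.Golay.Code

set_option autoImplicit false
open scoped Pointwise symmDiff
open Cfsg

namespace Cfsg.Agent.Golay

theorem mem_M24_iff {g : Equiv.Perm GolayPt} :
    g ∈ M24 ↔ ∀ s ∈ supports (golayCode : Set (GolayPt → ZMod 2)),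
      g • s ∈ supports (golayCode : Set (GolayPt → ZMod 2)) := by
  refine MulAction.mem_stabilizer_iff.trans ⟨fun h s hs => ?_, fun h => ?_⟩
  · rw [← h]
    exact Set.smul_mem_smul_set hs
  · refine Set.eq_of_subset_of_ncard_le ?_ ?_ (Set.toFinite _)
    · rintro _ ⟨s, hs, rfl⟩
      exact h s hs
    · exact le_of_eq (Set.ncard_image_of_injective _ (MulAction.injective g)).symm

theorem smul_eq_image (g : Equiv.Perm GolayPt) (s : Finset GolayPt) : g • s = s.image g := rfl

theorem smul_mem_supports {g : Equiv.Perm GolayPt} (hg : g ∈ M24) {s : Finset GolayPt}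
    (hs : s ∈ supports (golayCode : Set (GolayPt → ZMod 2))) :
    g • s ∈ supports (golayCode : Set (GolayPt → ZMod 2)) := mem_M24_iff.mp hg s hs

theorem smul_mem_octads {g : Equiv.Perm GolayPt} (hg : g ∈ M24) {s : Finset GolayPt}
    (hs : s ∈ octads) : g • s ∈ octads :=
  ⟨smul_mem_supports hg hs.1, by rw [Finset.card_smul_finset]; exact hs.2⟩

theorem smul_mem_dodecads {g : Equiv.Perm GolayPt} (hg : g ∈ M24) {s : Finset GolayPt}
    (hs : s ∈ dodecads) : g • s ∈ dodecads :=
  ⟨smul_mem_supports hg hs.1, by rw [Finset.card_smul_finset]; exact hs.2⟩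

theorem smul_symmDiff (g : Equiv.Perm GolayPt) (s t : Finset GolayPt) :
    g • symmDiff s t = symmDiff (g • s) (g • t) := by
  simp only [smul_eq_image, Finset.image_symmDiff _ _ g.injective]

theorem smul_encAux_mem (g : Equiv.Perm GolayPt) (gs : List ℕ)
    (h : ∀ r ∈ gs, g • pts r ∈ supports (golayCode : Set (GolayPt → ZMod 2))) :
    ∀ x, g • pts (encAux gs x) ∈ supports (golayCode : Set (GolayPt → ZMod 2)) := by
  induction gs with
  | nil =>
    intro x
    simp only [encAux, pts_zero, Finset.smul_finset_empty]
    exact empty_mem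
  | cons r gs ih =>
    intro x
    simp only [encAux, pts_xor, smul_symmDiff]
    refine symmDiff_mem ?_ (ih (fun a ha => h a (List.mem_cons_of_mem _ ha)) _)
    split
    · exact h r List.mem_cons_self
    · simp only [pts_zero, Finset.smul_finset_empty]
      exact empty_mem

theorem mem_M24_of_rows {g : Equiv.Perm GolayPt}
    (h : ∀ r ∈ rows, g • pts r ∈ supports (golayCode : Set (GolayPt → ZMod 2))) : g ∈ M24 := by
  rw [mem_M24_iff]
  intro s hs
  obtain ⟨x, -, rfl⟩ := mem_supports_iff_exists.mp hs
  exact smul_encAux_mem g rows h x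

theorem rows_octads : ∀ r ∈ rows, pts r ∈ octads := by
  have h : ∀ r ∈ rows, (isCode r && popcount r == 8) = true := by decide +kernel
  exact fun r hr => pts_mem_octads (h r hr)

theorem mem_M24_of_octads {g : Equiv.Perm GolayPt} (h : ∀ o ∈ octads, g • o ∈ octads) :
    g ∈ M24 :=
  mem_M24_of_rows fun r hr => (h _ (rows_octads r hr)).1

/-- The image of bit `i` under the permutation coded by `d` (five bits for each point). -/
def fn (d i : ℕ) : ℕ := (d >>> (5 * i)) &&& 31

/-- The image of the bits of `m` below `n`. -/
def imgAux (d m : ℕ) : ℕ → ℕ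
  | 0 => 0
  | k + 1 => (bif m.testBit k then 1 <<< fn d k else 0) ||| imgAux d m k

/-- The image of a mask. -/
def imgMask (d m : ℕ) : ℕ := imgAux d m 24

/-- `d` codes a permutation of the 24 points. -/
def validPerm (d : ℕ) : Bool := imgMask d 16777215 == 16777215

/-- `d` codes an automorphism of the code. -/
def isAut (d : ℕ) : Bool := validPerm d && rows.all fun r => isCode (imgMask d r)

/-- The permutation coded by `d`. -/
noncomputable def toPerm (d : ℕ) : Equiv.Perm GolayPt :=
  if h : Function.Bijective fun p => pt (fn d (idx p)) then Equiv.ofBijective _ h else 1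

theorem testBit_imgAux (d m i : ℕ) :
    ∀ n, (imgAux d m n).testBit i = true ↔ ∃ k < n, m.testBit k = true ∧ fn d k = i
  | 0 => by simp [imgAux]
  | n + 1 => by
    simp only [imgAux, Nat.testBit_or, Bool.or_eq_true, testBit_imgAux d m i n]
    constructor
    · rintro (h | ⟨k, hk, h⟩)
      · by_cases hm : m.testBit n = true
        · simp only [hm, cond_true, Nat.one_shiftLeft, Nat.testBit_two_pow, decide_eq_true_eq] at h
          exact ⟨n, by omega, hm, h⟩
        · simp [hm] at h
      · exact ⟨k, by omega, h⟩
    · rintro ⟨k, hk, h⟩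
      rcases Nat.lt_succ_iff_lt_or_eq.mp hk with hk | rfl
      · exact Or.inr ⟨k, hk, h⟩
      · exact Or.inl (by simp [h.1, h.2, Nat.one_shiftLeft])

theorem bijective_of_valid {d : ℕ} (hd : validPerm d = true) :
    Function.Bijective fun p => pt (fn d (idx p)) := by
  refine Finite.surjective_iff_bijective.mp fun q => ?_
  have h : (imgMask d 16777215).testBit (idx q) = true := by
    rw [beq_iff_eq.mp hd]
    exact mem_pts.mp (pts_full ▸ Finset.mem_univ q)
  obtain ⟨k, hk, -, he⟩ := (testBit_imgAux d _ _ 24).mp h
  exact ⟨pt k, by rw [idx_pt hk, he, pt_idx]⟩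

theorem toPerm_apply {d : ℕ} (hd : validPerm d = true) (p : GolayPt) :
    toPerm d p = pt (fn d (idx p)) := by
  rw [toPerm, dif_pos (bijective_of_valid hd), Equiv.ofBijective_apply]

theorem fn_lt_of_valid {d : ℕ} (hd : validPerm d = true) {i : ℕ} (hi : i < 24) :
    fn d i < 24 := by
  by_contra hge
  have h : (imgMask d 16777215).testBit (fn d i) = true := by
    refine (testBit_imgAux d _ _ 24).mpr ⟨i, hi, ?_, rfl⟩
    rw [show (16777215 : ℕ) = 2 ^ 24 - 1 from rfl, Nat.testBit_two_pow_sub_one]
    simpa using hi
  rw [beq_iff_eq.mp hd, show (16777215 : ℕ) = 2 ^ 24 - 1 from rfl,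
    Nat.testBit_two_pow_sub_one, decide_eq_true_eq] at h
  exact hge h

theorem idx_toPerm {d : ℕ} (hd : validPerm d = true) (p : GolayPt) :
    idx (toPerm d p) = fn d (idx p) := by
  rw [toPerm_apply hd, idx_pt (fn_lt_of_valid hd (idx_lt p))]

theorem toPerm_pt {d : ℕ} (hd : validPerm d = true) {i : ℕ} (hi : i < 24) :
    toPerm d (pt i) = pt (fn d i) := by
  rw [toPerm_apply hd, idx_pt hi]

theorem pts_imgMask {d : ℕ} (hd : validPerm d = true) (m : ℕ) :
    pts (imgMask d m) = toPerm d • pts m := by
  ext p
  rw [mem_pts, imgMask, testBit_imgAux, smul_eq_image, Finset.mem_image]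
  constructor
  · rintro ⟨k, hk, hm, he⟩
    exact ⟨pt k, mem_pts.mpr (by rwa [idx_pt hk]), by rw [toPerm_pt hd hk, he, pt_idx]⟩
  · rintro ⟨q, hq, rfl⟩
    exact ⟨idx q, idx_lt q, mem_pts.mp hq, (idx_toPerm hd q).symm⟩

theorem validPerm_of_isAut {d : ℕ} (h : isAut d = true) : validPerm d = true :=
  (Bool.and_eq_true_iff.mp h).1

theorem toPerm_mem_M24 {d : ℕ} (h : isAut d = true) : toPerm d ∈ M24 := by
  have hv := validPerm_of_isAut h
  refine mem_M24_of_rows fun r hr => ?_
  have hc := List.all_eq_true.mp (Bool.and_eq_true_iff.mp h).2 r hr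
  rw [← pts_imgMask hv]
  exact (pts_mem_supports_iff (lt_of_isCode hc)).mpr hc

/-! ### Rigidity certificates -/

/-- A certificate that an automorphism fixing the bits of `fixed` fixes every point: each step
names a point that is the only unfixed common point of some octads that are forced to be fixed. -/
def checkSteps : List (ℕ × List ℕ) → ℕ → Bool
  | [], fixed => fixed == 16777215
  | (q, os) :: rest, fixed =>
    os.all (fun o => isCode o && popcount o == 8 && Nat.ble 5 (popcount (o &&& fixed))) &&
      (os.foldr (fun o acc => o &&& acc) 16777215 &&& (16777215 ^^^ fixed) == 1 <<< q) &&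
      checkSteps rest (fixed ||| 1 <<< q)

theorem fixes_of_steps {g : Equiv.Perm GolayPt} (hg : g ∈ M24) :
    ∀ (steps : List (ℕ × List ℕ)) (fixed : ℕ), checkSteps steps fixed = true →
      (∀ p ∈ pts fixed, g p = p) → g = 1
  | [], fixed, h, hfix => by
    simp only [checkSteps, beq_iff_eq] at h
    subst h
    exact Equiv.ext fun p => hfix p (pts_full ▸ Finset.mem_univ p)
  | (q, os) :: rest, fixed, h, hfix => by
    simp only [checkSteps, Bool.and_eq_true, List.all_eq_true, beq_iff_eq, Nat.ble_eq] at h
    obtain ⟨⟨hos, hand⟩, hrest⟩ := h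
    refine fixes_of_steps hg rest _ hrest fun p hp => ?_
    rw [pts_or, Finset.mem_union] at hp
    rcases hp with hp | hp
    · exact hfix p hp
    have hpq : idx p = q := by
      rw [mem_pts, Nat.one_shiftLeft, Nat.testBit_two_pow, decide_eq_true_eq] at hp
      exact hp.symm
    have hstab : ∀ o ∈ os, g p ∈ pts o ∧ p ∈ pts o := by
      intro o ho
      obtain ⟨⟨hc, h8⟩, h5⟩ := hos o ho
      have hoct : pts o ∈ octads := pts_mem_octads (by simp [hc, h8])
      have hfixo : g • pts o = pts o := by
        refine octad_eq_of_five (smul_mem_octads hg hoct) hoct (le_trans h5 ?_)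
        rw [← card_pts, pts_and]
        refine Finset.card_le_card fun x hx => ?_
        rw [Finset.mem_inter] at hx ⊢
        refine ⟨?_, hx.1⟩
        rw [smul_eq_image, Finset.mem_image]
        exact ⟨x, hx.1, hfix x hx.2⟩
      have hp_o : p ∈ pts o := by
        have hq : (os.foldr (fun o acc => o &&& acc) 16777215 &&&
            (16777215 ^^^ fixed)).testBit q = true := by
          rw [hand]; simp [Nat.one_shiftLeft]
        rw [Nat.testBit_and, Bool.and_eq_true] at hq
        have hmem : ∀ (l : List ℕ), o ∈ l →
            (l.foldr (fun o acc => o &&& acc) 16777215).testBit q = true → o.testBit q = true := by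
          intro l
          induction l with
          | nil => intro h'; exact absurd h' List.not_mem_nil
          | cons a l ih =>
            intro h' hb
            rw [List.foldr_cons, Nat.testBit_and, Bool.and_eq_true] at hb
            rcases List.mem_cons.mp h' with rfl | h''
            · exact hb.1
            · exact ih h'' hb.2
        rw [mem_pts, hpq]
        exact hmem os ho hq.1
      refine ⟨?_, hp_o⟩
      rw [← hfixo, smul_eq_image]
      exact Finset.mem_image_of_mem _ hp_o
    by_contra hne
    have hnf : g p ∉ pts fixed := fun hf => hne (g.injective (hfix _ hf))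
    have hbit : (os.foldr (fun o acc => o &&& acc) 16777215 &&&
        (16777215 ^^^ fixed)).testBit (idx (g p)) = true := by
      rw [Nat.testBit_and, Bool.and_eq_true]
      constructor
      · have hall : ∀ l : List ℕ, (∀ o ∈ l, g p ∈ pts o) →
            g p ∈ pts (l.foldr (fun o acc => o &&& acc) 16777215) := by
          intro l
          induction l with
          | nil => intro _; rw [List.foldr_nil, pts_full]; exact Finset.mem_univ _
          | cons a l ih =>
            intro hl
            rw [List.foldr_cons, pts_and, Finset.mem_inter]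
            exact ⟨hl a List.mem_cons_self, ih fun o ho => hl o (List.mem_cons_of_mem _ ho)⟩
        exact mem_pts.mp (hall os fun o ho => (hstab o ho).1)
      · refine mem_pts.mp ?_
        rw [pts_xor, pts_full, Finset.mem_symmDiff]
        exact Or.inl ⟨Finset.mem_univ _, hnf⟩
    rw [hand, Nat.one_shiftLeft, Nat.testBit_two_pow, decide_eq_true_eq] at hbit
    exact hne (idx_injective (by rw [← hbit, hpq]))

/-- One step of a stabiliser chain. -/
theorem natCard_step {α : Type*} [Finite α] (H : Subgroup (Equiv.Perm α)) (a : α) (T : Finset α)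
    (hup : ∀ g ∈ H, g a ∈ T) (hlow : ∀ y ∈ T, ∃ g ∈ H, g a = y) :
    Nat.card H = T.card * Nat.card ↥(H ⊓ MulAction.stabilizer (Equiv.Perm α) a) := by
  have horb : MulAction.orbit H a = (T : Set α) := by
    ext y
    constructor
    · rintro ⟨g, rfl⟩
      exact hup g g.2
    · intro hy
      obtain ⟨g, hg, rfl⟩ := hlow y hy
      exact ⟨⟨g, hg⟩, rfl⟩
  have hidx := MulAction.index_stabilizer H a
  rw [horb, Set.ncard_coe_finset] at hidx
  have hst : MulAction.stabilizer H a =
      (H ⊓ MulAction.stabilizer (Equiv.Perm α) a).subgroupOf H := by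
    ext g
    constructor
    · exact fun h => ⟨g.2, h⟩
    · exact fun h => h.2
  rw [← (MulAction.stabilizer H a).index_mul_card, hidx, hst,
    Nat.card_congr (Subgroup.subgroupOfEquivOfLe inf_le_left).toEquiv]

end Cfsg.Agent.Golay
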