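/-
Golay library, part 5: `Cfsg.M24` is regular on frames (seven points: six distinct points of an
octad and one point outside it), hence its order and 5-transitivity.

Main results: `IsFrame`, `base`, `isFrame_base`, `isFrame_smul`, `exists_frame_map`,
`eq_of_frame`, `eq_one_of_frame`, `natCard_M24`, `exists_map_five`, `five_transitive`,
`exists_map_octad`, `m24_eq_setSystemAut_octads`, the chain `chain k` with `natCard_chain`.
-/
import Cfsg.Agent.Lib.Golay.Perm
import Cfsg.Agent.Lib.Golay.M24Data

set_option autoImplicit false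
open scoped Pointwise symmDiff
open Cfsg

namespace Cfsg.Agent.Golay

/-- The base points. -/
def bpt (k : ℕ) : GolayPt := pt (baseIdx.getD k 0)

/-- The base as a tuple. -/
def base (i : Fin 7) : GolayPt := bpt i.val

/-- The elements of `M24` fixing the first `k` base points. -/
def chain : ℕ → Subgroup (Equiv.Perm GolayPt)
  | 0 => M24
  | k + 1 => chain k ⊓ MulAction.stabilizer (Equiv.Perm GolayPt) (bpt k)

theorem mem_chain {g : Equiv.Perm GolayPt} :
    ∀ {k : ℕ}, g ∈ chain k ↔ g ∈ M24 ∧ ∀ i < k, g (bpt i) = bpt i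
  | 0 => by simp [chain]
  | k + 1 => by
    simp only [chain, Subgroup.mem_inf, mem_chain (k := k), MulAction.mem_stabilizer_iff,
      Equiv.Perm.smul_def]
    constructor
    · rintro ⟨⟨h1, h2⟩, h3⟩
      refine ⟨h1, fun i hi => ?_⟩
      rcases Nat.lt_succ_iff_lt_or_eq.mp hi with hi | rfl
      · exact h2 i hi
      · exact h3
    · rintro ⟨h1, h2⟩
      exact ⟨⟨h1, fun i hi => h2 i (by omega)⟩, h2 k (by omega)⟩

/-- Seven points: six distinct points of an octad and one point outside it. -/
def IsFrame (x : Fin 7 → GolayPt) : Prop :=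
  Function.Injective x ∧ ∃ o ∈ octads, (∀ i : Fin 7, i.val < 6 → x i ∈ o) ∧ x 6 ∉ o

theorem octad0_mem : pts octad0 ∈ octads := pts_mem_octads (by decide +kernel)

theorem isFrame_base : IsFrame base :=
  ⟨by decide +kernel, pts octad0, octad0_mem, by decide +kernel, by decide +kernel⟩

theorem isFrame_smul {g : Equiv.Perm GolayPt} (hg : g ∈ M24) {x : Fin 7 → GolayPt}
    (hx : IsFrame x) : IsFrame fun i => g (x i) := by
  obtain ⟨hinj, o, ho, hin, hout⟩ := hx
  refine ⟨g.injective.comp hinj, g • o, smul_mem_octads hg ho, fun i hi => ?_, fun h => hout ?_⟩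
  · exact Finset.smul_mem_smul_finset (hin i hi)
  · exact Finset.smul_mem_smul_finset_iff g |>.mp h

theorem octad_eq_octad0 {x : Fin 7 → GolayPt} (hinj : Function.Injective x) {o : Finset GolayPt}
    (ho : o ∈ octads) (hin : ∀ i : Fin 7, i.val < 6 → x i ∈ o)
    (h : ∀ i : Fin 7, i.val < 5 → x i = base i) : o = pts octad0 := by
  refine octad_eq_of_five ho octad0_mem ?_
  let e : Fin 5 → GolayPt := fun i => x (Fin.castLE (by omega) i)
  have he : Function.Injective e := hinj.comp (Fin.castLE_injective _)
  calc 5 = (Finset.univ.image e).card := by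
        rw [Finset.card_image_of_injective _ he, Finset.card_univ, Fintype.card_fin]
    _ ≤ _ := Finset.card_le_card fun p hp => by
        obtain ⟨i, -, rfl⟩ := Finset.mem_image.mp hp
        refine Finset.mem_inter.mpr ⟨hin _ ?_, ?_⟩
        · show i.val < 6
          omega
        · show x (Fin.castLE _ i) ∈ pts octad0
          rw [h _ (show i.val < 5 from i.isLt)]
          exact (by decide +kernel : ∀ j : Fin 5, base (Fin.castLE (by omega) j) ∈ pts octad0) i

theorem frame_level {x : Fin 7 → GolayPt} (hx : IsFrame x) (k : Fin 7)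
    (h : ∀ i : Fin 7, i < k → x i = base i) : x k ∈ pts (levelMasks.getD k 0) := by
  obtain ⟨hinj, o, ho, hin, hout⟩ := hx
  have hne : ∀ i : Fin 7, i < k → x k ≠ base i := fun i hi he =>
    (ne_of_lt hi) (hinj (by rw [h i hi, he]))
  by_cases h5 : k.val < 5
  · exact (by decide +kernel : ∀ (k : Fin 7) (p : GolayPt), k.val < 5 →
      (∀ i : Fin 7, i < k → p ≠ base i) → p ∈ pts (levelMasks.getD k 0)) k (x k) h5 hne
  have ho0 : o = pts octad0 :=
    octad_eq_octad0 hinj ho hin fun i hi => h i (Fin.lt_def.mpr (by omega))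
  subst ho0
  by_cases h6 : k.val < 6
  · exact (by decide +kernel : ∀ (k : Fin 7) (p : GolayPt), k.val = 5 → p ∈ pts octad0 →
      (∀ i : Fin 7, i < k → p ≠ base i) → p ∈ pts (levelMasks.getD k 0))
      k (x k) (by omega) (hin k h6) hne
  · obtain rfl : k = 6 := Fin.ext (by omega)
    exact (by decide +kernel : ∀ p : GolayPt, p ∉ pts octad0 →
      p ∈ pts (levelMasks.getD (6 : Fin 7).val 0)) _ hout

/-- The check of one level of the transversal table. -/
def levelCheck (k : ℕ) : Bool :=
  (transTable.getD k []).all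
      (fun d => isAut d && (List.range k).all fun i => fn d (baseIdx.getD i 0) == baseIdx.getD i 0) &&
    (transTable.getD k []).foldr (fun d acc => 1 <<< fn d (baseIdx.getD k 0) ||| acc) 0 ==
      levelMasks.getD k 0

theorem levelCheck_all : ∀ k < 7, levelCheck k = true := by decide +kernel

theorem idx_bpt : ∀ k < 7, idx (bpt k) = baseIdx.getD k 0 := by decide +kernel

theorem exists_mem_of_foldr_or (f : ℕ → ℕ) (i : ℕ) :
    ∀ l : List ℕ, (l.foldr (fun d acc => 1 <<< f d ||| acc) 0).testBit i = true →
      ∃ d ∈ l, f d = i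
  | [], h => by simp at h
  | a :: l, h => by
    rw [List.foldr_cons, Nat.testBit_or, Bool.or_eq_true] at h
    rcases h with h | h
    · rw [Nat.one_shiftLeft, Nat.testBit_two_pow, decide_eq_true_eq] at h
      exact ⟨a, List.mem_cons_self, h⟩
    · obtain ⟨d, hd, he⟩ := exists_mem_of_foldr_or f i l h
      exact ⟨d, List.mem_cons_of_mem _ hd, he⟩

theorem exists_transversal {k : ℕ} (hk : k < 7) {y : GolayPt}
    (hy : y ∈ pts (levelMasks.getD k 0)) : ∃ g ∈ chain k, g (bpt k) = y := by
  have h := levelCheck_all k hk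
  simp only [levelCheck, Bool.and_eq_true, List.all_eq_true, beq_iff_eq, List.mem_range] at h
  obtain ⟨hall, hor⟩ := h
  have hbit := mem_pts.mp hy
  rw [← hor] at hbit
  obtain ⟨d, hd, he⟩ := exists_mem_of_foldr_or _ _ _ hbit
  obtain ⟨haut, hfix⟩ := hall d hd
  have hv := validPerm_of_isAut haut
  refine ⟨toPerm d, mem_chain.mpr ⟨toPerm_mem_M24 haut, fun i hi => ?_⟩, ?_⟩
  · apply idx_injective
    rw [idx_toPerm hv, idx_bpt i (by omega), hfix i hi]
  · apply idx_injective
    rw [idx_toPerm hv, idx_bpt k hk, he]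

theorem exists_map_of_fixed :
    ∀ (j k : ℕ), j + k = 7 → ∀ x : Fin 7 → GolayPt, IsFrame x →
      (∀ i : Fin 7, i.val < k → x i = base i) → ∃ g ∈ chain k, ∀ i, g (base i) = x i := by
  intro j
  induction j with
  | zero =>
    intro k hk x _ hfix
    exact ⟨1, one_mem _, fun i => (hfix i (by omega)).symm⟩
  | succ j ih =>
    intro k hk x hx hfix
    have hy := frame_level hx ⟨k, by omega⟩ fun i hi => hfix i hi
    obtain ⟨t, ht, hty⟩ := exists_transversal (k := k) (by omega) hy
    obtain ⟨htM, htfix⟩ := mem_chain.mp ht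
    obtain ⟨g, hg, hgx⟩ := ih (k + 1) (by omega) (fun i => t⁻¹ (x i))
      (isFrame_smul (inv_mem htM) hx) fun i hi => by
        rw [Equiv.Perm.inv_eq_iff_eq]
        rcases Nat.lt_succ_iff_lt_or_eq.mp hi with hi | hi
        · rw [hfix i hi]
          exact (htfix i.val hi).symm
        · rw [show base i = bpt k by rw [base, hi], hty]
          exact congrArg x (Fin.ext hi)
    refine ⟨t * g, mul_mem ht ?_, fun i => ?_⟩
    · exact (show chain (k + 1) ≤ chain k from inf_le_left) hg
    · rw [Equiv.Perm.mul_apply, hgx]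
      exact t.apply_symm_apply _

/-- Every frame is the image of the base under an element of `M24`. -/
theorem exists_base_map {x : Fin 7 → GolayPt} (hx : IsFrame x) :
    ∃ g ∈ M24, ∀ i, g (base i) = x i :=
  exists_map_of_fixed 7 0 rfl x hx fun i hi => absurd hi (Nat.not_lt_zero _)

/-- `M24` is transitive on frames. -/
theorem exists_frame_map {x y : Fin 7 → GolayPt} (hx : IsFrame x) (hy : IsFrame y) :
    ∃ g ∈ M24, ∀ i, g (x i) = y i := by
  obtain ⟨g, hg, hgx⟩ := exists_base_map hx
  obtain ⟨h, hh, hhy⟩ := exists_base_map hy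
  exact ⟨h * g⁻¹, mul_mem hh (inv_mem hg), fun i => by
    rw [Equiv.Perm.mul_apply, ← hgx i, Equiv.Perm.coe_inv, Equiv.symm_apply_apply, hhy]⟩

theorem eq_one_of_base {g : Equiv.Perm GolayPt} (hg : g ∈ M24) (h : ∀ i, g (base i) = base i) :
    g = 1 := by
  refine fixes_of_steps hg baseSteps
    (baseIdx.foldr (fun i acc => 1 <<< i ||| acc) 0) (by decide +kernel) fun p hp => ?_
  obtain ⟨i, rfl⟩ := (by decide +kernel : ∀ p : GolayPt,
    p ∈ pts (baseIdx.foldr (fun i acc => 1 <<< i ||| acc) 0) → ∃ i, p = base i) p hp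
  exact h i

/-- Only the identity fixes a frame. -/
theorem eq_one_of_frame {g : Equiv.Perm GolayPt} (hg : g ∈ M24) {x : Fin 7 → GolayPt}
    (hx : IsFrame x) (h : ∀ i, g (x i) = x i) : g = 1 := by
  obtain ⟨t, ht, htx⟩ := exists_base_map hx
  have h1 : t⁻¹ * g * t = 1 := by
    refine eq_one_of_base (mul_mem (mul_mem (inv_mem ht) hg) ht) fun i => ?_
    rw [Equiv.Perm.mul_apply, Equiv.Perm.mul_apply, htx, h, ← htx i, Equiv.Perm.coe_inv,
      Equiv.symm_apply_apply]
  calc g = t * (t⁻¹ * g * t) * t⁻¹ := by group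
    _ = 1 := by rw [h1]; group

/-- An element of `M24` is determined by its values on a frame. -/
theorem eq_of_frame {g h : Equiv.Perm GolayPt} (hg : g ∈ M24) (hh : h ∈ M24)
    {x : Fin 7 → GolayPt} (hx : IsFrame x) (he : ∀ i, g (x i) = h (x i)) : g = h := by
  refine (inv_mul_eq_one.mp ?_).symm
  refine eq_one_of_frame (mul_mem (inv_mem hh) hg) hx fun i => ?_
  rw [Equiv.Perm.mul_apply, he, Equiv.Perm.coe_inv, Equiv.symm_apply_apply]

theorem chain_seven : chain 7 = ⊥ := by
  rw [Subgroup.eq_bot_iff_forall]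
  intro g hg
  obtain ⟨hM, hfix⟩ := mem_chain.mp hg
  exact eq_one_of_base hM fun i => hfix i.val i.isLt

theorem natCard_chain_step {k : ℕ} (hk : k < 7) :
    Nat.card (chain k) = (pts (levelMasks.getD k 0)).card * Nat.card (chain (k + 1)) := by
  refine natCard_step (chain k) (bpt k) _ (fun g hg => ?_) fun y hy => exists_transversal hk hy
  obtain ⟨hM, hfix⟩ := mem_chain.mp hg
  exact frame_level (isFrame_smul hM isFrame_base) ⟨k, hk⟩ fun i hi => hfix i.val hi

/-- The orders of the stabilisers along the base. -/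
theorem natCard_chain : ∀ k < 8, Nat.card (chain k) =
    [244823040, 10200960, 443520, 20160, 960, 48, 16, 1].getD k 0 := by
  have h7 : Nat.card (chain 7) = 1 := by rw [chain_seven, Subgroup.card_bot]
  have h6 : Nat.card (chain 6) = 16 := by
    rw [natCard_chain_step (by norm_num), h7, card_pts]; decide +kernel
  have h5 : Nat.card (chain 5) = 48 := by
    rw [natCard_chain_step (by norm_num), h6, card_pts]; decide +kernel
  have h4 : Nat.card (chain 4) = 960 := by
    rw [natCard_chain_step (by norm_num), h5, card_pts]; decide +kernel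
  have h3 : Nat.card (chain 3) = 20160 := by
    rw [natCard_chain_step (by norm_num), h4, card_pts]; decide +kernel
  have h2 : Nat.card (chain 2) = 443520 := by
    rw [natCard_chain_step (by norm_num), h3, card_pts]; decide +kernel
  have h1 : Nat.card (chain 1) = 10200960 := by
    rw [natCard_chain_step (by norm_num), h2, card_pts]; decide +kernel
  have h0 : Nat.card (chain 0) = 244823040 := by
    rw [natCard_chain_step (by norm_num), h1, card_pts]; decide +kernel
  intro k hk
  interval_cases k <;> assumption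

theorem natCard_M24 : Nat.card M24 = 244823040 := natCard_chain 0 (by norm_num)

/-- Five distinct points extend to a frame. -/
theorem exists_frame_extending (x : Fin 5 ↪ GolayPt) :
    ∃ y : Fin 7 → GolayPt, IsFrame y ∧ ∀ i : Fin 5, y (Fin.castLE (by omega) i) = x i := by
  have hs : (Finset.univ.map x).card = 5 := by simp
  obtain ⟨o, ho, hsub⟩ := exists_octad hs
  have ho8 : o.card = 8 := ho.2
  obtain ⟨a, ha, hax⟩ := Finset.exists_mem_notMem_of_card_lt_card
    (show (Finset.univ.map x).card < o.card by omega)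
  obtain ⟨b, -, hb⟩ := Finset.exists_mem_notMem_of_card_lt_card
    (show o.card < (Finset.univ : Finset GolayPt).card by
      rw [ho8, Finset.card_univ]; decide)
  have hxo : ∀ i, x i ∈ o := fun i => hsub (Finset.mem_map_of_mem x (Finset.mem_univ i))
  have hxa : ∀ i, x i ≠ a := fun i he => hax (he ▸ Finset.mem_map_of_mem x (Finset.mem_univ i))
  let y : Fin 7 → GolayPt := fun i =>
    if h : i.val < 5 then x ⟨i.val, h⟩ else if i.val = 5 then a else b
  refine ⟨y, ⟨?_, o, ho, ?_, ?_⟩, fun i => ?_⟩
  · intro i j hij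
    have hne : ∀ (u : Fin 5), x u ≠ b := fun u he => hb (he ▸ hxo u)
    have hab : a ≠ b := fun he => hb (he ▸ ha)
    simp only [y] at hij
    split_ifs at hij with h1 h2 h3 h4 h5 h6
    all_goals first
      | exact Fin.ext (by simpa using congrArg Fin.val (x.injective hij))
      | exact absurd hij (hxa _)
      | exact absurd hij (hne _)
      | exact absurd hij.symm (hxa _)
      | exact absurd hij.symm (hne _)
      | exact absurd hij hab
      | exact absurd hij.symm hab
      | exact Fin.ext (by omega)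
  · intro i hi
    simp only [y]
    split_ifs with h1 h2
    · exact hxo _
    · exact ha
    · omega
  · show y 6 ∉ o
    simpa [y] using hb
  · simp only [y, Fin.val_castLE, dif_pos i.isLt]

/-- `M24` is 5-transitive. -/
theorem exists_map_five (x y : Fin 5 ↪ GolayPt) : ∃ g ∈ M24, ∀ i, g (x i) = y i := by
  obtain ⟨X, hX, hXe⟩ := exists_frame_extending x
  obtain ⟨Y, hY, hYe⟩ := exists_frame_extending y
  obtain ⟨g, hg, hge⟩ := exists_frame_map hX hY
  exact ⟨g, hg, fun i => by rw [← hXe, ← hYe, hge]⟩

theorem five_transitive : MulAction.IsMultiplyPretransitive M24 GolayPt 5 := by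
  refine ⟨fun x y => ?_⟩
  obtain ⟨g, hg, h⟩ := exists_map_five x y
  exact ⟨⟨g, hg⟩, Function.Embedding.ext fun i => h i⟩

/-- `M24` is transitive on octads. -/
theorem exists_map_octad {o o' : Finset GolayPt} (ho : o ∈ octads) (ho' : o' ∈ octads) :
    ∃ g ∈ M24, g • o = o' := by
  obtain ⟨s, hso, hs⟩ := Finset.exists_subset_card_eq (show 5 ≤ o.card by rw [ho.2]; norm_num)
  obtain ⟨t, hto, ht⟩ := Finset.exists_subset_card_eq (show 5 ≤ o'.card by rw [ho'.2]; norm_num)
  let x : Fin 5 ↪ GolayPt :=
    (Finset.equivFinOfCardEq hs).symm.toEmbedding.trans (Function.Embedding.subtype _)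
  let y : Fin 5 ↪ GolayPt :=
    (Finset.equivFinOfCardEq ht).symm.toEmbedding.trans (Function.Embedding.subtype _)
  obtain ⟨g, hg, h⟩ := exists_map_five x y
  refine ⟨g, hg, octad_eq_of_five (smul_mem_octads hg ho) ho' ?_⟩
  calc 5 = (Finset.univ.map y).card := by simp
    _ ≤ _ := Finset.card_le_card fun p hp => by
        obtain ⟨i, -, rfl⟩ := Finset.mem_map.mp hp
        refine Finset.mem_inter.mpr ⟨?_, hto ((Finset.equivFinOfCardEq ht).symm i).2⟩
        rw [← h i]
        exact Finset.smul_mem_smul_finset (hso ((Finset.equivFinOfCardEq hs).symm i).2)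

theorem m24_eq_setSystemAut_octads : M24 = setSystemAut octads := by
  refine le_antisymm (fun g hg => ?_) fun g hg => mem_M24_of_octads fun o ho => ?_
  · rw [MulAction.mem_stabilizer_iff]
    refine Set.eq_of_subset_of_ncard_le ?_ ?_ (Set.toFinite _)
    · rintro _ ⟨o, ho, rfl⟩
      exact smul_mem_octads hg ho
    · exact le_of_eq (Set.ncard_image_of_injective _ (MulAction.injective g)).symm
  · rw [← MulAction.mem_stabilizer_iff.mp hg]
    exact Set.smul_mem_smul_set ho

end Cfsg.Agent.Golay
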