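/-
Golay library, part 35: `M24` is generated by three explicit permutations.

Main results: `slpBuild`, `closure_three_eq`.
-/
import Cfsg.Agent.Lib.Golay.M24
import Cfsg.Agent.Lib.Golay.GeneratorsData

set_option autoImplicit false
set_option maxRecDepth 40000
open scoped Pointwise
open Cfsg

namespace Cfsg.Agent.Golay

/-- The code of a composite. -/
def mulCode (a b : ℕ) : ℕ := (List.range 24).foldr (fun i acc => fn a (fn b i) + 32 * acc) 0

/-- The code of an inverse. -/
def invCode (a : ℕ) : ℕ :=
  (List.range 24).foldr (fun i acc => ((List.range 24).findIdx fun j => fn a j == i) + 32 * acc) 0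

/-- The code of the identity. -/
def idCode : ℕ := (List.range 24).foldr (fun i acc => i + 32 * acc) 0

/-- Running a program, last element first. -/
def slpRun : List ℕ → List ℕ → List ℕ
  | [], acc => acc
  | s :: rest, acc =>
    let a := acc.getD (s / 2 % 100000) idCode
    let e := bif s % 2 == 0 then mulCode a (acc.getD (s / 200000) idCode) else invCode a
    slpRun rest (e :: acc)

/-- The elements of the program. -/
def slpElems : List ℕ := slpRun slpSteps slpGens.reverse

theorem fn_foldr (f : ℕ → ℕ) (hf : ∀ i < 24, f i < 32) {i : ℕ} (hi : i < 24) :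
    fn ((List.range 24).foldr (fun i acc => f i + 32 * acc) 0) i = f i := by
  have key : ∀ (n : ℕ) (l : List ℕ), (∀ j ∈ l, f j < 32) → ∀ h : n < l.length,
      fn (l.foldr (fun i acc => f i + 32 * acc) 0) n = f l[n] := by
    intro n
    induction n with
    | zero =>
      intro l hl h
      cases l with
      | nil => simp at h
      | cons a l =>
        have ha := hl a (List.mem_cons_self ..)
        simp only [List.foldr_cons, fn, List.getElem_cons_zero, Nat.mul_zero, Nat.shiftRight_zero,
          show (31 : ℕ) = 2 ^ 5 - 1 from rfl, Nat.and_two_pow_sub_one_eq_mod]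
        omega
    | succ n ih =>
      intro l hl h
      cases l with
      | nil => simp at h
      | cons a l =>
        have ha := hl a (List.mem_cons_self ..)
        rw [List.getElem_cons_succ, ← ih l (fun j hj => hl j (List.mem_cons_of_mem _ hj))
          (by simpa using h), List.foldr_cons, fn, fn, Nat.mul_succ, Nat.add_comm (5 * n) 5,
          Nat.shiftRight_add]
        congr 2
        rw [Nat.shiftRight_eq_div_pow]
        omega
  have := key i (List.range 24) (fun j hj => hf j (List.mem_range.mp hj)) (by simpa using hi)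
  rwa [List.getElem_range] at this

theorem toPerm_mulCode {a b : ℕ} (ha : validPerm a = true) (hb : validPerm b = true)
    (h : validPerm (mulCode a b) = true) : toPerm (mulCode a b) = toPerm a * toPerm b := by
  refine Equiv.ext fun p => idx_injective ?_
  rw [Equiv.Perm.mul_apply, idx_toPerm h, idx_toPerm ha, idx_toPerm hb, mulCode,
    fn_foldr _ (fun i hi => ?_) (idx_lt p)]
  have := fn_lt_of_valid ha (fn_lt_of_valid hb hi)
  omega

theorem toPerm_invCode {a : ℕ} (ha : validPerm a = true) (h : validPerm (invCode a) = true) :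
    toPerm (invCode a) = (toPerm a)⁻¹ := by
  refine eq_inv_of_mul_eq_one_right (Equiv.ext fun p => idx_injective ?_)
  rw [Equiv.Perm.mul_apply, idx_toPerm ha, idx_toPerm h, Equiv.Perm.one_apply, invCode,
    fn_foldr _ (fun i _ => ?_) (idx_lt p)]
  · have hs := (bijective_of_valid ha).2 p
    obtain ⟨q, hq⟩ := hs
    have hex : ∃ j ∈ List.range 24, (fn a j == idx p) = true := by
      refine ⟨idx q, List.mem_range.mpr (idx_lt q), beq_iff_eq.mpr ?_⟩
      have e : idx (pt (fn a (idx q))) = idx p := congrArg idx hq
      rwa [idx_pt (fn_lt_of_valid ha (idx_lt q))] at e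
    have hlt := List.findIdx_lt_length_of_exists hex
    have hg := List.findIdx_getElem (p := fun j => fn a j == idx p) (xs := List.range 24) (w := hlt)
    rw [List.getElem_range, beq_iff_eq] at hg
    exact hg
  · have := List.findIdx_le_length (p := fun j => fn a j == i) (xs := List.range 24)
    simp only [List.length_range] at this
    omega

theorem toPerm_idCode : validPerm idCode = true ∧ toPerm idCode = 1 := by
  have hv : validPerm idCode = true := by decide +kernel
  refine ⟨hv, Equiv.ext fun p => idx_injective ?_⟩
  rw [idx_toPerm hv, idCode, fn_foldr _ (fun i hi => by omega) (idx_lt p)]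
  rfl

theorem subset_slpRun : ∀ (steps acc : List ℕ), ∀ x ∈ acc, x ∈ slpRun steps acc
  | [], _, _, hx => hx
  | _ :: ts, _, x, hx => subset_slpRun ts _ x (List.mem_cons_of_mem _ hx)

theorem mem_of_slpRun (H : Subgroup (Equiv.Perm GolayPt)) :
    ∀ (steps acc : List ℕ), (slpRun steps acc).all validPerm = true →
      (∀ d ∈ acc, toPerm d ∈ H) → ∀ d ∈ slpRun steps acc, toPerm d ∈ H
  | [], _, _, h, d, hd => h d hd
  | s :: rest, acc, hv, h, d, hd => by
    rw [slpRun] at hv hd
    refine mem_of_slpRun H rest _ hv (fun x hx => ?_) d hd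
    rcases List.mem_cons.mp hx with rfl | hx
    swap
    · exact h x hx
    have hget : ∀ i, toPerm (acc.getD i idCode) ∈ H ∧ validPerm (acc.getD i idCode) = true := by
      intro i
      by_cases hi : i < acc.length
      · rw [List.getD_eq_getElem acc idCode hi]
        exact ⟨h _ (List.getElem_mem hi), List.all_eq_true.mp hv _
          (subset_slpRun _ _ _ (List.mem_cons_of_mem _ (List.getElem_mem hi)))⟩
      · rw [List.getD_eq_default _ _ (by omega)]
        exact ⟨toPerm_idCode.2 ▸ one_mem _, toPerm_idCode.1⟩
    have he := List.all_eq_true.mp hv _ (subset_slpRun rest _ _ (List.mem_cons_self ..))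
    cases hpar : (s % 2 == 0) with
    | true =>
      simp only [hpar, cond_true] at he ⊢
      rw [toPerm_mulCode (hget _).2 (hget _).2 he]
      exact mul_mem (hget _).1 (hget _).1
    | false =>
      simp only [hpar, cond_false] at he ⊢
      rw [toPerm_invCode (hget _).2 he]
      exact inv_mem (hget _).1

/-- The strong generators in the program: level by level. -/
def slpLevelOk (elems : List ℕ) (k : ℕ) : Bool :=
  let T := (slpTrans.getD k []).map fun i => elems.getD i idCode
  (T.all fun d => (List.range k).all fun i => fn d (baseIdx.getD i 0) == baseIdx.getD i 0) &&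
    ((List.range 24).all fun q => !(levelMasks.getD k 0).testBit q || q == baseIdx.getD k 0 ||
      T.any fun d => fn d (baseIdx.getD k 0) == q)

theorem slp_levels : (let e := slpElems; (List.range 7).all (slpLevelOk e)) = true := by
  decide +kernel

theorem slpElems_valid : slpElems.all validPerm = true := by decide +kernel

theorem slpGens_ok : slpGens.all isAut = true := by decide +kernel

theorem toPerm_slpGens :
    toPerm (slpGens.getD 0 0) = Equiv.optionCongr (Equiv.addRight (1 : ZMod 23)) ∧
      toPerm (slpGens.getD 1 0) = projInv ∧ toPerm (slpGens.getD 2 0) = cubeTwist := by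
  have hv : validPerm (slpGens.getD 0 0) = true ∧ validPerm (slpGens.getD 1 0) = true ∧
      validPerm (slpGens.getD 2 0) = true := by
    decide +kernel
  have h0 : ∀ p : GolayPt, pt (fn (slpGens.getD 0 0) (idx p)) =
      Option.map (fun x : ZMod 23 => x + 1) p := by
    decide +kernel
  have h1 : ∀ p : GolayPt, pt (fn (slpGens.getD 1 0) (idx p)) = projInvFun p := by decide +kernel
  have h2 : ∀ p : GolayPt, pt (fn (slpGens.getD 2 0) (idx p)) = cubeTwistFun p := by decide +kernel
  refine ⟨Equiv.ext fun p => ?_, Equiv.ext fun p => ?_, Equiv.ext fun p => ?_⟩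
  · rw [toPerm_apply hv.1, h0]
    rfl
  · rw [toPerm_apply hv.2.1, h1]
    rfl
  · rw [toPerm_apply hv.2.2, h2]
    rfl

/-- `M24` is generated by the translation, the inversion and the cube twist. -/
theorem closure_three_eq :
    Subgroup.closure {Equiv.optionCongr (Equiv.addRight (1 : ZMod 23)), projInv, cubeTwist} =
      M24 := by
  have hgens : ∀ d ∈ slpGens, toPerm d ∈ Subgroup.closure
      {Equiv.optionCongr (Equiv.addRight (1 : ZMod 23)), projInv, cubeTwist} := by
    intro d hd
    obtain ⟨h0, h1, h2⟩ := toPerm_slpGens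
    obtain ⟨i, hi, rfl⟩ := List.getElem_of_mem hd
    rw [← List.getD_eq_getElem slpGens 0 hi]
    have hlen : slpGens.length = 3 := rfl
    rw [hlen] at hi
    interval_cases i
    · exact Subgroup.subset_closure (Or.inl h0)
    · exact Subgroup.subset_closure (Or.inr (Or.inl h1))
    · exact Subgroup.subset_closure (Or.inr (Or.inr h2))
  refine le_antisymm ((Subgroup.closure_le _).mpr ?_) ?_
  · have hok := slpGens_ok
    simp only [List.all_eq_true] at hok
    obtain ⟨h0, h1, h2⟩ := toPerm_slpGens
    rintro g (rfl | rfl | rfl)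
    · exact h0 ▸ toPerm_mem_M24 (hok _ (by decide +kernel))
    · exact h1 ▸ toPerm_mem_M24 (hok _ (by decide +kernel))
    · exact h2 ▸ toPerm_mem_M24 (hok _ (by decide +kernel))
  have helems := mem_of_slpRun (Subgroup.closure
      {Equiv.optionCongr (Equiv.addRight (1 : ZMod 23)), projInv, cubeTwist}) slpSteps
    slpGens.reverse slpElems_valid fun d hd => hgens d (List.mem_reverse.mp hd)
  have hget : ∀ i, toPerm (slpElems.getD i idCode) ∈ Subgroup.closure
      {Equiv.optionCongr (Equiv.addRight (1 : ZMod 23)), projInv, cubeTwist} ∧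
      validPerm (slpElems.getD i idCode) = true := by
    intro i
    by_cases hi : i < slpElems.length
    · rw [List.getD_eq_getElem slpElems idCode hi]
      exact ⟨helems _ (List.getElem_mem hi), List.all_eq_true.mp slpElems_valid _
        (List.getElem_mem hi)⟩
    · rw [List.getD_eq_default _ _ (by omega)]
      exact ⟨toPerm_idCode.2 ▸ one_mem _, toPerm_idCode.1⟩
  have hM : ∀ g, g ∈ Subgroup.closure
      {Equiv.optionCongr (Equiv.addRight (1 : ZMod 23)), projInv, cubeTwist} → g ∈ M24 := by
    intro g hg
    have hok := slpGens_ok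
    simp only [List.all_eq_true] at hok
    obtain ⟨h0, h1, h2⟩ := toPerm_slpGens
    refine (Subgroup.closure_le _).mpr ?_ hg
    rintro g (rfl | rfl | rfl)
    · exact h0 ▸ toPerm_mem_M24 (hok _ (by decide +kernel))
    · exact h1 ▸ toPerm_mem_M24 (hok _ (by decide +kernel))
    · exact h2 ▸ toPerm_mem_M24 (hok _ (by decide +kernel))
  suffices ∀ j k, j + k = 7 → chain k ≤ Subgroup.closure
      {Equiv.optionCongr (Equiv.addRight (1 : ZMod 23)), projInv, cubeTwist} from this 7 0 rfl
  intro j
  induction j with
  | zero =>
    intro k hk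
    rw [show k = 7 by omega, chain_seven]
    exact bot_le
  | succ j ih =>
    intro k hk g hg
    have hk7 : k < 7 := by omega
    obtain ⟨hgM, hfix⟩ := mem_chain.mp hg
    have hnext : ∀ h : Equiv.Perm GolayPt, h ∈ chain k → h (bpt k) = bpt k →
        h ∈ Subgroup.closure
          {Equiv.optionCongr (Equiv.addRight (1 : ZMod 23)), projInv, cubeTwist} := by
      intro h hh he
      refine ih (k + 1) (by omega) (mem_chain.mpr ⟨(mem_chain.mp hh).1, fun i hi => ?_⟩)
      rcases Nat.lt_succ_iff_lt_or_eq.mp hi with hi | rfl
      · exact (mem_chain.mp hh).2 i hi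
      · exact he
    have hy : g (bpt k) ∈ pts (levelMasks.getD k 0) :=
      frame_level (isFrame_smul hgM isFrame_base) ⟨k, hk7⟩ fun i hi => hfix i.val hi
    have h := slp_levels
    simp only [List.all_eq_true, slpLevelOk, Bool.and_eq_true, Bool.or_eq_true, List.mem_map,
      List.mem_range, List.any_eq_true, beq_iff_eq, Bool.not_eq_true'] at h
    obtain ⟨hfixT, hex⟩ := h k hk7
    rcases hex (idx (g (bpt k))) (idx_lt _) with (h' | h') | ⟨d, ⟨i, hi, rfl⟩, hd⟩
    · rw [mem_pts.mp hy] at h'
      simp at h'
    · exact hnext g hg (idx_injective (by rw [h', idx_bpt k hk7]))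
    · obtain ⟨hcl, hv⟩ := hget i
      set t := toPerm (slpElems.getD i idCode)
      have htk : t (bpt k) = g (bpt k) := idx_injective (by
        rw [idx_toPerm hv, idx_bpt k hk7, hd])
      have htfix : ∀ a < k, t (bpt a) = bpt a := fun a ha => idx_injective (by
        rw [idx_toPerm hv, idx_bpt a (by omega), hfixT _ ⟨i, hi, rfl⟩ a ha])
      have hmem : t⁻¹ * g ∈ chain k := mem_chain.mpr ⟨mul_mem (inv_mem (hM t hcl)) hgM,
        fun a ha => by rw [Equiv.Perm.mul_apply, hfix a ha, Equiv.Perm.inv_eq_iff_eq, htfix a ha]⟩
      have := mul_mem hcl (hnext _ hmem (by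
        rw [Equiv.Perm.mul_apply, Equiv.Perm.inv_eq_iff_eq, htk]))
      rwa [mul_inv_cancel_left] at this

end Cfsg.Agent.Golay
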