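/-
Golay library, part 7: counting code words with a property by kernel checks, and transfer of
counts along elements of M24.

Main results: `ncard_supports_filter`, `ncard_wordsOfWeight_inter`, `ncard_inter_smul`,
`smul_mem_wordsOfWeight`.
-/
import Cfsg.Agent.Lib.Golay.Perm

set_option autoImplicit false
open scoped Pointwise symmDiff
open Cfsg

namespace Cfsg.Agent.Golay

/-- Counting the supports of code words with a checkable property. -/
theorem ncard_supports_filter (p : ℕ → Bool) :
    {s | s ∈ supports (golayCode : Set (GolayPt → ZMod 2)) ∧ p (maskOf s) = true}.ncard =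
      countSpan p rows 0 := by
  rw [countSpan_eq, show rows.length = 12 from rfl]
  have hset : {s | s ∈ supports (golayCode : Set (GolayPt → ZMod 2)) ∧ p (maskOf s) = true} =
      ↑(((Finset.range (2 ^ 12)).filter
        fun x => p (0 ^^^ encAux rows x) = true).image fun x => pts (enc x)) := by
    ext s
    simp only [Finset.coe_image, Set.mem_image, Finset.coe_filter, Finset.mem_range,
      Nat.zero_xor, Set.mem_ofPred_eq]
    constructor
    · rintro ⟨hs, hp⟩
      obtain ⟨x, hx, rfl⟩ := mem_supports_iff_exists.mp hs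
      rw [maskOf_pts (enc_lt x)] at hp
      exact ⟨x, ⟨hx, hp⟩, rfl⟩
    · rintro ⟨x, ⟨hx, hp⟩, rfl⟩
      exact ⟨mem_supports_iff_exists.mpr ⟨x, hx, rfl⟩, by rw [maskOf_pts (enc_lt x)]; exact hp⟩
  rw [hset, Set.ncard_coe_finset, Finset.card_image_of_injOn]
  intro x hx y hy h
  simp only [Finset.coe_filter, Finset.mem_range, Set.mem_ofPred_eq] at hx hy
  exact enc_injOn hx.1 hy.1 (pts_injOn (enc_lt x) (enc_lt y) h)

theorem popcount_maskOf_and (s : Finset GolayPt) (d : ℕ) :
    popcount (maskOf s &&& d) = (s ∩ pts d).card := by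
  rw [← card_pts, pts_and, pts_maskOf]

/-- Counting the words of weight `n` meeting the set coded by `d` in `k` points. -/
theorem ncard_wordsOfWeight_inter (d n k : ℕ) :
    {s | s ∈ wordsOfWeight (golayCode : Set (GolayPt → ZMod 2)) n ∧ (s ∩ pts d).card = k}.ncard =
      countSpan (fun m => popcount m == n && popcount (m &&& d) == k) rows 0 := by
  rw [← ncard_supports_filter]
  congr 1
  ext s
  simp [wordsOfWeight, popcount_maskOf, popcount_maskOf_and, and_assoc]

theorem smul_mem_wordsOfWeight {g : Equiv.Perm GolayPt} (hg : g ∈ M24) {n : ℕ}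
    {s : Finset GolayPt} (hs : s ∈ wordsOfWeight (golayCode : Set (GolayPt → ZMod 2)) n) :
    g • s ∈ wordsOfWeight (golayCode : Set (GolayPt → ZMod 2)) n :=
  ⟨smul_mem_supports hg hs.1, by rw [Finset.card_smul_finset]; exact hs.2⟩

theorem smul_mem_wordsOfWeight_iff {g : Equiv.Perm GolayPt} (hg : g ∈ M24) {n : ℕ}
    {s : Finset GolayPt} : g • s ∈ wordsOfWeight (golayCode : Set (GolayPt → ZMod 2)) n ↔
      s ∈ wordsOfWeight (golayCode : Set (GolayPt → ZMod 2)) n := by
  refine ⟨fun h => ?_, smul_mem_wordsOfWeight hg⟩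
  have h2 := smul_mem_wordsOfWeight (inv_mem hg) h
  rwa [inv_smul_smul] at h2

/-- Intersection counts do not change under an element of M24. -/
theorem ncard_inter_smul {g : Equiv.Perm GolayPt} (hg : g ∈ M24) (d : Finset GolayPt) (n k : ℕ) :
    {s | s ∈ wordsOfWeight (golayCode : Set (GolayPt → ZMod 2)) n ∧ (s ∩ g • d).card = k}.ncard =
      {s | s ∈ wordsOfWeight (golayCode : Set (GolayPt → ZMod 2)) n ∧ (s ∩ d).card = k}.ncard := by
  rw [← Set.ncard_image_of_injective
    {s | s ∈ wordsOfWeight (golayCode : Set (GolayPt → ZMod 2)) n ∧ (s ∩ d).card = k}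
    (MulAction.injective g)]
  congr 1
  ext s
  constructor
  · rintro ⟨hs, hk⟩
    refine ⟨g⁻¹ • s, ⟨(smul_mem_wordsOfWeight_iff (inv_mem hg)).mpr hs, ?_⟩, smul_inv_smul g s⟩
    rw [← Finset.card_smul_finset g, Finset.smul_finset_inter, smul_inv_smul]
    exact hk
  · rintro ⟨t, ⟨ht, hk⟩, rfl⟩
    refine ⟨smul_mem_wordsOfWeight hg ht, ?_⟩
    rw [← Finset.smul_finset_inter, Finset.card_smul_finset]
    exact hk

end Cfsg.Agent.Golay
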