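/-
Golay library, part 8: dodecads.  M24 is transitive on them, and the stabiliser of one is sharply
5-transitive on its twelve points (M12); a point stabiliser in it (M11) is 3-transitive on the
complement.

Main results: `pts_dodecad0`, `eq_one_of_five_dodecad`, `exists_map_dodecad`,
`natCard_stabilizer_dodecad`, `natCard_inf_stabilizer_dodecad`, `existsUnique_map_five_dodecad`,
`natCard_m11`, `exists_map_three_outside`.
-/
import Cfsg.Agent.Lib.Golay.M24
import Cfsg.Agent.Lib.Golay.Count
import Cfsg.Agent.Lib.Golay.DodecadData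

set_option autoImplicit false
open scoped Pointwise symmDiff
open Cfsg

namespace Cfsg.Agent.Golay

theorem imgMask_lt {d : ℕ} (hd : validPerm d = true) (m : ℕ) : imgMask d m < 2 ^ 24 := by
  refine Nat.lt_pow_two_of_testBit _ fun i hi => ?_
  by_contra h
  rw [Bool.not_eq_false, imgMask, testBit_imgAux] at h
  obtain ⟨k, hk, -, he⟩ := h
  have := fn_lt_of_valid hd hk
  omega

/-- An element of a stabiliser of the chain factors through the transversal table. -/
theorem exists_transversal_mem {k : ℕ} (hk : k < 7) {g : Equiv.Perm GolayPt} (hg : g ∈ chain k) :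
    ∃ d ∈ transTable.getD k [], isAut d = true ∧ (toPerm d)⁻¹ * g ∈ chain (k + 1) := by
  obtain ⟨hM, hfix⟩ := mem_chain.mp hg
  have hy := frame_level (isFrame_smul hM isFrame_base) ⟨k, hk⟩ fun i hi => hfix i.val hi
  have h := levelCheck_all k hk
  simp only [levelCheck, Bool.and_eq_true, List.all_eq_true, beq_iff_eq, List.mem_range] at h
  obtain ⟨hall, hor⟩ := h
  have hbit := mem_pts.mp hy
  rw [← hor] at hbit
  obtain ⟨d, hd, he⟩ := exists_mem_of_foldr_or _ _ _ hbit
  obtain ⟨haut, hdfix⟩ := hall d hd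
  have hv := validPerm_of_isAut haut
  refine ⟨d, hd, haut, mem_chain.mpr ⟨mul_mem (inv_mem (toPerm_mem_M24 haut)) hM, fun i hi => ?_⟩⟩
  rw [Equiv.Perm.mul_apply, Equiv.Perm.inv_eq_iff_eq]
  apply idx_injective
  rw [idx_toPerm hv]
  rcases Nat.lt_succ_iff_lt_or_eq.mp hi with hi | rfl
  · rw [hfix i hi, idx_bpt i (by omega), hdfix i hi]
  · rw [idx_bpt i hk, he]
    rfl

theorem pts_dodecad0 : pts dodecad0 = Cfsg.Spor.squareDodecad := by decide +kernel

theorem dodecad0_mem : pts dodecad0 ∈ dodecads := pts_mem_dodecads (by decide +kernel)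

/-- The check that in the stabiliser of five base points only the identity fixes a dodecad through
them. -/
def fiveCheck : Bool :=
  allSpan (fun c =>
    bif popcount c == 12 && c &&& (baseIdx.take 5).foldr (fun i acc => 1 <<< i ||| acc) 0 ==
        (baseIdx.take 5).foldr (fun i acc => 1 <<< i ||| acc) 0 then
      (transTable.getD 5 []).all fun a => (transTable.getD 6 []).all fun b =>
        !(imgMask a (imgMask b c) == c) || (List.range 24).all fun i => fn a (fn b i) == i
    else true) rows 0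

theorem fiveCheck_eq : fiveCheck = true := by decide +kernel

theorem eq_one_of_base_five {g : Equiv.Perm GolayPt} (hg : g ∈ chain 5) {d : Finset GolayPt}
    (hd : d ∈ dodecads) (hb : ∀ i < 5, bpt i ∈ d) (hgd : g • d = d) : g = 1 := by
  obtain ⟨a, ha, haut, hga⟩ := exists_transversal_mem (k := 5) (by norm_num) hg
  obtain ⟨b, hb', hbut, hgb⟩ := exists_transversal_mem (k := 6) (by norm_num) hga
  have hg' : g = toPerm a * toPerm b := by
    rw [show (6 + 1 : ℕ) = 7 from rfl, chain_seven, Subgroup.mem_bot] at hgb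
    calc g = toPerm a * (toPerm b * ((toPerm b)⁻¹ * ((toPerm a)⁻¹ * g))) := by group
      _ = toPerm a * toPerm b := by rw [hgb, mul_one]
  have hva := validPerm_of_isAut haut
  have hvb := validPerm_of_isAut hbut
  obtain ⟨x, -, hxd⟩ := mem_supports_iff_exists.mp hd.1
  have h := allSpan_rows fiveCheck_eq x
  have hcard : popcount (enc x) = 12 := by rw [← card_pts, hxd]; exact hd.2
  have hfive : enc x &&& (baseIdx.take 5).foldr (fun i acc => 1 <<< i ||| acc) 0 =
      (baseIdx.take 5).foldr (fun i acc => 1 <<< i ||| acc) 0 := by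
    refine pts_injOn (Nat.and_lt_two_pow _ (by decide +kernel)) (by decide +kernel) ?_
    rw [pts_and, hxd]
    refine Finset.inter_eq_right.mpr fun p hp => ?_
    obtain ⟨i, hi, rfl⟩ := (by decide +kernel : ∀ p : GolayPt,
      p ∈ pts ((baseIdx.take 5).foldr (fun i acc => 1 <<< i ||| acc) 0) →
        ∃ i < 5, p = bpt i) p hp
    exact hb i hi
  rw [hcard, hfive] at h
  simp only [beq_self_eq_true, Bool.and_self, cond_true, List.all_eq_true, Bool.or_eq_true,
    Bool.not_eq_true', beq_eq_false_iff_ne, beq_iff_eq, List.mem_range] at h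
  rcases h a ha b hb' with h | h
  · exfalso
    apply h
    refine pts_injOn (imgMask_lt hva _) (enc_lt x) ?_
    rw [pts_imgMask hva, pts_imgMask hvb, hxd, ← mul_smul, ← hg', hgd]
  · rw [hg']
    refine Equiv.ext fun p => idx_injective ?_
    rw [Equiv.Perm.mul_apply, idx_toPerm hva, idx_toPerm hvb, h _ (idx_lt p)]
    rfl

/-- In the stabiliser of a dodecad only the identity fixes five of its points. -/
theorem eq_one_of_five_dodecad {g : Equiv.Perm GolayPt} (hg : g ∈ M24) {d : Finset GolayPt}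
    (hd : d ∈ dodecads) (hgd : g • d = d) (x : Fin 5 ↪ GolayPt) (hxd : ∀ i, x i ∈ d)
    (hgx : ∀ i, g (x i) = x i) : g = 1 := by
  obtain ⟨t, ht, htx⟩ := exists_map_five x ⟨fun i => bpt i.val, by decide +kernel⟩
  have h1 : t * g * t⁻¹ = 1 := by
    refine eq_one_of_base_five (mem_chain.mpr ⟨mul_mem (mul_mem ht hg) (inv_mem ht),
      fun i hi => ?_⟩) (smul_mem_dodecads ht hd) (fun i hi => ?_) ?_
    · have hxi : bpt i = t (x ⟨i, hi⟩) := (htx ⟨i, hi⟩).symm
      rw [hxi, Equiv.Perm.mul_apply, Equiv.Perm.mul_apply, Equiv.Perm.coe_inv,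
        Equiv.symm_apply_apply, hgx]
    · have hxi : bpt i = t (x ⟨i, hi⟩) := (htx ⟨i, hi⟩).symm
      rw [hxi]
      exact Finset.smul_mem_smul_finset (hxd _)
    · rw [← mul_smul, mul_assoc, inv_mul_cancel, mul_one, mul_smul, hgd]
  calc g = t⁻¹ * (t * g * t⁻¹) * t := by group
    _ = 1 := by rw [h1]; group

/-- Restriction of the image of five fixed points to an embedding into the dodecad. -/
def fiveImage {d : Finset GolayPt} (x : Fin 5 ↪ {p // p ∈ d})
    (g : MulAction.stabilizer M24 d) : Fin 5 ↪ {p // p ∈ d} where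
  toFun i := ⟨((g : M24) : Equiv.Perm GolayPt) (x i), by
    have h : ((g : M24) : Equiv.Perm GolayPt) • d = d := g.2
    exact (Finset.ext_iff.mp h _).mp (Finset.smul_mem_smul_finset (x i).2)⟩
  inj' i j h := x.injective (Subtype.ext
    (((g : M24) : Equiv.Perm GolayPt).injective (congrArg Subtype.val h)))

theorem fiveImage_injective {d : Finset GolayPt} (hd : d ∈ dodecads)
    (x : Fin 5 ↪ {p // p ∈ d}) : Function.Injective (fiveImage x) := by
  intro g h he
  refine (inv_mul_eq_one.mp (Subtype.ext (Subtype.ext ?_))).symm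
  refine eq_one_of_five_dodecad (SetLike.coe_mem ((h⁻¹ * g : MulAction.stabilizer M24 d) : M24))
    hd (h⁻¹ * g).2 (x.trans (Function.Embedding.subtype _)) (fun i => (x i).2) fun i => ?_
  have hi : ((g : M24) : Equiv.Perm GolayPt) (x i) = ((h : M24) : Equiv.Perm GolayPt) (x i) :=
    congrArg Subtype.val (Function.Embedding.ext_iff.mp he i)
  simp only [Subgroup.coe_mul, InvMemClass.coe_inv, Equiv.Perm.mul_apply,
    Function.Embedding.trans_apply, Function.Embedding.subtype_apply, hi,
    Equiv.Perm.coe_inv, Equiv.symm_apply_apply]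

theorem natCard_five_embedding {d : Finset GolayPt} (hd : d ∈ dodecads) :
    Nat.card (Fin 5 ↪ {p // p ∈ d}) = 95040 := by
  rw [Nat.card_eq_fintype_card, Fintype.card_embedding_eq, Fintype.card_coe,
    show d.card = 12 from hd.2]
  rfl

theorem exists_five_embedding {d : Finset GolayPt} (hd : d ∈ dodecads) :
    Nonempty (Fin 5 ↪ {p // p ∈ d}) := by
  refine Function.Embedding.nonempty_of_card_le ?_
  rw [Fintype.card_fin, Fintype.card_coe, show d.card = 12 from hd.2]
  norm_num

theorem orbit_dodecad {d : Finset GolayPt} (hd : d ∈ dodecads) :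
    MulAction.orbit M24 d = dodecads ∧ Nat.card (MulAction.stabilizer M24 d) = 95040 := by
  obtain ⟨x⟩ := exists_five_embedding hd
  have hle : Nat.card (MulAction.stabilizer M24 d) ≤ 95040 := by
    rw [← natCard_five_embedding hd]
    exact Nat.card_le_card_of_injective _ (fiveImage_injective hd x)
  have hsub : MulAction.orbit M24 d ⊆ dodecads := by
    rintro _ ⟨g, rfl⟩
    exact smul_mem_dodecads g.2 hd
  have hcard := Set.ncard_le_ncard hsub (Set.toFinite _)
  rw [ncard_dodecads] at hcard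
  have hprod := (MulAction.stabilizer M24 d).index_mul_card
  rw [MulAction.index_stabilizer, natCard_M24] at hprod
  have hge : 95040 ≤ Nat.card (MulAction.stabilizer M24 d) := by
    by_contra hlt
    have : (MulAction.orbit M24 d).ncard * Nat.card (MulAction.stabilizer M24 d) ≤ 2576 * 95039 :=
      Nat.mul_le_mul hcard (by omega)
    omega
  have heq : Nat.card (MulAction.stabilizer M24 d) = 95040 := le_antisymm hle hge
  refine ⟨Set.eq_of_subset_of_ncard_le hsub ?_ (Set.toFinite _), heq⟩
  rw [ncard_dodecads]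
  rw [heq] at hprod
  omega

/-- `M24` is transitive on dodecads. -/
theorem exists_map_dodecad {d d' : Finset GolayPt} (hd : d ∈ dodecads) (hd' : d' ∈ dodecads) :
    ∃ g ∈ M24, g • d = d' := by
  rw [← (orbit_dodecad hd).1] at hd'
  obtain ⟨g, rfl⟩ := hd'
  exact ⟨g, g.2, rfl⟩

theorem natCard_stabilizer_dodecad {d : Finset GolayPt} (hd : d ∈ dodecads) :
    Nat.card (MulAction.stabilizer M24 d) = 95040 := (orbit_dodecad hd).2

theorem natCard_inf_stabilizer_dodecad {d : Finset GolayPt} (hd : d ∈ dodecads) :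
    Nat.card ↥(M24 ⊓ MulAction.stabilizer (Equiv.Perm GolayPt) d) = 95040 := by
  rw [← natCard_stabilizer_dodecad hd]
  refine Nat.card_congr
    { toFun := fun g => ⟨⟨g.1, g.2.1⟩, g.2.2⟩
      invFun := fun g => ⟨g.1.1, g.1.2, g.2⟩
      left_inv := fun g => rfl
      right_inv := fun g => rfl }

/-- The stabiliser of a dodecad is sharply 5-transitive on it. -/
theorem existsUnique_map_five_dodecad {d : Finset GolayPt} (hd : d ∈ dodecads)
    (x y : Fin 5 ↪ GolayPt) (hx : ∀ i, x i ∈ d) (hy : ∀ i, y i ∈ d) :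
    ∃! g : MulAction.stabilizer M24 d, ∀ i, ((g : M24) : Equiv.Perm GolayPt) (x i) = y i := by
  let X : Fin 5 ↪ {p // p ∈ d} :=
    ⟨fun i => ⟨x i, hx i⟩, fun i j h => x.injective (congrArg Subtype.val h)⟩
  let Y : Fin 5 ↪ {p // p ∈ d} :=
    ⟨fun i => ⟨y i, hy i⟩, fun i j h => y.injective (congrArg Subtype.val h)⟩
  have hbij : Function.Bijective (fiveImage X) :=
    (Nat.bijective_iff_injective_and_card _).mpr ⟨fiveImage_injective hd X, by
      rw [natCard_stabilizer_dodecad hd, natCard_five_embedding hd]⟩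
  obtain ⟨g, hg, huniq⟩ := hbij.existsUnique Y
  refine ⟨g, fun i => congrArg Subtype.val (Function.Embedding.ext_iff.mp hg i), fun h hh => ?_⟩
  exact huniq h (Function.Embedding.ext fun i => Subtype.ext (hh i))

/-- The stabiliser of a dodecad is transitive on its points. -/
theorem exists_map_point_dodecad {d : Finset GolayPt} (hd : d ∈ dodecads) {p q : GolayPt}
    (hp : p ∈ d) (hq : q ∈ d) : ∃ g ∈ M24, g • d = d ∧ g p = q := by
  obtain ⟨x⟩ := exists_five_embedding hd
  let x' := x.trans (Equiv.swap (x 0) ⟨p, hp⟩).toEmbedding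
  let y' := x.trans (Equiv.swap (x 0) ⟨q, hq⟩).toEmbedding
  obtain ⟨g, hg, -⟩ := existsUnique_map_five_dodecad hd
    (x'.trans (Function.Embedding.subtype _)) (y'.trans (Function.Embedding.subtype _))
    (fun i => (x' i).2) (fun i => (y' i).2)
  exact ⟨((g : M24) : Equiv.Perm GolayPt), (g : M24).2, g.2, by simpa [x', y'] using hg 0⟩

theorem natCard_m11 {d : Finset GolayPt} (hd : d ∈ dodecads) {p : GolayPt} (hp : p ∈ d) :
    Nat.card ↥(M24 ⊓ MulAction.stabilizer (Equiv.Perm GolayPt) d ⊓
      MulAction.stabilizer (Equiv.Perm GolayPt) p) = 7920 := by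
  have h := natCard_step (M24 ⊓ MulAction.stabilizer (Equiv.Perm GolayPt) d) p d
    (fun g hg => ?_) fun q hq => ?_
  · rw [natCard_inf_stabilizer_dodecad hd, show d.card = 12 from hd.2] at h
    omega
  · obtain ⟨-, hgd⟩ := Subgroup.mem_inf.mp hg
    rw [← MulAction.mem_stabilizer_iff.mp hgd]
    exact Finset.smul_mem_smul_finset hp
  · obtain ⟨g, hg, hgd, hgp⟩ := exists_map_point_dodecad hd hp hq
    exact ⟨g, ⟨hg, hgd⟩, hgp⟩

/-- The check of the transversals for three points outside the dodecad of squares. -/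
def m11Check (k : ℕ) : Bool :=
  (m11Table.getD k []).all (fun d => isAut d && imgMask d dodecad0 == dodecad0 && fn d 0 == 0 &&
      (List.range k).all fun i => fn d (outsideIdx.getD i 0) == outsideIdx.getD i 0) &&
    (m11Table.getD k []).foldr (fun d acc => 1 <<< fn d (outsideIdx.getD k 0) ||| acc) 0 ==
      (16777215 ^^^ dodecad0) ^^^
        (outsideIdx.take k).foldr (fun i acc => 1 <<< i ||| acc) 0

theorem m11Check_all : ∀ k < 3, m11Check k = true := by decide +kernel

/-- The subgroup fixing the dodecad of squares, the point `0` and the first `k` chosen outside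
points. -/
def m11Chain : ℕ → Subgroup (Equiv.Perm GolayPt)
  | 0 => M24 ⊓ MulAction.stabilizer (Equiv.Perm GolayPt) (pts dodecad0) ⊓
      MulAction.stabilizer (Equiv.Perm GolayPt) (pt 0)
  | k + 1 => m11Chain k ⊓ MulAction.stabilizer (Equiv.Perm GolayPt) (pt (outsideIdx.getD k 0))

theorem exists_m11_transversal {k : ℕ} (hk : k < 3) {y : GolayPt} (hy : y ∉ pts dodecad0)
    (hne : ∀ i < k, y ≠ pt (outsideIdx.getD i 0)) :
    ∃ g ∈ m11Chain k, g (pt (outsideIdx.getD k 0)) = y := by
  have h := m11Check_all k hk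
  simp only [m11Check, Bool.and_eq_true, List.all_eq_true, beq_iff_eq, List.mem_range] at h
  obtain ⟨hall, hor⟩ := h
  have hbit : y ∈ pts ((16777215 ^^^ dodecad0) ^^^
      (outsideIdx.take k).foldr (fun i acc => 1 <<< i ||| acc) 0) :=
    (by decide +kernel : ∀ (k : Fin 3) (y : GolayPt), y ∉ pts dodecad0 →
      (∀ i < k.val, y ≠ pt (outsideIdx.getD i 0)) → y ∈ pts ((16777215 ^^^ dodecad0) ^^^
        (outsideIdx.take k.val).foldr (fun i acc => 1 <<< i ||| acc) 0)) ⟨k, hk⟩ y hy hne
  rw [mem_pts, ← hor] at hbit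
  obtain ⟨d, hd, he⟩ := exists_mem_of_foldr_or _ _ _ hbit
  obtain ⟨⟨⟨haut, hdod⟩, h0⟩, hfix⟩ := hall d hd
  have hv := validPerm_of_isAut haut
  have hlt : ∀ i < 3, outsideIdx.getD i 0 < 24 := by decide
  refine ⟨toPerm d, ?_, ?_⟩
  · have hbase : toPerm d ∈ m11Chain 0 := by
      refine ⟨⟨toPerm_mem_M24 haut, ?_⟩, ?_⟩
      · show toPerm d • pts dodecad0 = pts dodecad0
        rw [← pts_imgMask hv, hdod]
      · show toPerm d (pt 0) = pt 0
        rw [toPerm_pt hv (by norm_num), h0]
    have : ∀ j ≤ k, toPerm d ∈ m11Chain j := by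
      intro j
      induction j with
      | zero => exact fun _ => hbase
      | succ j ih =>
        intro hj
        refine ⟨ih (by omega), ?_⟩
        show toPerm d (pt (outsideIdx.getD j 0)) = pt (outsideIdx.getD j 0)
        rw [toPerm_pt hv (hlt j (by omega)), hfix j (by omega)]
    exact this k le_rfl
  · rw [toPerm_pt hv (hlt k hk), he, pt_idx]

theorem exists_map_three_outside0 (y : Fin 3 ↪ GolayPt) (hy : ∀ i, y i ∉ pts dodecad0) :
    ∃ g ∈ m11Chain 0, ∀ i : Fin 3, g (pt (outsideIdx.getD i.val 0)) = y i := by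
  have keep : ∀ {k : ℕ} {g : Equiv.Perm GolayPt}, g ∈ m11Chain k → ∀ i < k,
      g (pt (outsideIdx.getD i 0)) = pt (outsideIdx.getD i 0) := by
    intro k
    induction k with
    | zero => exact fun _ i hi => absurd hi (Nat.not_lt_zero i)
    | succ k ih =>
      intro g hg i hi
      rcases Nat.lt_succ_iff_lt_or_eq.mp hi with hi | rfl
      · exact ih hg.1 i hi
      · exact hg.2
  have mono : ∀ {k : ℕ} {g : Equiv.Perm GolayPt}, g ∈ m11Chain k → g ∈ m11Chain 0 := by
    intro k
    induction k with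
    | zero => exact fun h => h
    | succ k ih => exact fun h => ih h.1
  have hd0 : ∀ {g : Equiv.Perm GolayPt}, g ∈ m11Chain 0 → ∀ {p}, p ∉ pts dodecad0 →
      g⁻¹ p ∉ pts dodecad0 := by
    intro g hg p hp hmem
    have h : g • pts dodecad0 = pts dodecad0 := hg.1.2
    have h2 := Finset.smul_mem_smul_finset (a := g) hmem
    rw [h, Equiv.Perm.smul_def, Equiv.Perm.coe_inv, Equiv.apply_symm_apply] at h2
    exact hp h2
  obtain ⟨a, ha, hay⟩ := exists_m11_transversal (k := 0) (by norm_num) (hy 0)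
    fun i hi => absurd hi (Nat.not_lt_zero i)
  have hb1 : a⁻¹ (y 1) ∉ pts dodecad0 := hd0 ha (hy 1)
  obtain ⟨b, hb, hby⟩ := exists_m11_transversal (k := 1) (by norm_num) hb1 fun i hi he => by
    obtain rfl : i = 0 := by omega
    rw [Equiv.Perm.inv_eq_iff_eq, hay] at he
    exact absurd (y.injective he) (by decide)
  have hb0 := mono hb
  have hc2 : b⁻¹ (a⁻¹ (y 2)) ∉ pts dodecad0 := hd0 hb0 (hd0 ha (hy 2))
  obtain ⟨c, hc, hcy⟩ := exists_m11_transversal (k := 2) (by norm_num) hc2 fun i hi he => by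
    rw [Equiv.Perm.inv_eq_iff_eq, Equiv.Perm.inv_eq_iff_eq] at he
    interval_cases i
    · rw [keep hb 0 (by norm_num), hay] at he
      exact absurd (y.injective he) (by decide)
    · rw [hby, Equiv.Perm.coe_inv, Equiv.apply_symm_apply] at he
      exact absurd (y.injective he) (by decide)
  refine ⟨a * b * c, mul_mem (mul_mem ha hb0) (mono hc), fun i => ?_⟩
  fin_cases i
  · show a (b (c (pt (outsideIdx.getD 0 0)))) = y 0
    rw [keep hc 0 (by norm_num), keep hb 0 (by norm_num), hay]
  · show a (b (c (pt (outsideIdx.getD 1 0)))) = y 1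
    rw [keep hc 1 (by norm_num), hby, Equiv.Perm.coe_inv, Equiv.apply_symm_apply]
  · show a (b (c (pt (outsideIdx.getD 2 0)))) = y 2
    rw [hcy]
    simp

/-- M11 is 3-transitive outside its dodecad. -/
theorem exists_map_three_outside {d : Finset GolayPt} (hd : d ∈ dodecads) {p : GolayPt}
    (hp : p ∈ d) (x y : Fin 3 ↪ GolayPt) (hx : ∀ i, x i ∉ d) (hy : ∀ i, y i ∉ d) :
    ∃ g ∈ M24, g • d = d ∧ g p = p ∧ ∀ i, g (x i) = y i := by
  obtain ⟨t, ht, htd⟩ := exists_map_dodecad hd dodecad0_mem
  have htp : t p ∈ pts dodecad0 := htd ▸ Finset.smul_mem_smul_finset hp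
  obtain ⟨u, hu, hud, hup⟩ := exists_map_point_dodecad dodecad0_mem htp
    (show pt 0 ∈ pts dodecad0 by decide +kernel)
  have hvd : (u * t) • d = pts dodecad0 := by rw [mul_smul, htd, hud]
  have hout : ∀ q ∉ d, (u * t) q ∉ pts dodecad0 := by
    intro q hq h
    rw [← hvd] at h
    exact hq ((Finset.smul_mem_smul_finset_iff (u * t)).mp h)
  obtain ⟨a, ha, hax⟩ := exists_map_three_outside0 (x.trans (u * t).toEmbedding)
    fun i => hout _ (hx i)
  obtain ⟨b, hb, hby⟩ := exists_map_three_outside0 (y.trans (u * t).toEmbedding)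
    fun i => hout _ (hy i)
  have hc : b * a⁻¹ ∈ m11Chain 0 := mul_mem hb (inv_mem ha)
  obtain ⟨⟨hcM, hcd⟩, hcp⟩ := hc
  refine ⟨(u * t)⁻¹ * (b * a⁻¹) * (u * t),
    mul_mem (mul_mem (inv_mem (mul_mem hu ht)) hcM) (mul_mem hu ht), ?_, ?_, fun i => ?_⟩
  · rw [mul_smul, hvd, mul_smul, MulAction.mem_stabilizer_iff.mp hcd, ← hvd, inv_smul_smul]
  · have hvp : (u * t) p = pt 0 := hup
    have hcp' : (b * a⁻¹) (pt 0) = pt 0 := hcp
    rw [Equiv.Perm.mul_apply, hvp, Equiv.Perm.mul_apply, hcp', Equiv.Perm.inv_eq_iff_eq, hvp]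
  · rw [Equiv.Perm.mul_apply, Equiv.Perm.mul_apply, Equiv.Perm.inv_eq_iff_eq,
      Equiv.Perm.mul_apply]
    have h1 : (u * t) (x i) = a (pt (outsideIdx.getD i.val 0)) := (hax i).symm
    have h2 : (u * t) (y i) = b (pt (outsideIdx.getD i.val 0)) := (hby i).symm
    rw [h1, h2, Equiv.Perm.coe_inv, Equiv.symm_apply_apply]

end Cfsg.Agent.Golay
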