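/-
Golay library, part 9: two simplicity criteria for permutation groups, used for the Mathieu groups.

Main results:
* `normalizer_card_split`: `|N(P)| = p * j` with `|G| / p ≡ j (mod p)` for a Sylow subgroup of order `p`;
* `card_normalizer_dvd`: `|N(P)|` divides `|C(P)| * (p - 1)`;
* `isSimpleGroup_of_prime_normalizer`: a primitive group of degree divisible by `p` whose Sylow
  `p`-subgroup has order `p` and normaliser of order `p * j`, `j` prime, is simple;
* `isSimpleGroup_of_simple_stabilizer`: a 2-transitive group with simple point stabiliser and degree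
  not a prime power is simple.
-/
import Cfsg.Agent.EqLemmas
import Cfsg.Agent.Lib.Perm.Regular

set_option autoImplicit false

namespace Cfsg.Agent.Golay

open MulAction
open Subgroup (normalizer centralizer)

variable {G : Type*} [Group G] [Finite G] {p : ℕ} [Fact p.Prime]

theorem card_sylow_prime (hp : p ∣ Nat.card G) (hp2 : ¬ p ^ 2 ∣ Nat.card G) (P : Sylow p G) :
    Nat.card P = p := by
  obtain ⟨n, hn⟩ := P.2.exists_card_eq
  rcases n with _ | _ | n
  · have := P.dvd_card_of_dvd_card hp
    rw [hn, pow_zero, Nat.dvd_one] at this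
    exact absurd this (Fact.out : p.Prime).ne_one
  · simpa using hn
  · exfalso
    refine hp2 (dvd_trans ?_ P.1.card_subgroup_dvd_card)
    rw [hn]
    exact pow_dvd_pow p (by omega)

theorem normalizer_card_split (hp : p ∣ Nat.card G) (hp2 : ¬ p ^ 2 ∣ Nat.card G) (P : Sylow p G) :
    ∃ j, Nat.card (normalizer (P : Set G)) = p * j ∧ (Nat.card G / p) % p = j % p := by
  have hle : (P : Subgroup G) ≤ normalizer (P : Set G) := Subgroup.le_normalizer
  obtain ⟨j, hj⟩ := Subgroup.card_dvd_of_le hle
  rw [card_sylow_prime hp hp2 P] at hj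
  refine ⟨j, hj, ?_⟩
  have hn := Subgroup.index_mul_card (normalizer (P : Set G))
  rw [hj, ← P.card_eq_index_normalizer] at hn
  rw [← hn, show Nat.card (Sylow p G) * (p * j) = p * (Nat.card (Sylow p G) * j) by ring,
    Nat.mul_div_cancel_left _ (Fact.out : p.Prime).pos, Nat.mul_mod,
    card_sylow_modEq_one p G, ← Nat.mul_mod, one_mul]

theorem card_normalizer_dvd (hp : p ∣ Nat.card G) (hp2 : ¬ p ^ 2 ∣ Nat.card G) (P : Sylow p G) :
    Nat.card (normalizer (P : Set G)) ∣ Nat.card (centralizer (P : Set G)) * (p - 1) := by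
  have hP := card_sylow_prime hp hp2 P
  have hcyc : IsCyclic P := isCyclic_of_prime_card hP
  have key := Subgroup.card_dvd_of_injective _
    (QuotientGroup.kerLift_injective (P : Subgroup G).normalizerMonoidHom)
  rw [IsCyclic.card_mulAut, hP, Nat.totient_prime Fact.out,
    Subgroup.normalizerMonoidHom_ker] at key
  have hle : centralizer (P : Set G) ≤ normalizer (P : Set G) :=
    Subgroup.centralizer_le_normalizer _
  rw [← ((centralizer (P : Set G)).subgroupOf (normalizer (P : Set G))).index_mul_card,
    Nat.card_congr (Subgroup.subgroupOfEquivOfLe hle).toEquiv, mul_comm]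
  exact Nat.mul_dvd_mul_left _ key

omit [Fact p.Prime] in
theorem card_dvd_of_pretransitive {X : Type*} [MulAction G X] [Nonempty X] (N : Subgroup G)
    (hN : IsPretransitive N X) : Nat.card X ∣ Nat.card N := by
  obtain ⟨a⟩ := (inferInstance : Nonempty X)
  rw [← index_stabilizer_of_transitive N a]
  exact Subgroup.index_dvd_card _

/-- A primitive group of degree divisible by `p`, with Sylow `p`-subgroup of order `p` whose
normaliser has order `p * j` with `j` prime, is simple. -/
theorem isSimpleGroup_of_prime_normalizer {X : Type*} [MulAction G X] [Finite X] [FaithfulSMul G X]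
    [IsPreprimitive G X] (hX : 2 ≤ Nat.card X) (hpX : p ∣ Nat.card X)
    (hp2 : ¬ p ^ 2 ∣ Nat.card G) {j : ℕ} (hj : j.Prime) (P : Sylow p G)
    (hN : Nat.card (normalizer (P : Set G)) = p * j) (hne : p * j ≠ Nat.card G) :
    IsSimpleGroup G := by
  have hX' : Nonempty X := (Nat.card_ne_zero.mp (by omega)).1
  have hpp : p.Prime := Fact.out
  have hpG : p ∣ Nat.card G :=
    dvd_trans ⟨j, hN⟩ (Subgroup.card_subgroup_dvd_card _)
  have htriv : ∀ K : Subgroup G, K.Normal → ¬ p ∣ Nat.card K → K = ⊥ := by
    intro K hK hpK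
    by_contra hne'
    exact hpK (hpX.trans
      (card_dvd_of_pretransitive K (Perm.isPretransitive_of_normal_ne_bot hne')))
  have hP := card_sylow_prime hpG hp2 P
  have hnt : Nontrivial G := by
    rw [← Finite.one_lt_card_iff_nontrivial]
    exact lt_of_lt_of_le hpp.one_lt (Nat.le_of_dvd Nat.card_pos hpG)
  refine ⟨fun N hNn => ?_⟩
  by_cases hbot : N = ⊥
  · exact Or.inl hbot
  refine Or.inr ?_
  have hle : (P : Subgroup G) ≤ normalizer (P : Set G) := Subgroup.le_normalizer
  have hpN : p ∣ Nat.card N :=
    hpX.trans (card_dvd_of_pretransitive N (Perm.isPretransitive_of_normal_ne_bot hbot))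
  have hPN : (P : Subgroup G) ≤ N := by
    obtain ⟨y, hy⟩ := exists_prime_orderOf_dvd_card' p hpN
    have hy' : Nat.card (Subgroup.zpowers (y : G)) = p := by
      rw [Nat.card_zpowers, Subgroup.orderOf_coe, hy]
    obtain ⟨Q, hQ⟩ := (IsPGroup.of_card (p := p) (n := 1) (by rw [hy', pow_one])).exists_le_sylow
    have hQeq : Subgroup.zpowers (y : G) = Q :=
      Subgroup.eq_of_le_of_card_ge hQ (by rw [hy', card_sylow_prime hpG hp2 Q])
    obtain ⟨g, rfl⟩ := MulAction.exists_smul_eq G Q P
    intro x hx
    rw [Sylow.coe_subgroup_smul, Subgroup.mem_pointwise_smul_iff_inv_smul_mem, ← hQeq] at hx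
    have hxN : (MulAut.conj g)⁻¹ • x ∈ N := (Subgroup.zpowers_le.mpr y.2) hx
    rw [← map_inv, MulAut.smul_def, MulAut.conj_apply, inv_inv] at hxN
    have := hNn.conj_mem _ hxN g
    simpa [mul_assoc] using this
  have hsup : normalizer (P : Set G) ⊔ N = ⊤ := P.normalizer_sup_eq_top' hPN
  have hidx : N.index = N.relIndex (normalizer (P : Set G)) := by
    rw [← Subgroup.relIndex_top_right, ← hsup, Subgroup.relIndex_sup_right]
  have hmul := (N.subgroupOf (normalizer (P : Set G))).index_mul_card
  rw [← Subgroup.relIndex, ← hidx, hN] at hmul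
  have hPsub : p ∣ Nat.card (N.subgroupOf (normalizer (P : Set G))) := by
    have h := Subgroup.card_dvd_of_le
      (show (P : Subgroup G).subgroupOf (normalizer (P : Set G)) ≤
        N.subgroupOf (normalizer (P : Set G)) from fun x hx => hPN hx)
    rwa [Nat.card_congr (Subgroup.subgroupOfEquivOfLe hle).toEquiv, hP] at h
  obtain ⟨k, hk⟩ := hPsub
  rw [hk, ← mul_assoc, mul_comm N.index p, mul_assoc] at hmul
  have hk2 : N.index * k = j := Nat.eq_of_mul_eq_mul_left hpp.pos hmul
  rcases hj.eq_one_or_self_of_dvd _ ⟨k, hk2.symm⟩ with h1 | h1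
  · exact Subgroup.index_eq_one.mp h1
  exfalso
  have hk1 : k = 1 := by
    rw [h1] at hk2
    exact Nat.eq_of_mul_eq_mul_left hj.pos (by rw [hk2, mul_one])
  rw [hk1, mul_one] at hk
  -- inside `N` the subgroup `P` is its own normaliser
  let PN : Sylow p N := P.subtype hPN
  have hPNcard : Nat.card PN = p := by
    show Nat.card ((P : Subgroup G).subgroupOf N) = p
    rw [Nat.card_congr (Subgroup.subgroupOfEquivOfLe hPN).toEquiv, hP]
  have hself : ∀ x : N, (x : G) ∈ normalizer (P : Set G) → (x : G) ∈ (P : Subgroup G) := by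
    intro x hx
    have heq : (P : Subgroup G).subgroupOf (normalizer (P : Set G)) =
        N.subgroupOf (normalizer (P : Set G)) := by
      refine Subgroup.eq_of_le_of_card_ge (fun y hy => hPN hy) ?_
      rw [hk, Nat.card_congr (Subgroup.subgroupOfEquivOfLe hle).toEquiv, hP]
    have : (⟨x, hx⟩ : normalizer (P : Set G)) ∈
        N.subgroupOf (normalizer (P : Set G)) := x.2
    rw [← heq] at this
    exact this
  have hcyc : IsCyclic PN := isCyclic_of_prime_card hPNcard
  have hburn : normalizer (PN : Set N) ≤ centralizer (PN : Set N) := by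
    intro x hx
    have hxP : x ∈ (PN : Subgroup N) := by
      refine hself x ?_
      intro z
      constructor
      · intro hz
        exact (hx ⟨z, hPN hz⟩).mp hz
      · intro hz
        have hzN : z ∈ N := by
          have := hNn.conj_mem _ (hPN hz) (x : G)⁻¹
          simpa [mul_assoc] using this
        exact (hx ⟨z, hzN⟩).mpr hz
    rw [Subgroup.mem_centralizer_iff]
    intro y hy
    have hcomm : IsMulCommutative PN := hcyc.commutative
    exact congrArg Subtype.val (hcomm.is_comm.comm ⟨y, hy⟩ ⟨x, hxP⟩)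
  let K : Subgroup N := (MonoidHom.transferSylow PN hburn).ker
  have hcompl : Subgroup.IsComplement' K PN := MonoidHom.ker_transferSylow_isComplement' PN hburn
  have hKp : ¬ p ∣ Nat.card K := MonoidHom.not_dvd_card_ker_transferSylow PN hburn
  have hKn : K.Normal := MonoidHom.normal_ker _
  have hKchar : ∀ y : N, ¬ p ∣ orderOf y → y ∈ K := by
    intro y hy
    rw [MonoidHom.mem_ker, ← orderOf_eq_one_iff]
    rcases hpp.eq_one_or_self_of_dvd _
      (hPNcard ▸ orderOf_dvd_natCard (MonoidHom.transferSylow PN hburn y)) with h | h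
    · exact h
    · exact absurd (h ▸ orderOf_map_dvd (MonoidHom.transferSylow PN hburn) y) hy
  have hKGn : (K.map N.subtype).Normal := by
    refine ⟨fun x hx g => ?_⟩
    obtain ⟨y, hy, rfl⟩ := hx
    refine ⟨⟨g * y * g⁻¹, hNn.conj_mem _ y.2 g⟩, hKchar _ fun hdiv => hKp ?_, rfl⟩
    have horder : orderOf (⟨g * y * g⁻¹, hNn.conj_mem _ y.2 g⟩ : N) = orderOf (⟨y, hy⟩ : K) := by
      rw [Subgroup.orderOf_mk, Subgroup.orderOf_mk, ← Subgroup.orderOf_coe y]
      exact orderOf_injective (MulAut.conj g).toMonoidHom (MulAut.conj g).injective (y : G)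
    rw [horder] at hdiv
    exact hdiv.trans (orderOf_dvd_natCard _)
  have hKbot : K.map N.subtype = ⊥ := by
    refine htriv _ hKGn ?_
    rwa [Subgroup.card_map_of_injective N.subtype_injective]
  rw [Subgroup.map_eq_bot_iff_of_injective _ N.subtype_injective] at hKbot
  have hNcard : Nat.card N = p := by
    rw [← hcompl.card_mul_card, hKbot, Subgroup.card_bot, one_mul]
    exact hPNcard
  have hNP : N = P := (Subgroup.eq_of_le_of_card_ge hPN (by rw [hNcard, hP])).symm
  have hPn : (P : Subgroup G).Normal := hNP ▸ hNn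
  apply hne
  rw [← hN, show normalizer (P : Set G) = ⊤ from Subgroup.normalizer_eq_top (H := (P : Subgroup G)), Subgroup.card_top]

omit [Finite G] [Fact p.Prime] in
/-- A 2-transitive group with simple point stabiliser and degree not a prime power is simple. -/
theorem isSimpleGroup_of_simple_stabilizer {X : Type*} [MulAction G X] [Finite X]
    [FaithfulSMul G X] (h2 : IsMultiplyPretransitive G X 2) (hX : 2 ≤ Nat.card X)
    (hnpp : ¬ IsPrimePow (Nat.card X)) (a : X) [IsSimpleGroup (stabilizer G a)] :
    IsSimpleGroup G := by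
  have : IsPreprimitive G X := isPreprimitive_of_is_two_pretransitive h2
  have : IsPretransitive G X := isPretransitive_of_is_two_pretransitive
  have hne : Nonempty X := ⟨a⟩
  have hnt : Nontrivial G := by
    obtain ⟨x, hx⟩ := exists_ne (1 : stabilizer G a)
    exact ⟨⟨x, 1, fun h => hx (Subtype.ext h)⟩⟩
  refine ⟨fun N hNn => ?_⟩
  by_cases hbot : N = ⊥
  · exact Or.inl hbot
  refine Or.inr ?_
  have hNt := Perm.isPretransitive_of_normal_ne_bot (X := X) hbot
  have hnorm : (N.subgroupOf (stabilizer G a)).Normal := Subgroup.Normal.subgroupOf hNn _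
  rcases hnorm.eq_bot_or_eq_top with h | h
  · exfalso
    have hreg : ∀ x : X, stabilizer N x = ⊥ := by
      intro x
      rw [Subgroup.eq_bot_iff_forall]
      intro n hn
      obtain ⟨g, hg⟩ := MulAction.exists_smul_eq G x a
      have hc : g * (n : G) * g⁻¹ ∈ stabilizer G a := by
        rw [mem_stabilizer_iff, ← hg, mul_smul, mul_smul, inv_smul_smul]
        congr 1
      have := (Subgroup.eq_bot_iff_forall _).mp h ⟨_, hc⟩
        (Subgroup.mem_subgroupOf.mpr (hNn.conj_mem _ n.2 g))
      have h1 : g * (n : G) * g⁻¹ = 1 := congrArg Subtype.val this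
      exact Subtype.ext (by simpa using conj_eq_one_iff.mp h1)
    obtain ⟨-, q, hq, hexp⟩ := Perm.regular_normal_of_two_transitive h2 hNt hreg
    have : Fact q.Prime := ⟨hq⟩
    have : Finite N := Finite.of_injective _ (Perm.bijective_smul_of_regular hNt hreg a).1
    have hpg : IsPGroup q N := fun y => ⟨1, by rw [pow_one]; exact hexp y⟩
    obtain ⟨n, hn⟩ := hpg.exists_card_eq
    have hcard := Nat.card_eq_of_bijective _ (Perm.bijective_smul_of_regular hNt hreg a)
    rw [hn] at hcard
    refine hnpp ((isPrimePow_nat_iff _).mpr ⟨q, n, hq, ?_, hcard⟩)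
    rcases Nat.eq_zero_or_pos n with rfl | hpos
    · rw [pow_zero] at hcard
      omega
    · exact hpos
  · rw [Subgroup.subgroupOf_eq_top] at h
    rw [eq_top_iff]
    intro g _
    obtain ⟨⟨n, hn⟩, hna⟩ := MulAction.exists_smul_eq N a (g • a)
    have : n⁻¹ * g ∈ stabilizer G a := by
      rw [mem_stabilizer_iff, mul_smul, inv_smul_eq_iff]
      exact hna.symm
    have := N.mul_mem hn (h this)
    rwa [mul_inv_cancel_left] at this

end Cfsg.Agent.Golay
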