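/-
Golay library, part 10: the five Mathieu groups inside `Equiv.Perm GolayPt`: orders and simplicity.

Main results: `infStabilizerEquiv`, `infStabilizerEquiv₂`, `natCard_m23`, `natCard_m22`,
`isSimpleGroup_m11`, `isSimpleGroup_m12`, `isSimpleGroup_m22`, `isSimpleGroup_m23`,
`isSimpleGroup_m24`; `exists_map_of_le_five`.
-/
import Cfsg.Agent.Lib.Golay.Dodecad
import Cfsg.Agent.Lib.Golay.SimpleCriteria

set_option autoImplicit false
open scoped Pointwise symmDiff
open Cfsg MulAction
open Subgroup (normalizer centralizer)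

namespace Cfsg.Agent.Golay

/-- The stabiliser in `M24` of anything, as a group of permutations. -/
def infStabilizerEquiv {X : Type*} [MulAction (Equiv.Perm GolayPt) X] (x : X) :
    ↥(M24 ⊓ stabilizer (Equiv.Perm GolayPt) x) ≃* stabilizer M24 x where
  toFun g := ⟨⟨g.1, g.2.1⟩, g.2.2⟩
  invFun g := ⟨g.1.1, g.1.2, g.2⟩
  map_mul' _ _ := rfl

/-- The stabiliser in `M24` of two things, as a group of permutations. -/
def infStabilizerEquiv₂ {X Y : Type*} [MulAction (Equiv.Perm GolayPt) X]
    [MulAction (Equiv.Perm GolayPt) Y] (x : X) (y : Y) :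
    ↥(M24 ⊓ stabilizer (Equiv.Perm GolayPt) x ⊓ stabilizer (Equiv.Perm GolayPt) y) ≃*
      ↥(stabilizer M24 x ⊓ stabilizer M24 y) where
  toFun g := ⟨⟨g.1, g.2.1.1⟩, g.2.1.2, g.2.2⟩
  invFun g := ⟨g.1.1, ⟨g.1.2, g.2.1⟩, g.2.2⟩
  map_mul' _ _ := rfl

theorem exists_map_of_le_five {n : ℕ} (hn : n ≤ 5) (x y : Fin n ↪ GolayPt) :
    ∃ g ∈ M24, ∀ i, g (x i) = y i := by
  have h := five_transitive
  have hcard : Nat.card GolayPt = 24 := by simp
  have : IsMultiplyPretransitive M24 GolayPt n := by
    refine isMultiplyPretransitive_of_le' (n := 5) hn ?_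
    rw [ENat.card_eq_coe_natCard, hcard]
    norm_num
  obtain ⟨⟨g, hg⟩, h⟩ := exists_smul_eq M24 x y
  exact ⟨g, hg, fun i => Function.Embedding.ext_iff.mp h i⟩

theorem exists_map_one (a b : GolayPt) : ∃ g ∈ M24, g a = b := by
  obtain ⟨g, hg, h⟩ := exists_map_of_le_five (n := 1) (by norm_num)
    ⟨![a], Function.injective_of_subsingleton _⟩ ⟨![b], Function.injective_of_subsingleton _⟩
  exact ⟨g, hg, h 0⟩

theorem exists_map_two {a b c d : GolayPt} (hab : a ≠ b) (hcd : c ≠ d) :
    ∃ g ∈ M24, g a = c ∧ g b = d := by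
  obtain ⟨g, hg, h⟩ := exists_map_of_le_five (n := 2) (by norm_num)
    ⟨![a, b], by simpa [Function.Injective, Fin.forall_fin_two, eq_comm] using hab⟩
    ⟨![c, d], by simpa [Function.Injective, Fin.forall_fin_two, eq_comm] using hcd⟩
  exact ⟨g, hg, h 0, h 1⟩

theorem injective_cons {n : ℕ} {a : GolayPt} {v : Fin n → GolayPt} (ha : ∀ i, v i ≠ a)
    (hv : Function.Injective v) : Function.Injective (Matrix.vecCons a v) :=
  Fin.cons_injective_iff.mpr ⟨fun ⟨i, hi⟩ => ha i hi, hv⟩

theorem exists_map_three {a b c a' b' c' : GolayPt} (hab : a ≠ b) (hac : a ≠ c) (hbc : b ≠ c)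
    (hab' : a' ≠ b') (hac' : a' ≠ c') (hbc' : b' ≠ c') :
    ∃ g ∈ M24, g a = a' ∧ g b = b' ∧ g c = c' := by
  obtain ⟨g, hg, h⟩ := exists_map_of_le_five (n := 3) (by norm_num)
    ⟨![a, b, c], injective_cons (by simp [Fin.forall_fin_two, hab.symm, hac.symm])
      (injective_cons (by simp [hbc.symm]) (Function.injective_of_subsingleton _))⟩
    ⟨![a', b', c'], injective_cons (by simp [Fin.forall_fin_two, hab'.symm, hac'.symm])
      (injective_cons (by simp [hbc'.symm]) (Function.injective_of_subsingleton _))⟩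
  exact ⟨g, hg, h 0, h 1, h 2⟩

theorem exists_map_four {a b c d a' b' c' d' : GolayPt}
    (h : [a, b, c, d].Nodup) (h' : [a', b', c', d'].Nodup) :
    ∃ g ∈ M24, g a = a' ∧ g b = b' ∧ g c = c' ∧ g d = d' := by
  obtain ⟨g, hg, hh⟩ := exists_map_of_le_five (n := 4) (by norm_num)
    ⟨[a, b, c, d].get, List.nodup_iff_injective_get.mp h⟩
    ⟨[a', b', c', d'].get, List.nodup_iff_injective_get.mp h'⟩
  exact ⟨g, hg, hh 0, hh 1, hh 2, hh 3⟩

theorem natCard_m23 (a : GolayPt) :
    Nat.card ↥(M24 ⊓ stabilizer (Equiv.Perm GolayPt) a) = 10200960 := by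
  have h := natCard_step M24 a Finset.univ (fun _ _ => Finset.mem_univ _)
    fun y _ => exists_map_one a y
  have hcard : (Finset.univ : Finset GolayPt).card = 24 := by simp
  rw [natCard_M24, hcard] at h
  omega

theorem natCard_m22 {a b : GolayPt} (hab : a ≠ b) :
    Nat.card ↥(M24 ⊓ stabilizer (Equiv.Perm GolayPt) a ⊓ stabilizer (Equiv.Perm GolayPt) b) =
      443520 := by
  have h := natCard_step (M24 ⊓ stabilizer (Equiv.Perm GolayPt) a) b (Finset.univ.erase a)
    (fun g hg => by
      refine Finset.mem_erase.mpr ⟨fun e => hab ?_, Finset.mem_univ _⟩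
      exact g.injective ((show g a = a from hg.2).trans e.symm))
    fun y hy => by
      obtain ⟨g, hg, hga, hgb⟩ := exists_map_two hab (Finset.mem_erase.mp hy).1.symm
      exact ⟨g, ⟨hg, hga⟩, hgb⟩
  have hcard : (Finset.univ.erase a).card = 23 := by simp
  rw [natCard_m23, hcard] at h
  omega

/-- An action of a permutation group on an invariant finite set of points. -/
def onFinset (H : Subgroup (Equiv.Perm GolayPt)) (S : Finset GolayPt)
    (hS : ∀ g ∈ H, g • S = S) : SubMulAction H GolayPt where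
  carrier := S
  smul_mem' g x hx := (Finset.ext_iff.mp (hS g g.2) _).mp (Finset.smul_mem_smul_finset hx)

section centralizers

variable {G X : Type*} [Group G] [Finite G] [MulAction G X] [Finite X] [FaithfulSMul G X]
  {p : ℕ} [Fact p.Prime]

theorem card_centralizer_le_of_card_eq (hX : Nat.card X = p) (hp2 : ¬ p ^ 2 ∣ Nat.card G)
    (hp : p ∣ Nat.card G) (P : Sylow p G) : Nat.card (centralizer (P : Set G)) ≤ p := by
  have hP := card_sylow_prime hp hp2 P
  have : Nonempty X := (Nat.card_ne_zero.mp (hX ▸ (Fact.out : p.Prime).ne_zero)).1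
  obtain ⟨x, hx⟩ : ∃ x : X, stabilizer P x ≠ ⊤ := by
    by_contra h
    push Not at h
    have hsub : Subsingleton P := ⟨fun u v => Subtype.ext
      (FaithfulSMul.eq_of_smul_eq_smul (α := X) fun y => by
        have hu : u • y = y := mem_stabilizer_iff.mp (h y ▸ Subgroup.mem_top u)
        have hv : v • y = y := mem_stabilizer_iff.mp (h y ▸ Subgroup.mem_top v)
        exact hu.trans hv.symm)⟩
    rw [Nat.card_eq_one_iff_unique.mpr ⟨hsub, inferInstance⟩] at hP
    exact (Fact.out : p.Prime).ne_one hP.symm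
  have hidx : (stabilizer P x).index = p := by
    rcases (Fact.out : p.Prime).eq_one_or_self_of_dvd _
      (hP ▸ Subgroup.index_dvd_card (stabilizer P x)) with h | h
    · exact absurd (Subgroup.index_eq_one.mp h) hx
    · exact h
  have horb : orbit P x = Set.univ := by
    refine Set.eq_of_subset_of_ncard_le (Set.subset_univ _) ?_ (Set.toFinite _)
    rw [← index_stabilizer, hidx, Set.ncard_univ, hX]
  have htrans : IsPretransitive (P : Subgroup G) X :=
    isPretransitive_iff_base x |>.mpr fun y => (show y ∈ orbit P x from horb ▸ Set.mem_univ y)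
  have hst := Perm.stabilizer_eq_bot_of_commute_of_transitive (C := centralizer (P : Set G)) htrans
    (fun m hm c hc => Subgroup.mem_centralizer_iff.mp hc m hm) x
  have hcard := Subgroup.index_mul_card (stabilizer (centralizer (P : Set G)) x)
  rw [hst, Subgroup.card_bot, mul_one, ← hst, index_stabilizer] at hcard
  have hle := Set.ncard_le_ncard (Set.subset_univ (orbit (centralizer (P : Set G)) x))
    (Set.toFinite _)
  rw [hcard, Set.ncard_univ, hX] at hle
  exact hle

theorem card_centralizer_le_of_two_orbits (hX : Nat.card X = 2 * p)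
    (hp2 : ¬ p ^ 2 ∣ Nat.card G) (hp : p ∣ Nat.card G) (P : Sylow p G)
    (hfree : ∀ u ∈ (P : Subgroup G), ∀ x : X, u • x = x → u = 1) :
    Nat.card (centralizer (P : Set G)) ≤ 2 * p := by
  have hP := card_sylow_prime hp hp2 P
  have hpp : p.Prime := Fact.out
  have : Nonempty X := (Nat.card_ne_zero.mp (by rw [hX]; exact mul_ne_zero two_ne_zero hpp.ne_zero)).1
  obtain ⟨a⟩ := (inferInstance : Nonempty X)
  have horb : ∀ x : X, (orbit P x).ncard = p := by
    intro x
    rw [← index_stabilizer]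
    have hbot : stabilizer P x = ⊥ := (Subgroup.eq_bot_iff_forall _).mpr fun u hu =>
      Subtype.ext (hfree u u.2 x hu)
    rw [hbot, Subgroup.index_bot, hP]
  have hst : stabilizer (centralizer (P : Set G)) a = ⊥ := by
    rw [Subgroup.eq_bot_iff_forall]
    rintro ⟨c, hc⟩ hca
    have hca' : c • a = a := hca
    have hcomm : ∀ u ∈ (P : Subgroup G), ∀ x : X, c • u • x = u • c • x := fun u hu x => by
      rw [← mul_smul, ← Subgroup.mem_centralizer_iff.mp hc u hu, mul_smul]
    have hA : ∀ x ∈ orbit P a, c • x = x := by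
      rintro _ ⟨⟨u, hu⟩, rfl⟩
      show c • u • a = u • a
      rw [hcomm u hu, hca']
    have hcpow : ∀ n : ℕ, ∀ x ∈ orbit P a, c ^ n • x = x := by
      intro n
      induction n with
      | zero => intro x _; rw [pow_zero, one_smul]
      | succ n ih => intro x hx; rw [pow_succ, mul_smul, hA x hx, ih x hx]
    have hAc : (orbit P a)ᶜ.ncard = p := by
      rw [Set.ncard_compl, horb, hX]
      omega
    have hcp : c ^ p = 1 := by
      refine FaithfulSMul.eq_of_smul_eq_smul (α := X) fun x => ?_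
      rw [one_smul]
      by_cases hx : x ∈ orbit P a
      · exact hcpow p x hx
      have hB : orbit P x = (orbit P a)ᶜ := by
        refine Set.eq_of_subset_of_ncard_le (fun y hy hya => hx ?_) (by rw [hAc, horb])
          (Set.toFinite _)
        rw [← orbit_eq_iff.mpr hya, orbit_eq_iff.mpr hy]
        exact mem_orbit_self x
      have hcx : c • x ∈ orbit P x := by
        rw [hB]
        intro h
        have h' := hA _ h
        exact hx ((MulAction.injective c h') ▸ h)
      obtain ⟨⟨u, hu⟩, hux⟩ := hcx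
      have hpow : ∀ n : ℕ, c ^ n • x = u ^ n • x := by
        intro n
        induction n with
        | zero => rw [pow_zero, pow_zero]
        | succ n ih =>
          rw [pow_succ' c, mul_smul, ih, hcomm _ (Subgroup.pow_mem _ hu n), ← hux, pow_succ,
            mul_smul]
          rfl
      rw [hpow, show u ^ p = 1 from by
        rw [← hP]
        exact congrArg Subtype.val (pow_card_eq_one' (x := (⟨u, hu⟩ : (P : Subgroup G)))),
        one_smul]
    have hcP : c ∈ (P : Subgroup G) := by
      have hcN : c ∈ normalizer (P : Set G) := Subgroup.centralizer_le_normalizer _ hc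
      have hpg : IsPGroup p (Subgroup.zpowers c) := by
        rintro ⟨y, hy⟩
        obtain ⟨k, rfl⟩ := Subgroup.mem_zpowers_iff.mp hy
        refine ⟨1, Subtype.ext ?_⟩
        show (c ^ k) ^ (p ^ 1) = 1
        rw [pow_one, ← zpow_natCast (c ^ k), ← zpow_mul, mul_comm, zpow_mul, zpow_natCast, hcp,
          one_zpow]
      have hsup := hpg.to_sup_of_normal_right' P.2 (Subgroup.zpowers_le.mpr hcN)
      have heq := P.3 hsup le_sup_right
      rw [← heq]
      exact le_sup_left (a := Subgroup.zpowers c) (Subgroup.mem_zpowers c)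
    exact Subtype.ext (hfree c hcP a hca')
  have hcard := Subgroup.index_mul_card (stabilizer (centralizer (P : Set G)) a)
  rw [hst, Subgroup.card_bot, mul_one, ← hst, index_stabilizer] at hcard
  have hle := Set.ncard_le_ncard (Set.subset_univ (orbit (centralizer (P : Set G)) a))
    (Set.toFinite _)
  rw [hcard, Set.ncard_univ, hX] at hle
  exact hle

/-- Simplicity from the degree `p` and `|G| / p ≡ j (mod p)`, `j` a prime dividing `p - 1`. -/
theorem isSimpleGroup_of_prime_degree (hX : Nat.card X = p) [IsPreprimitive G X]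
    (hp : p ∣ Nat.card G) (hp2 : ¬ p ^ 2 ∣ Nat.card G) {j : ℕ} (hj : j.Prime)
    (huniq : ∀ k, k ∣ p - 1 → (Nat.card G / p) % p = k % p → k = j)
    (hne : p * j ≠ Nat.card G) : IsSimpleGroup G := by
  obtain ⟨P⟩ : Nonempty (Sylow p G) := Sylow.nonempty
  obtain ⟨k, hk, hmod⟩ := normalizer_card_split hp hp2 P
  have hC : Nat.card (centralizer (P : Set G)) = p := by
    refine le_antisymm (card_centralizer_le_of_card_eq hX hp2 hp P) ?_
    have hP := card_sylow_prime hp hp2 P
    have hcyc : IsCyclic P := isCyclic_of_prime_card hP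
    have hle : (P : Subgroup G) ≤ centralizer (P : Set G) := fun x hx =>
      Subgroup.mem_centralizer_iff.mpr fun y hy =>
        congrArg Subtype.val ((hcyc.isMulCommutative).is_comm.comm ⟨y, hy⟩ ⟨x, hx⟩)
    have h := Nat.le_of_dvd Nat.card_pos (Subgroup.card_dvd_of_le hle)
    rwa [hP] at h
  have hdvd := card_normalizer_dvd hp hp2 P
  rw [hk, hC] at hdvd
  obtain rfl := huniq k ((Nat.mul_dvd_mul_iff_left (Fact.out : p.Prime).pos).mp hdvd) hmod
  exact isSimpleGroup_of_prime_normalizer (X := X)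
    (hX ▸ (Fact.out : p.Prime).two_le) (hX ▸ dvd_rfl) hp2 hj P hk hne

end centralizers

theorem isPreprimitive_of_prime_card {G X : Type*} [Group G] [MulAction G X] [IsPretransitive G X]
    (h : (Nat.card X).Prime) : IsPreprimitive G X :=
  IsPreprimitive.of_prime_card h

/-- The point stabiliser in `M24` is simple (M23). -/
theorem isSimpleGroup_m23 (a : GolayPt) :
    IsSimpleGroup ↥(M24 ⊓ stabilizer (Equiv.Perm GolayPt) a) := by
  have hfix : ∀ g ∈ M24 ⊓ stabilizer (Equiv.Perm GolayPt) a, g a = a := fun g hg => hg.2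
  let X := onFinset (M24 ⊓ stabilizer (Equiv.Perm GolayPt) a) (Finset.univ.erase a) fun g hg => by
    rw [smul_eq_image, Finset.image_erase g.injective, hfix g hg,
      Finset.image_univ_equiv]
  have hX : Nat.card X = 23 := by
    show Nat.card ↥((Finset.univ.erase a : Finset GolayPt) : Set GolayPt) = 23
    simp
  have hne : ∀ x : X, (x : GolayPt) ≠ a := fun x => (Finset.mem_erase.mp (show (x : GolayPt) ∈ Finset.univ.erase a from x.2)).1
  have : FaithfulSMul ↥(M24 ⊓ stabilizer (Equiv.Perm GolayPt) a) X := by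
    refine ⟨fun {g h} e => Subtype.ext (Equiv.ext fun x => ?_)⟩
    by_cases hx : x = a
    · rw [hx, hfix g g.2, hfix h h.2]
    · exact congrArg Subtype.val (e ⟨x, Finset.mem_erase.mpr ⟨hx, Finset.mem_univ _⟩⟩)
  have : IsPretransitive ↥(M24 ⊓ stabilizer (Equiv.Perm GolayPt) a) X := by
    refine ⟨fun x y => ?_⟩
    obtain ⟨g, hg, hga, hgb⟩ := exists_map_two (hne x).symm (hne y).symm
    exact ⟨⟨g, hg, hga⟩, Subtype.ext hgb⟩
  have := isPreprimitive_of_prime_card
    (G := ↥(M24 ⊓ stabilizer (Equiv.Perm GolayPt) a)) (X := X) (by rw [hX]; norm_num)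
  have : Fact (Nat.Prime 23) := ⟨by norm_num⟩
  refine isSimpleGroup_of_prime_degree (X := X) (j := 11) hX ?_ ?_ (by norm_num) ?_ ?_ <;>
    rw [natCard_m23]
  · norm_num
  · norm_num
  · intro k hk hm
    exact (by decide +kernel : ∀ k < 23, k ∣ 22 → 10200960 / 23 % 23 = k % 23 → k = 11) k
      (Nat.lt_succ_of_le (Nat.le_of_dvd (by norm_num) hk)) hk hm
  · norm_num

/-- M11 is simple. -/
theorem isSimpleGroup_m11 {d : Finset GolayPt} (hd : d ∈ dodecads) {a : GolayPt} (ha : a ∈ d) :
    IsSimpleGroup ↥(M24 ⊓ stabilizer (Equiv.Perm GolayPt) d ⊓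
      stabilizer (Equiv.Perm GolayPt) a) := by
  let H := M24 ⊓ stabilizer (Equiv.Perm GolayPt) d ⊓ stabilizer (Equiv.Perm GolayPt) a
  have hfix : ∀ g ∈ H, g a = a := fun g hg => hg.2
  let X := onFinset H (d.erase a) fun g hg => by
    rw [smul_eq_image, Finset.image_erase g.injective, hfix g hg]
    exact congrArg (fun s => Finset.erase s a) (show g • d = d from hg.1.2)
  have hX : Nat.card X = 11 := by
    show Nat.card ↥((d.erase a : Finset GolayPt) : Set GolayPt) = 11
    simp [ha, show d.card = 12 from hd.2]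
  have : FaithfulSMul H X := by
    refine ⟨fun {g h} e => Subtype.ext ?_⟩
    obtain ⟨s, hs, hsc⟩ := Finset.exists_subset_card_eq
      (show 5 ≤ d.card by rw [show d.card = 12 from hd.2]; norm_num)
    refine ((inv_mul_eq_one).mp ?_).symm
    refine eq_one_of_five_dodecad (mul_mem (inv_mem h.2.1.1) g.2.1.1) hd ?_
      ((Finset.equivFinOfCardEq hsc).symm.toEmbedding.trans (Function.Embedding.subtype _))
      (fun i => hs ((Finset.equivFinOfCardEq hsc).symm i).2) fun i => ?_
    · rw [mul_smul, show (g : Equiv.Perm GolayPt) • d = d from g.2.1.2, inv_smul_eq_iff]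
      exact (show (h : Equiv.Perm GolayPt) • d = d from h.2.1.2).symm
    · rw [Equiv.Perm.mul_apply, Equiv.Perm.inv_eq_iff_eq]
      generalize hx : ((Finset.equivFinOfCardEq hsc).symm i : GolayPt) = x
      have hxd : x ∈ d := hx ▸ hs ((Finset.equivFinOfCardEq hsc).symm i).2
      show (g : Equiv.Perm GolayPt) (((Finset.equivFinOfCardEq hsc).symm i : GolayPt)) =
        (h : Equiv.Perm GolayPt) ((Finset.equivFinOfCardEq hsc).symm i : GolayPt)
      rw [hx]
      by_cases hxa : x = a
      · rw [hxa, hfix g g.2, hfix h h.2]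
      · exact congrArg Subtype.val (e ⟨x, Finset.mem_erase.mpr ⟨hxa, hxd⟩⟩)
  have : IsPretransitive H X := by
    refine ⟨fun x y => ?_⟩
    obtain ⟨hxa, hxd⟩ := Finset.mem_erase.mp (show (x : GolayPt) ∈ d.erase a from x.2)
    obtain ⟨hya, hyd⟩ := Finset.mem_erase.mp (show (y : GolayPt) ∈ d.erase a from y.2)
    obtain ⟨f⟩ := exists_five_embedding hd
    obtain ⟨z⟩ : Nonempty (Fin 5 ↪ {p // p ∈ d}) := ⟨f⟩
    let e₁ : Equiv.Perm {p // p ∈ d} := Equiv.swap (z 0) ⟨a, ha⟩
    let z₁ := z.trans e₁.toEmbedding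
    let tx := z₁.trans (Equiv.swap (z₁ 1) ⟨x, hxd⟩).toEmbedding
    let ty := z₁.trans (Equiv.swap (z₁ 1) ⟨y, hyd⟩).toEmbedding
    have h0 : z₁ 0 = ⟨a, ha⟩ := by simp [z₁, e₁]
    have h01 : z₁ 0 ≠ z₁ 1 := fun h => absurd (z₁.injective h) (by decide)
    have htx0 : tx 0 = ⟨a, ha⟩ := by
      show Equiv.swap (z₁ 1) ⟨x, hxd⟩ (z₁ 0) = _
      rw [Equiv.swap_apply_of_ne_of_ne h01 (by rw [h0]; intro h; exact hxa (congrArg Subtype.val h).symm), h0]
    have hty0 : ty 0 = ⟨a, ha⟩ := by
      show Equiv.swap (z₁ 1) ⟨y, hyd⟩ (z₁ 0) = _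
      rw [Equiv.swap_apply_of_ne_of_ne h01 (by rw [h0]; intro h; exact hya (congrArg Subtype.val h).symm), h0]
    obtain ⟨g, hg, -⟩ := existsUnique_map_five_dodecad hd
      (tx.trans (Function.Embedding.subtype _)) (ty.trans (Function.Embedding.subtype _))
      (fun i => (tx i).2) (fun i => (ty i).2)
    have hga := hg 0
    have hgx := hg 1
    simp only [Function.Embedding.trans_apply, Function.Embedding.subtype_apply, htx0, hty0] at hga
    refine ⟨⟨((g : M24) : Equiv.Perm GolayPt), ⟨(g : M24).2, g.2⟩, hga⟩, Subtype.ext ?_⟩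
    show ((g : M24) : Equiv.Perm GolayPt) (x : GolayPt) = y
    simpa [tx, ty] using hgx
  have := isPreprimitive_of_prime_card (G := H) (X := X) (by rw [hX]; norm_num)
  have : Fact (Nat.Prime 11) := ⟨by norm_num⟩
  refine isSimpleGroup_of_prime_degree (G := H) (X := X) (j := 5) hX ?_ ?_ (by norm_num) ?_ ?_ <;>
    rw [natCard_m11 hd ha]
  · norm_num
  · norm_num
  · intro k hk hm
    exact (by decide +kernel : ∀ k < 11, k ∣ 10 → 7920 / 11 % 11 = k % 11 → k = 5) k
      (Nat.lt_succ_of_le (Nat.le_of_dvd (by norm_num) hk)) hk hm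
  · norm_num

/-- M12 is simple. -/
theorem isSimpleGroup_m12 {d : Finset GolayPt} (hd : d ∈ dodecads) :
    IsSimpleGroup ↥(M24 ⊓ stabilizer (Equiv.Perm GolayPt) d) := by
  let H := M24 ⊓ stabilizer (Equiv.Perm GolayPt) d
  let X := onFinset H d fun g hg => hg.2
  have hX : Nat.card X = 12 := by
    show Nat.card ↥((d : Finset GolayPt) : Set GolayPt) = 12
    simp [show d.card = 12 from hd.2]
  have : FaithfulSMul H X := by
    refine ⟨fun {g h} e => Subtype.ext ?_⟩
    obtain ⟨s, hs, hsc⟩ := Finset.exists_subset_card_eq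
      (show 5 ≤ d.card by rw [show d.card = 12 from hd.2]; norm_num)
    refine ((inv_mul_eq_one).mp ?_).symm
    refine eq_one_of_five_dodecad (mul_mem (inv_mem h.2.1) g.2.1) hd ?_
      ((Finset.equivFinOfCardEq hsc).symm.toEmbedding.trans (Function.Embedding.subtype _))
      (fun i => hs ((Finset.equivFinOfCardEq hsc).symm i).2) fun i => ?_
    · rw [mul_smul, show (g : Equiv.Perm GolayPt) • d = d from g.2.2, inv_smul_eq_iff]
      exact (show (h : Equiv.Perm GolayPt) • d = d from h.2.2).symm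
    · rw [Equiv.Perm.mul_apply, Equiv.Perm.inv_eq_iff_eq]
      exact congrArg Subtype.val (e ⟨_, hs ((Finset.equivFinOfCardEq hsc).symm i).2⟩)
  have h2 : IsMultiplyPretransitive H X 2 := by
    rw [is_two_pretransitive_iff]
    intro x x' y y' hxy hxy'
    obtain ⟨z⟩ := exists_five_embedding hd
    have hswap : ∀ u v : {p // p ∈ d}, u ≠ v → ∃ w : Fin 5 ↪ {p // p ∈ d}, w 0 = u ∧ w 1 = v := by
      intro u v huv
      let w₁ := z.trans (Equiv.swap (z 0) u).toEmbedding
      have h0 : w₁ 0 = u := by simp [w₁]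
      have h01 : w₁ 0 ≠ w₁ 1 := fun h => absurd (w₁.injective h) (by decide)
      refine ⟨w₁.trans (Equiv.swap (w₁ 1) v).toEmbedding, ?_, by simp⟩
      show Equiv.swap (w₁ 1) v (w₁ 0) = u
      rw [Equiv.swap_apply_of_ne_of_ne h01 (h0 ▸ huv), h0]
    obtain ⟨u, hu0, hu1⟩ := hswap ⟨x, x.2⟩ ⟨x', x'.2⟩
      fun h => hxy (Subtype.ext (congrArg Subtype.val h))
    obtain ⟨v, hv0, hv1⟩ := hswap ⟨y, y.2⟩ ⟨y', y'.2⟩
      fun h => hxy' (Subtype.ext (congrArg Subtype.val h))
    obtain ⟨g, hg, -⟩ := existsUnique_map_five_dodecad hd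
      (u.trans (Function.Embedding.subtype _)) (v.trans (Function.Embedding.subtype _))
      (fun i => (u i).2) (fun i => (v i).2)
    refine ⟨⟨((g : M24) : Equiv.Perm GolayPt), (g : M24).2, g.2⟩, Subtype.ext ?_, Subtype.ext ?_⟩
    · show ((g : M24) : Equiv.Perm GolayPt) (x : GolayPt) = y
      simpa [hu0, hv0] using hg 0
    · show ((g : M24) : Equiv.Perm GolayPt) (x' : GolayPt) = y'
      simpa [hu1, hv1] using hg 1
  obtain ⟨a, ha⟩ := Finset.card_pos.mp (show 0 < d.card by rw [show d.card = 12 from hd.2]; norm_num)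
  let e : stabilizer H (⟨a, ha⟩ : X) ≃* ↥(M24 ⊓ stabilizer (Equiv.Perm GolayPt) d ⊓
      stabilizer (Equiv.Perm GolayPt) a) :=
    { toFun := fun g => ⟨g.1.1, g.1.2, congrArg Subtype.val g.2⟩
      invFun := fun g => ⟨⟨g.1, g.2.1⟩, Subtype.ext g.2.2⟩
      map_mul' := fun _ _ => rfl }
  have := isSimpleGroup_m11 hd ha
  have : IsSimpleGroup (stabilizer H (⟨a, ha⟩ : X)) := e.isSimpleGroup
  exact isSimpleGroup_of_simple_stabilizer (G := H) h2 (by rw [hX]; norm_num)
    (by rw [hX]; decide +kernel) (⟨a, ha⟩ : X)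

/-- An element of order dividing `11` of `M24` with three fixed points is trivial. -/
theorem eq_one_of_pow_eleven {g : Equiv.Perm GolayPt} (hg : g ∈ M24) (hpow : g ^ 11 = 1)
    {a b c : GolayPt} (hab : a ≠ b) (hac : a ≠ c) (hbc : b ≠ c) (ha : g a = a) (hb : g b = b)
    (hc : g c = c) : g = 1 := by
  have : Fact (Nat.Prime 11) := ⟨by norm_num⟩
  let F : Finset GolayPt := g.supportᶜ
  have hmod : F.card % 11 = 24 % 11 := by
    have := Equiv.Perm.card_compl_support_modEq (p := 11) (n := 1) (σ := g) (by rwa [pow_one])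
    simpa [Nat.ModEq, F] using this
  have hF3 : 3 ≤ F.card := by
    have hsub : ({a, b, c} : Finset GolayPt) ⊆ F := by
      intro x hx
      simp only [Finset.mem_insert, Finset.mem_singleton] at hx
      rcases hx with rfl | rfl | rfl <;> simp [F, ha, hb, hc]
    have h := Finset.card_le_card hsub
    rwa [Finset.card_eq_three.mpr ⟨a, b, c, hab, hac, hbc, rfl⟩] at h
  have hF : 9 ≤ F.card := by omega
  have hFfix : ∀ x ∈ F, g x = x := fun x hx => by simpa [F] using hx
  obtain ⟨s, hsF, hs⟩ := Finset.exists_subset_card_eq (show 5 ≤ F.card by omega)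
  obtain ⟨ho, hso⟩ := octadOf_spec hs
  have hgo : g • octadOf s = octadOf s := by
    refine (octadOf_eq hs (smul_mem_octads hg ho) fun x hx => ?_).symm
    rw [← hFfix x (hsF hx)]
    exact Finset.smul_mem_smul_finset (hso hx)
  have hinv : ∀ x, g x ∈ octadOf s ↔ x ∈ octadOf s := fun x => by
    conv_lhs => rw [← hgo]
    exact Finset.smul_mem_smul_finset_iff g
  have hOfix : ∀ x ∈ octadOf s, g x = x := by
    have he : g.subtypePerm hinv = 1 := by
      rw [← orderOf_eq_one_iff]
      refine Nat.dvd_one.mp ?_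
      have h11 : orderOf (g.subtypePerm hinv) ∣ 11 := by
        refine orderOf_dvd_of_pow_eq_one ?_
        rw [Equiv.Perm.subtypePerm_pow]
        exact Equiv.ext fun x => Subtype.ext (by simp [hpow])
      have h8 := orderOf_dvd_natCard (g.subtypePerm hinv)
      rw [Nat.card_eq_fintype_card, Fintype.card_perm, Fintype.card_coe,
        show (octadOf s).card = 8 from ho.2] at h8
      exact (show Nat.gcd 11 (Nat.factorial 8) = 1 by decide +kernel) ▸ Nat.dvd_gcd h11 h8
    exact fun x hx => congrArg Subtype.val (Equiv.Perm.ext_iff.mp he ⟨x, hx⟩)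
  obtain ⟨q, hqF, hqo⟩ := Finset.exists_mem_notMem_of_card_lt_card
    (show (octadOf s).card < F.card by rw [show (octadOf s).card = 8 from ho.2]; omega)
  obtain ⟨t, hto, ht⟩ := Finset.exists_subset_card_eq
    (show 6 ≤ (octadOf s).card by rw [show (octadOf s).card = 8 from ho.2]; norm_num)
  let e6 := (Finset.equivFinOfCardEq ht).symm
  let x : Fin 7 → GolayPt := Fin.snoc (fun i => (e6 i : GolayPt)) q
  have hx : IsFrame x := by
    refine ⟨Fin.snoc_injective_of_injective (Subtype.val_injective.comp e6.injective) ?_,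
      octadOf s, ho, fun i hi => ?_, ?_⟩
    · rintro ⟨i, hi⟩
      exact hqo (hi ▸ hto (e6 i).2)
    · have : i = Fin.castSucc (⟨i.val, hi⟩ : Fin 6) := rfl
      rw [this]
      simp only [x, Fin.snoc_castSucc]
      exact hto (e6 _).2
    · show x (Fin.last 6) ∉ _
      simp only [x, Fin.snoc_last]
      exact hqo
  refine eq_one_of_frame hg hx fun i => ?_
  refine Fin.lastCases ?_ (fun j => ?_) i
  · simp only [x, Fin.snoc_last]
    exact hFfix q hqF
  · simp only [x, Fin.snoc_castSucc]
    exact hOfix _ (hto (e6 j).2)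

/-- M22 is simple. -/
theorem isSimpleGroup_m22 {a b : GolayPt} (hab : a ≠ b) :
    IsSimpleGroup ↥(M24 ⊓ stabilizer (Equiv.Perm GolayPt) a ⊓
      stabilizer (Equiv.Perm GolayPt) b) := by
  let H := M24 ⊓ stabilizer (Equiv.Perm GolayPt) a ⊓ stabilizer (Equiv.Perm GolayPt) b
  let X := onFinset H ((Finset.univ.erase a).erase b) fun g hg => by
    rw [smul_eq_image, Finset.image_erase g.injective, Finset.image_erase g.injective,
      show g a = a from hg.1.2,
      show g b = b from hg.2, Finset.image_univ_equiv]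
  have hX : Nat.card X = 22 := by
    show Nat.card ↥(((Finset.univ.erase a).erase b : Finset GolayPt) : Set GolayPt) = 22
    simp [hab.symm]
  have hne : ∀ x : X, (x : GolayPt) ≠ a ∧ (x : GolayPt) ≠ b := fun x =>
    have h := Finset.mem_erase.mp (show (x : GolayPt) ∈ (Finset.univ.erase a).erase b from x.2)
    ⟨(Finset.mem_erase.mp h.2).1, h.1⟩
  have : FaithfulSMul H X := by
    refine ⟨fun {g h} e => Subtype.ext (Equiv.ext fun x => ?_)⟩
    by_cases hxa : x = a
    · rw [hxa, show (g : Equiv.Perm GolayPt) a = a from g.2.1.2,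
        show (h : Equiv.Perm GolayPt) a = a from h.2.1.2]
    by_cases hxb : x = b
    · rw [hxb, show (g : Equiv.Perm GolayPt) b = b from g.2.2,
        show (h : Equiv.Perm GolayPt) b = b from h.2.2]
    exact congrArg Subtype.val (e ⟨x, Finset.mem_erase.mpr
      ⟨hxb, Finset.mem_erase.mpr ⟨hxa, Finset.mem_univ _⟩⟩⟩)
  have h2 : IsMultiplyPretransitive H X 2 := by
    rw [is_two_pretransitive_iff]
    intro x x' y y' hxy hxy'
    have hd : ∀ u v : X, u ≠ v → [a, b, (u : GolayPt), (v : GolayPt)].Nodup := fun u v huv => by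
      simp [hab, (hne u).1.symm, (hne u).2.symm, (hne v).1.symm, (hne v).2.symm,
        Subtype.coe_ne_coe.mpr huv]
    obtain ⟨g, hg, hga, hgb, hgx, hgx'⟩ := exists_map_four (hd x x' hxy) (hd y y' hxy')
    exact ⟨⟨g, ⟨hg, hga⟩, hgb⟩, Subtype.ext hgx, Subtype.ext hgx'⟩
  have : IsPreprimitive H X := isPreprimitive_of_is_two_pretransitive h2
  have : Fact (Nat.Prime 11) := ⟨by norm_num⟩
  have hcard : Nat.card H = 443520 := natCard_m22 hab
  have hp : 11 ∣ Nat.card H := by rw [hcard]; norm_num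
  have hp2 : ¬ 11 ^ 2 ∣ Nat.card H := by rw [hcard]; norm_num
  obtain ⟨P⟩ : Nonempty (Sylow 11 H) := Sylow.nonempty
  obtain ⟨j, hj, hmod⟩ := normalizer_card_split hp hp2 P
  have hfree : ∀ u ∈ (P : Subgroup H), ∀ x : X, u • x = x → u = 1 := by
    intro u hu x hx
    refine Subtype.ext (eq_one_of_pow_eleven u.2.1.1 ?_ hab (hne x).1.symm (hne x).2.symm
      u.2.1.2 u.2.2 (congrArg Subtype.val hx))
    have h : (⟨u, hu⟩ : (P : Subgroup H)) ^ Nat.card (P : Subgroup H) = 1 := pow_card_eq_one'
    rw [card_sylow_prime hp hp2 P] at h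
    exact congrArg Subtype.val (congrArg Subtype.val h)
  have hC := card_centralizer_le_of_two_orbits (X := X) (by rw [hX]) hp2 hp P hfree
  have hP11 := card_sylow_prime hp hp2 P
  have hcyc : IsCyclic P := isCyclic_of_prime_card hP11
  have hle : (P : Subgroup H) ≤ centralizer (P : Set H) := fun x hx =>
    Subgroup.mem_centralizer_iff.mpr fun y hy =>
      congrArg Subtype.val ((hcyc.isMulCommutative).is_comm.comm ⟨y, hy⟩ ⟨x, hx⟩)
  obtain ⟨c, hc⟩ := Subgroup.card_dvd_of_le hle
  rw [hP11] at hc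
  have hdvd := card_normalizer_dvd hp hp2 P
  rw [hj, hc, mul_assoc] at hdvd
  have hdvd' : j ∣ c * 10 := (Nat.mul_dvd_mul_iff_left (by norm_num)).mp hdvd
  rw [hcard] at hmod
  have hc2 : c ≤ 2 := by omega
  have hc0 : 0 < c := by
    have := (Nat.card_pos : 0 < Nat.card (centralizer (P : Set H)))
    omega
  have hj5 : j = 5 := by
    have hj20 : j ≤ 20 := le_trans (Nat.le_of_dvd (by omega) hdvd') (by omega)
    exact (by decide +kernel : ∀ c < 3, ∀ j < 21, j ∣ c * 10 → 0 < c →
      443520 / 11 % 11 = j % 11 → j = 5) c (by omega) j (by omega) hdvd' hc0 hmod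
  subst hj5
  exact isSimpleGroup_of_prime_normalizer (G := H) (X := X) (by rw [hX]; norm_num)
    (by rw [hX]; norm_num) hp2 (by norm_num) P hj (by rw [hcard]; norm_num)

/-- M24 is simple. -/
theorem isSimpleGroup_m24 : IsSimpleGroup M24 := by
  have hX : Nat.card GolayPt = 24 := by simp
  have h2 : IsMultiplyPretransitive M24 GolayPt 2 := by
    rw [is_two_pretransitive_iff]
    intro x x' y y' hxy hxy'
    obtain ⟨g, hg, h1, h2⟩ := exists_map_two hxy hxy'
    exact ⟨⟨g, hg⟩, h1, h2⟩
  have := isSimpleGroup_m23 none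
  have : IsSimpleGroup (stabilizer M24 (none : GolayPt)) :=
    (infStabilizerEquiv (none : GolayPt)).symm.isSimpleGroup
  exact isSimpleGroup_of_simple_stabilizer (G := M24) h2 (by rw [hX]; norm_num)
    (by rw [hX]; decide +kernel) (none : GolayPt)

end Cfsg.Agent.Golay
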