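/-
Golay library, part 17: permutations stabilising the first octad that carry one representative to every
octad with the same trace on it.
-/
import Cfsg.Agent.EqLemmas

set_option autoImplicit false

namespace Cfsg.Agent.Golay

/-- Trace, representative and transporters for meeting in 0 points. -/
def meet0Data : ℕ × ℕ × List ℕ :=
  (0x0, 0x527c0,
   [0xbdab49ca307b9ac5a928398a418820,
    0x12646b4233a014b6bcec220351b8b7,
    0x1d2b054eec5b9b6419e92480708a25,
    0x4d09550af90595b19ab81c648dc4e,
    0x142676ae2fb0e462312a4503575c05,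
    0x8d8f54d1c6789528351322c2cb80a3,
    0x29167d224314edaa5729c1ccb8861,
    0x7515661c4930d73836a47a0b2b8620,
    0x1a6686d42fa1647b2d50312ec74402,
    0x758874544b781b432a69640b288c37,
    0x1be1651c0ba0aad4cd8834a240b8b7,
    0x15a4a5d63078c879d126620ad75c20,
    0x8c11349c74b5d8b7c94da90061142e,
    0x8c9b6255d3800c85aa877a42c196e2,
    0xbb1563d22858a09336557cca40046e,
    0xbbda89123683974a992c51c13188a1,
    0x8bd53a31d630a153ad1269069b8025,
    0x9db4acc6f9390a61ad05a624100b7,
    0x721353486ba16cc21d4d7cc10b8451,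
    0x14d075d2f0a86d2611aa7a4668940e,
    0x2b54961c36580d3852447a1d588ae3,
    0x8ae50acc6d7968a230e8b240670457,
    0x1ded4c1ca20a885c99699a3508cb7,
    0xd2134d8685dcc79354fab2242b802,
    0xbb54821c4f9820b3564cb25d4884a3,
    0x8b1ea95853585b4442a721869bb8a0,
    0xb28d32a285808f3da534d4b015c6e,
    0xba5ac7da35305129c28a59ca470c02,
    0xa0ef81a2b602932264dad86a15dc5,
    0x2c1b24bc6c33a6745a845d44a886e0])

/-- Trace, representative and transporters for meeting in 2 points. -/
def meet2Data : ℕ × ℕ × List ℕ :=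
  (0x3, 0x10f13,
   [0xbdab49ca307b9ac5a928398a418820,
    0xbb1f3a4232ab916218ed4a8ab18820,
    0xb99b28523343aaa4b16f258a718820,
    0xbb4c93ae2453ac893e8c9d4b018820,
    0xbbd8459e29b39559b606920b418820,
    0xbd6cb22627638cfa224a834b318820,
    0xbd17661a2a23933ac1a7448af18820,
    0xbcc8cb2a265b8f47c9096c0b518820,
    0xbc92655a2c3b9706cea47d0a818820,
    0xb9e086be3593a6952d94b10a618820,
    0xbae957b6289ba44b1cd0524ac18820,
    0xb926faa22da3a0b6255231cb618820,
    0xba64d4562f83a87312d362caa18820,
    0xbc0ea332364b892451ebaccad18820,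
    0xba1474922b3398d85676a3cb218820,
    0xba91094e346b9e63d8955b0a918820])

/-- Trace, representative and transporters for meeting in 4 points. -/
def meet4Data : ℕ × ℕ × List ℕ :=
  (0xf, 0x149f,
   [0xbae957b6289ba44b1cd0524ac18820,
    0xbd6cb22627638cfa224a834b318820,
    0xbcc8cb2a265b8f47c9096c0b518820,
    0xb926faa22da3a0b6255231cb618820])

end Cfsg.Agent.Golay
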