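/-
Golay library, part 16: the stabiliser of an octad in M24 is a split extension 2^4 : A8.

Main results: `natCard_octadStab`, `octadFix`, `natCard_octadFix`, `mul_self_octadFix`,
`eq_one_of_octad_point`, `octadRes`, `range_octadRes`, `octadRes_surjective`, `exists_octad_point`,
`octadPointEquiv`, `exists_extend_octad_alt`.
-/
import Cfsg.Agent.Lib.Golay.Dodecad

set_option autoImplicit false
open scoped Pointwise symmDiff
open Cfsg MulAction

namespace Cfsg.Agent.Golay

/-- The permutations in M24 stabilising `o`. -/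
abbrev octadStab (o : Finset GolayPt) : Subgroup (Equiv.Perm GolayPt) :=
  M24 ⊓ stabilizer (Equiv.Perm GolayPt) o

/-- The permutations in M24 fixing `o` pointwise. -/
abbrev octadFix (o : Finset GolayPt) : Subgroup (Equiv.Perm GolayPt) :=
  M24 ⊓ fixingSubgroup (Equiv.Perm GolayPt) (o : Set GolayPt)

theorem mem_octadFix {o : Finset GolayPt} {g : Equiv.Perm GolayPt} :
    g ∈ octadFix o ↔ g ∈ M24 ∧ ∀ p ∈ o, g p = p := by
  simp [mem_fixingSubgroup_iff]

theorem natCard_octadStab {o : Finset GolayPt} (ho : o ∈ octads) :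
    Nat.card (octadStab o) = 322560 := by
  have e : ↥(octadStab o) ≃ stabilizer M24 o :=
    { toFun := fun g => ⟨⟨g.1, g.2.1⟩, g.2.2⟩
      invFun := fun g => ⟨g.1.1, g.1.2, g.2⟩ }
  rw [Nat.card_congr e]
  have horb : orbit M24 o = octads := by
    ext s
    refine ⟨?_, fun hs => ?_⟩
    · rintro ⟨g, rfl⟩
      exact smul_mem_octads g.2 ho
    · obtain ⟨g, hg, h⟩ := exists_map_octad ho hs
      exact ⟨⟨g, hg⟩, h⟩
  have h := (stabilizer M24 o).index_mul_card
  rw [index_stabilizer, horb, ncard_octads, natCard_M24] at h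
  omega

/-- Seven points: six of `o` and a point outside. -/
theorem exists_frame_in {o : Finset GolayPt} (ho : o ∈ octads) {e : GolayPt} (he : e ∉ o) :
    ∃ x : Fin 7 → GolayPt, IsFrame x ∧ (∀ i : Fin 7, i.val < 6 → x i ∈ o) ∧ x 6 = e := by
  obtain ⟨t, hto, ht⟩ := Finset.exists_subset_card_eq (show 6 ≤ o.card by rw [ho.2]; norm_num)
  let e6 := (Finset.equivFinOfCardEq ht).symm
  have hin : ∀ i : Fin 7, i.val < 6 →
      (Fin.snoc (fun i => (e6 i : GolayPt)) e : Fin 7 → GolayPt) i ∈ o := fun i hi => by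
    rw [show i = Fin.castSucc (⟨i.val, hi⟩ : Fin 6) from rfl, Fin.snoc_castSucc]
    exact hto (e6 _).2
  have hlast : (Fin.snoc (fun i => (e6 i : GolayPt)) e : Fin 7 → GolayPt) 6 = e :=
    Fin.snoc_last (α := fun _ => GolayPt) e (fun i => (e6 i : GolayPt))
  refine ⟨_, ⟨Fin.snoc_injective_of_injective (Subtype.val_injective.comp e6.injective) ?_,
    o, ho, hin, ?_⟩, hin, hlast⟩
  · rintro ⟨i, hi⟩
    exact he (hi ▸ hto (e6 i).2)
  · exact fun h => he (hlast ▸ h)

theorem eq_one_of_octad_point {o : Finset GolayPt} (ho : o ∈ octads) {g : Equiv.Perm GolayPt}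
    (hg : g ∈ M24) (hfix : ∀ p ∈ o, g p = p) {e : GolayPt} (he : e ∉ o) (hge : g e = e) :
    g = 1 := by
  obtain ⟨x, hx, hin, hlast⟩ := exists_frame_in ho he
  refine eq_one_of_frame hg hx fun i => ?_
  by_cases hi : i.val < 6
  · exact hfix _ (hin i hi)
  · rw [show i = 6 from Fin.ext (by omega), hlast, hge]

theorem octadFix_octad0 : octadFix (pts octad0) = chain 6 := by
  refine le_antisymm (fun g hg => ?_) fun g hg => ?_
  · rw [mem_octadFix] at hg
    refine mem_chain.mpr ⟨hg.1, fun i hi => hg.2 _ ?_⟩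
    exact (by decide +kernel : ∀ i < 6, bpt i ∈ pts octad0) i hi
  · obtain ⟨d, hd, -, hgd⟩ := exists_transversal_mem (k := 6) (by norm_num) hg
    rw [show (6 + 1 : ℕ) = 7 from rfl, chain_seven, Subgroup.mem_bot, inv_mul_eq_one] at hgd
    subst hgd
    have h : ∀ d ∈ transTable.getD 6 [], (isAut d && (List.range 24).all fun i =>
        !octad0.testBit i || fn d i == i) = true := by decide +kernel
    have hd' := h d hd
    simp only [Bool.and_eq_true, List.all_eq_true, List.mem_range, Bool.or_eq_true,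
      Bool.not_eq_true', beq_iff_eq] at hd'
    refine mem_octadFix.mpr ⟨toPerm_mem_M24 hd'.1, fun p hp => idx_injective ?_⟩
    rw [idx_toPerm (validPerm_of_isAut hd'.1)]
    rcases hd'.2 _ (idx_lt p) with h' | h'
    · rw [mem_pts, h'] at hp; simp at hp
    · exact h'

theorem conj_mem_octadFix {o : Finset GolayPt} {t g : Equiv.Perm GolayPt} (ht : t ∈ M24)
    (hg : g ∈ octadFix (t • o)) : t⁻¹ * g * t ∈ octadFix o := by
  rw [mem_octadFix] at hg ⊢
  refine ⟨mul_mem (mul_mem (inv_mem ht) hg.1) ht, fun p hp => ?_⟩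
  rw [Equiv.Perm.mul_apply, Equiv.Perm.mul_apply,
    hg.2 (t p) (Finset.smul_mem_smul_finset hp), Equiv.Perm.coe_inv, Equiv.symm_apply_apply]

theorem natCard_octadFix {o : Finset GolayPt} (ho : o ∈ octads) : Nat.card (octadFix o) = 16 := by
  obtain ⟨t, ht, rfl⟩ := exists_map_octad octad0_mem ho
  have h6 := natCard_chain 6 (by norm_num)
  rw [← octadFix_octad0] at h6
  refine Eq.trans (Nat.card_congr ?_) h6
  refine
    { toFun := fun g => ⟨t⁻¹ * g * t, conj_mem_octadFix ht g.2⟩
      invFun := fun g => ⟨t * g * t⁻¹, ?_⟩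
      left_inv := fun g => Subtype.ext (by simp [mul_assoc])
      right_inv := fun g => Subtype.ext (by simp [mul_assoc]) }
  have h := conj_mem_octadFix (o := t • pts octad0) (t := t⁻¹) (inv_mem ht)
    (g := (g : Equiv.Perm GolayPt)) (by rw [inv_smul_smul]; exact g.2)
  rwa [inv_inv] at h

theorem mul_self_octadFix {o : Finset GolayPt} (ho : o ∈ octads) {g : Equiv.Perm GolayPt}
    (hg : g ∈ octadFix o) : g * g = 1 := by
  obtain ⟨t, ht, rfl⟩ := exists_map_octad octad0_mem ho
  have h := conj_mem_octadFix ht hg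
  rw [octadFix_octad0] at h
  obtain ⟨d, hd, haut, hgd⟩ := exists_transversal_mem (k := 6) (by norm_num) h
  rw [show (6 + 1 : ℕ) = 7 from rfl, chain_seven, Subgroup.mem_bot, inv_mul_eq_one] at hgd
  have hinv : ∀ d ∈ transTable.getD 6 [],
      ((List.range 24).all fun i => fn d (fn d i) == i) = true := by decide +kernel
  have hsq : toPerm d * toPerm d = 1 := by
    refine Equiv.ext fun p => idx_injective ?_
    have hv := validPerm_of_isAut haut
    have h' := hinv d hd
    simp only [List.all_eq_true, List.mem_range, beq_iff_eq] at h'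
    rw [Equiv.Perm.mul_apply, idx_toPerm hv, idx_toPerm hv, h' _ (idx_lt p)]
    rfl
  rw [hgd] at hsq
  calc g * g = t * ((t⁻¹ * g * t) * (t⁻¹ * g * t)) * t⁻¹ := by group
    _ = 1 := by rw [hsq]; group

theorem mem_iff_of_mem_octadStab {o : Finset GolayPt} {g : Equiv.Perm GolayPt}
    (hg : g ∈ octadStab o) (p : GolayPt) : g p ∈ o ↔ p ∈ o := by
  have h : g • o = o := hg.2
  conv_lhs => rw [← h]
  exact Finset.smul_mem_smul_finset_iff g

/-- The action of the stabiliser on the octad. -/
def octadRes (o : Finset GolayPt) : ↥(octadStab o) →* Equiv.Perm ↥o where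
  toFun g := (g : Equiv.Perm GolayPt).subtypePerm (mem_iff_of_mem_octadStab g.2)
  map_one' := Equiv.ext fun _ => rfl
  map_mul' _ _ := Equiv.ext fun _ => rfl

theorem octadRes_apply (o : Finset GolayPt) (g : ↥(octadStab o)) (p : ↥o) :
    (octadRes o g p : GolayPt) = (g : Equiv.Perm GolayPt) p := rfl

theorem mem_ker_octadRes {o : Finset GolayPt} {g : ↥(octadStab o)} :
    g ∈ (octadRes o).ker ↔ (g : Equiv.Perm GolayPt) ∈ octadFix o := by
  rw [MonoidHom.mem_ker, mem_octadFix]
  exact ⟨fun h => ⟨g.2.1, fun p hp => congrArg Subtype.val (Equiv.Perm.ext_iff.mp h ⟨p, hp⟩)⟩,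
    fun h => Equiv.ext fun p => Subtype.ext (h.2 p p.2)⟩

theorem range_octadRes {o : Finset GolayPt} (ho : o ∈ octads) :
    (octadRes o).range = alternatingGroup ↥o := by
  have hle : octadFix o ≤ octadStab o := fun g hg => by
    rw [mem_octadFix] at hg
    refine ⟨hg.1, ?_⟩
    show g • o = o
    rw [smul_eq_image, Finset.image_congr (f := g) (g := id) fun p hp => hg.2 p hp,
      Finset.image_id]
  have hker : Nat.card (octadRes o).ker = 16 := by
    rw [← natCard_octadFix ho]
    exact Nat.card_congr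
      { toFun := fun g => ⟨g.1.1, mem_ker_octadRes.mp g.2⟩
        invFun := fun g => ⟨⟨g.1, hle g.2⟩, mem_ker_octadRes.mpr g.2⟩ }
  have hc := (octadRes o).ker.index_mul_card
  rw [Subgroup.index_ker, hker, natCard_octadStab ho] at hc
  have h := (octadRes o).range.index_mul_card
  have hperm : Nat.card (Equiv.Perm ↥o) = 40320 := by
    rw [Nat.card_eq_fintype_card, Fintype.card_perm, Fintype.card_coe, show o.card = 8 from ho.2]
    rfl
  rw [hperm] at h
  refine Equiv.Perm.eq_alternatingGroup_of_index_eq_two ?_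
  have : Nat.card (octadRes o).range = 20160 := by omega
  rw [this] at h
  omega

/-- Every even permutation of an octad extends to an element of M24. -/
theorem octadRes_surjective {o : Finset GolayPt} (ho : o ∈ octads) {e : Equiv.Perm ↥o}
    (he : e ∈ alternatingGroup ↥o) : ∃ g, octadRes o g = e := by
  rw [← range_octadRes ho] at he
  exact he

/-- The stabiliser of an octad is transitive on its complement. -/
theorem exists_octad_point {o : Finset GolayPt} (ho : o ∈ octads) {p q : GolayPt} (hp : p ∉ o)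
    (hq : q ∉ o) : ∃ g ∈ octadFix o, g p = q := by
  have hsplit : ∀ g ∈ octadFix o, g p ∈ oᶜ := fun g hg => Finset.mem_compl.mpr fun h => by
    have := (mem_octadFix.mp hg).2 _ h
    exact hp (g.injective this ▸ h)
  let f : ↥(octadFix o) → {x // x ∈ oᶜ} :=
    fun g => ⟨(g : Equiv.Perm GolayPt) p, hsplit g g.2⟩
  have hinj : Function.Injective f := fun g h he => by
    refine Subtype.ext ((inv_mul_eq_one.mp ?_).symm)
    have hh := mem_octadFix.mp h.2
    have hgg := mem_octadFix.mp g.2
    refine eq_one_of_octad_point ho (mul_mem (inv_mem hh.1) hgg.1) (fun x hx => ?_) hp ?_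
    · rw [Equiv.Perm.mul_apply, hgg.2 x hx, Equiv.Perm.inv_eq_iff_eq, hh.2 x hx]
    · rw [Equiv.Perm.mul_apply, Equiv.Perm.inv_eq_iff_eq]
      exact congrArg Subtype.val he
  have hbij : Function.Bijective f := (Nat.bijective_iff_injective_and_card f).mpr ⟨hinj, by
    rw [natCard_octadFix ho, Nat.card_eq_fintype_card, Fintype.card_coe, Finset.card_compl,
      show o.card = 8 from ho.2]
    rfl⟩
  obtain ⟨g, hg⟩ := hbij.2 ⟨q, Finset.mem_compl.mpr hq⟩
  exact ⟨g, g.2, congrArg Subtype.val hg⟩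

/-- An even permutation of an octad extends with one outside point fixed. -/
theorem exists_extend_octad_alt {o : Finset GolayPt} (ho : o ∈ octads) {p : GolayPt} (hp : p ∉ o)
    {e : Equiv.Perm ↥o} (he : e ∈ alternatingGroup ↥o) :
    ∃ g ∈ octadStab o ⊓ stabilizer (Equiv.Perm GolayPt) p, ∀ x : ↥o, g x = e x := by
  obtain ⟨g, rfl⟩ := octadRes_surjective ho he
  have hgp : (g : Equiv.Perm GolayPt) p ∉ o := fun h => hp ((mem_iff_of_mem_octadStab g.2 p).mp h)
  obtain ⟨u, hu, hup⟩ := exists_octad_point ho hgp hp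
  rw [mem_octadFix] at hu
  refine ⟨u * g, ⟨⟨mul_mem hu.1 g.2.1, ?_⟩, hup⟩, fun x => ?_⟩
  · show (u * (g : Equiv.Perm GolayPt)) • o = o
    rw [mul_smul, show (g : Equiv.Perm GolayPt) • o = o from g.2.2, smul_eq_image,
      Finset.image_congr (f := u) (g := id) fun q hq => hu.2 q hq, Finset.image_id]
  · rw [Equiv.Perm.mul_apply, hu.2 _ ((mem_iff_of_mem_octadStab g.2 x).mpr x.2)]
    rfl

/-- The stabiliser of an octad and an outside point is the alternating group of the octad. -/
noncomputable def octadPointEquiv {o : Finset GolayPt} (ho : o ∈ octads) {p : GolayPt}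
    (hp : p ∉ o) : ↥(octadStab o ⊓ stabilizer (Equiv.Perm GolayPt) p) ≃* alternatingGroup ↥o :=
  MulEquiv.ofBijective
    (M := ↥(octadStab o ⊓ stabilizer (Equiv.Perm GolayPt) p)) (N := alternatingGroup ↥o)
    (F := ↥(octadStab o ⊓ stabilizer (Equiv.Perm GolayPt) p) →* alternatingGroup ↥o)
    { toFun := fun g => ⟨octadRes o ⟨g.1, g.2.1⟩, range_octadRes ho ▸ ⟨⟨g.1, g.2.1⟩, rfl⟩⟩
      map_one' := Subtype.ext (map_one (octadRes o))
      map_mul' := fun g h => Subtype.ext (map_mul (octadRes o) ⟨g.1, g.2.1⟩ ⟨h.1, h.2.1⟩) }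
    ⟨fun g h he => by
        refine Subtype.ext ((inv_mul_eq_one.mp ?_).symm)
        refine eq_one_of_octad_point ho (mul_mem (inv_mem h.2.1.1) g.2.1.1) (fun x hx => ?_) hp ?_
        · rw [Equiv.Perm.mul_apply, Equiv.Perm.inv_eq_iff_eq]
          exact congrArg Subtype.val (Equiv.Perm.ext_iff.mp (congrArg Subtype.val he) ⟨x, hx⟩)
        · rw [Equiv.Perm.mul_apply, Equiv.Perm.inv_eq_iff_eq]
          exact (show (g : Equiv.Perm GolayPt) p = p from g.2.2).trans
            (show (h : Equiv.Perm GolayPt) p = p from h.2.2).symm,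
      fun e => by
        obtain ⟨g, hg, hge⟩ := exists_extend_octad_alt ho hp e.2
        exact ⟨⟨g, hg⟩, Subtype.ext (Equiv.ext fun x => Subtype.ext (hge x))⟩⟩

end Cfsg.Agent.Golay
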