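/-
Golay library, part 18: orbits of an octad stabiliser on octads.

Main results: `exists_map_subset`, `exists_map_octad_pair` (S1556 form).
-/
import Cfsg.Agent.Lib.Golay.OctadStab
import Cfsg.Agent.Lib.Golay.OctadOrbitData

set_option autoImplicit false
open scoped Pointwise symmDiff
open Cfsg MulAction

namespace Cfsg.Agent.Golay

/-- Even permutations are transitive on subsets of size between two and the degree. -/
theorem exists_even_map {α : Type*} [Fintype α] [DecidableEq α] {s t : Finset α}
    (h : s.card = t.card) (h2 : 2 ≤ t.card) :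
    ∃ e ∈ alternatingGroup α, s.image e = t := by
  have hc : Fintype.card {x // x ∈ s} = Fintype.card {x // x ∈ t} := by simpa using h
  let e₁ : {x // x ∈ s} ≃ {x // x ∈ t} := Fintype.equivOfCardEq hc
  let e : Equiv.Perm α := e₁.extendSubtype
  have himg : s.image e = t := by
    refine Finset.eq_of_subset_of_card_le (fun y hy => ?_) (by
      rw [Finset.card_image_of_injective _ e.injective, h])
    obtain ⟨x, hx, rfl⟩ := Finset.mem_image.mp hy
    exact Equiv.extendSubtype_mem e₁ x hx
  by_cases he : e ∈ alternatingGroup α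
  · exact ⟨e, he, himg⟩
  obtain ⟨a, ha, b, hb, hab⟩ := Finset.one_lt_card.mp (show 1 < t.card by omega)
  refine ⟨Equiv.swap a b * e, ?_, ?_⟩
  · rw [Equiv.Perm.mem_alternatingGroup] at he ⊢
    rw [map_mul, Equiv.Perm.sign_swap hab]
    rcases Int.units_eq_one_or (Equiv.Perm.sign e) with h' | h'
    · exact absurd h' he
    · rw [h']; rfl
  · rw [Equiv.Perm.coe_mul, ← Finset.image_image, himg]
    ext y
    simp only [Finset.mem_image]
    constructor
    · rintro ⟨x, hx, rfl⟩
      by_cases hxa : x = a
      · rw [hxa, Equiv.swap_apply_left]; exact hb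
      by_cases hxb : x = b
      · rw [hxb, Equiv.swap_apply_right]; exact ha
      rwa [Equiv.swap_apply_of_ne_of_ne hxa hxb]
    · intro hy
      refine ⟨Equiv.swap a b y, ?_, Equiv.swap_apply_self a b y⟩
      by_cases hya : y = a
      · rw [hya, Equiv.swap_apply_left]; exact hb
      by_cases hyb : y = b
      · rw [hyb, Equiv.swap_apply_right]; exact ha
      rwa [Equiv.swap_apply_of_ne_of_ne hya hyb]

theorem exists_map_subset {o : Finset GolayPt} (ho : o ∈ octads) {s t : Finset GolayPt}
    (hs : s ⊆ o) (ht : t ⊆ o) (h : s.card = t.card) (h2 : s.card = 0 ∨ 2 ≤ s.card) :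
    ∃ g ∈ octadStab o, g • s = t := by
  rcases h2 with h2 | h2
  · refine ⟨1, one_mem _, ?_⟩
    rw [one_smul, Finset.card_eq_zero.mp h2, Finset.card_eq_zero.mp (h ▸ h2 : t.card = 0)]
  have hsc : ∀ {u : Finset GolayPt}, u ⊆ o → (Finset.subtype (· ∈ o) u).card = u.card :=
    fun {u} hu => by
      rw [Finset.card_subtype, Finset.filter_true_of_mem fun x hx => hu hx]
  obtain ⟨e, he, hst⟩ := exists_even_map (s := Finset.subtype (· ∈ o) s)
    (t := Finset.subtype (· ∈ o) t) (by rw [hsc hs, hsc ht, h]) (by rw [hsc ht]; omega)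
  obtain ⟨g, hg⟩ := octadRes_surjective ho he
  refine ⟨g, g.2, Finset.eq_of_subset_of_card_le (fun y hy => ?_)
    (by rw [Finset.card_smul_finset, h])⟩
  obtain ⟨x, hx, rfl⟩ := Finset.mem_smul_finset.mp hy
  have h1 : e ⟨x, hs hx⟩ ∈ Finset.subtype (· ∈ o) t :=
    hst ▸ Finset.mem_image_of_mem e (Finset.mem_subtype.mpr hx)
  rw [Finset.mem_subtype, ← hg, octadRes_apply] at h1
  exact h1

/-- The check of one table of transporters. -/
def meetCheck (data : ℕ × ℕ × List ℕ) : Bool :=
  data.2.2.all (fun d => isAut d && imgMask d octad0 == octad0) &&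
    allSpan (fun c => !(popcount c == 8 && c &&& octad0 == data.1) ||
      data.2.2.any fun d => imgMask d data.2.1 == c) rows 0

theorem exists_map_meet {data : ℕ × ℕ × List ℕ} (h : meetCheck data = true)
    {c : Finset GolayPt} (hc : c ∈ octads) (hi : pts octad0 ∩ c = pts data.1)
    (hlt : data.1 < 2 ^ 24) : ∃ g ∈ octadStab (pts octad0), g • pts data.2.1 = c := by
  simp only [meetCheck, Bool.and_eq_true, List.all_eq_true, beq_iff_eq] at h
  obtain ⟨x, -, hxc⟩ := mem_supports_iff_exists.mp hc.1
  have h1 := allSpan_rows h.2 x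
  have hpc : popcount (enc x) = 8 := by rw [← card_pts, hxc]; exact hc.2
  have hand : enc x &&& octad0 = data.1 := by
    refine pts_injOn (Nat.and_lt_two_pow _ (by decide +kernel)) hlt ?_
    rw [pts_and, hxc, Finset.inter_comm, hi]
  rw [hpc, hand] at h1
  simp only [beq_self_eq_true, Bool.and_self, Bool.not_true, Bool.false_or, List.any_eq_true,
    beq_iff_eq] at h1
  obtain ⟨d, hd, hdc⟩ := h1
  obtain ⟨haut, hfix⟩ := h.1 d hd
  refine ⟨toPerm d, ⟨toPerm_mem_M24 haut, ?_⟩, ?_⟩
  · show toPerm d • pts octad0 = pts octad0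
    rw [← pts_imgMask (validPerm_of_isAut haut), hfix]
  · rw [← pts_imgMask (validPerm_of_isAut haut), hdc, hxc]

theorem exists_map_of_meet {data : ℕ × ℕ × List ℕ} {o' o'' : Finset GolayPt}
    (hd : meetCheck data = true) (hlt : data.1 < 2 ^ 24) (hand : data.1 &&& octad0 = data.1)
    (hk : (pts octad0 ∩ o').card = popcount data.1)
    (hk' : (pts octad0 ∩ o'').card = popcount data.1)
    (h2 : popcount data.1 = 0 ∨ 2 ≤ popcount data.1)
    (ho' : o' ∈ octads) (ho'' : o'' ∈ octads) :
    ∃ g ∈ octadStab (pts octad0), g • o' = o'' := by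
  have hs : pts data.1 ⊆ pts octad0 := by
    rw [← hand, pts_and]; exact Finset.inter_subset_right
  obtain ⟨a, ha, ha'⟩ := exists_map_subset octad0_mem Finset.inter_subset_left hs
    (hk.trans (card_pts _).symm) (hk ▸ h2)
  obtain ⟨b, hb, hb'⟩ := exists_map_subset octad0_mem Finset.inter_subset_left hs
    (hk'.trans (card_pts _).symm) (hk' ▸ h2)
  have hmove : ∀ {g : Equiv.Perm GolayPt}, g ∈ octadStab (pts octad0) → ∀ s : Finset GolayPt,
      g • (pts octad0 ∩ s) = pts octad0 ∩ g • s := fun {g} hg s => by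
    rw [Finset.smul_finset_inter, show g • pts octad0 = pts octad0 from hg.2]
  obtain ⟨c, hc, hc'⟩ := exists_map_meet hd (smul_mem_octads ha.1 ho')
    (by rw [← hmove ha]; exact ha') hlt
  obtain ⟨e, he, he'⟩ := exists_map_meet hd (smul_mem_octads hb.1 ho'')
    (by rw [← hmove hb]; exact hb') hlt
  refine ⟨b⁻¹ * (e * c⁻¹) * a, mul_mem (mul_mem (inv_mem hb) (mul_mem he (inv_mem hc))) ha, ?_⟩
  rw [mul_smul, mul_smul, mul_smul, ← hc', inv_smul_smul, he', inv_smul_smul]

theorem exists_map_octad_pair0 {o' o'' : Finset GolayPt} (ho' : o' ∈ octads) (ho'' : o'' ∈ octads)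
    (h : (pts octad0 ∩ o').card = (pts octad0 ∩ o'').card) :
    ∃ g ∈ octadStab (pts octad0), g • o' = o'' := by
  rcases octad_inter_octad octad0_mem ho' with hk | hk | hk | hk
  · exact exists_map_of_meet (data := meet0Data) (by decide +kernel) (by decide +kernel)
      (by decide +kernel) (hk.trans (by decide +kernel)) ((h.symm.trans hk).trans (by decide +kernel))
      (by decide +kernel) ho' ho''
  · exact exists_map_of_meet (data := meet2Data) (by decide +kernel) (by decide +kernel)
      (by decide +kernel) (hk.trans (by decide +kernel)) ((h.symm.trans hk).trans (by decide +kernel))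
      (by decide +kernel) ho' ho''
  · exact exists_map_of_meet (data := meet4Data) (by decide +kernel) (by decide +kernel)
      (by decide +kernel) (hk.trans (by decide +kernel)) ((h.symm.trans hk).trans (by decide +kernel))
      (by decide +kernel) ho' ho''
  · subst hk
    refine ⟨1, one_mem _, ?_⟩
    rw [one_smul]
    refine octad_eq_of_five octad0_mem ho'' ?_
    rw [← h, Finset.inter_self, show (pts octad0).card = 8 from octad0_mem.2]
    norm_num

/-- Two octads meeting a fixed octad in equally many points are conjugate in its stabiliser. -/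
theorem exists_map_octad_pair {o o' o'' : Finset GolayPt} (ho : o ∈ octads) (ho' : o' ∈ octads)
    (ho'' : o'' ∈ octads) (h : (o ∩ o').card = (o ∩ o'').card) :
    ∃ g ∈ octadStab o, g • o' = o'' := by
  obtain ⟨t, ht, hto⟩ := exists_map_octad ho octad0_mem
  have hcard : ∀ s : Finset GolayPt, (pts octad0 ∩ t • s).card = (o ∩ s).card := fun s => by
    rw [← hto, ← Finset.smul_finset_inter, Finset.card_smul_finset]
  obtain ⟨g, hg, hgo⟩ := exists_map_octad_pair0 (smul_mem_octads ht ho') (smul_mem_octads ht ho'')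
    (by rw [hcard, hcard, h])
  refine ⟨t⁻¹ * g * t, Subgroup.mem_inf.mpr
    ⟨mul_mem (mul_mem (inv_mem ht) hg.1) ht, ?_⟩, ?_⟩
  · show (t⁻¹ * g * t) • o = o
    rw [mul_smul, mul_smul, hto, show g • pts octad0 = pts octad0 from hg.2, ← hto, inv_smul_smul]
  · rw [mul_smul, mul_smul, hgo, inv_smul_smul]

end Cfsg.Agent.Golay
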