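/-
Golay library, part 28: families of point sets given by lists of masks; orbit enumeration by
breadth-first lists; permutations induced by the stabiliser of a family.

Main results: `toFinS`, `smul_toFinS`, `bfs`, `mem_of_mem_bfs`, `nodup_of_distinctBits`,
`interCount_smul`, `orbit_stabilizer_smul`, `stabPerm`, `natCard_stabilizer_eq`.
-/
import Cfsg.Agent.Lib.Golay.Mathieu

set_option autoImplicit false
open scoped Pointwise
open Cfsg MulAction

namespace Cfsg.Agent.Golay

/-- The family of sets coded by a list of masks. -/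
def toFinS (L : List ℕ) : Finset (Finset GolayPt) := (L.map pts).toFinset

theorem mem_toFinS {L : List ℕ} {s : Finset GolayPt} : s ∈ toFinS L ↔ ∃ m ∈ L, pts m = s := by
  simp [toFinS]

theorem smul_toFinS {d : ℕ} (hd : validPerm d = true) (L : List ℕ) :
    toPerm d • toFinS L = toFinS (L.map (imgMask d)) := by
  ext s
  rw [Finset.mem_smul_finset, mem_toFinS]
  simp only [mem_toFinS, List.mem_map, exists_exists_and_eq_and, pts_imgMask hd]

/-- An element maps a family onto itself if it maps it into itself. -/
theorem smul_eq_self_of_maps {g : Equiv.Perm GolayPt} {S : Finset (Finset GolayPt)}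
    (h : ∀ s ∈ S, g • s ∈ S) : g • S = S := by
  refine Finset.eq_of_subset_of_card_le ?_ (by rw [Finset.card_smul_finset])
  intro x hx
  obtain ⟨s, hs, rfl⟩ := Finset.mem_smul_finset.mp hx
  exact h s hs

/-- The check that a code gives an element of `M24` stabilising the family coded by `L`. -/
def stabOk (L : List ℕ) (d : ℕ) : Bool :=
  isAut d && L.all fun m => L.contains (imgMask d m)

theorem toPerm_smul_toFinS {L : List ℕ} {d : ℕ} (h : stabOk L d = true) :
    toPerm d • toFinS L = toFinS L := by
  simp only [stabOk, Bool.and_eq_true, List.all_eq_true, List.contains_iff_mem] at h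
  refine smul_eq_self_of_maps fun s hs => ?_
  obtain ⟨m, hm, rfl⟩ := mem_toFinS.mp hs
  exact mem_toFinS.mpr ⟨_, h.2 m hm, pts_imgMask (validPerm_of_isAut h.1) m⟩

theorem toPerm_mem_stab {L : List ℕ} {d : ℕ} (h : stabOk L d = true) :
    (⟨toPerm d, toPerm_mem_M24 (Bool.and_eq_true_iff.mp h).1⟩ : ↥M24) ∈
      stabilizer M24 (toFinS L) :=
  mem_stabilizer_iff.mpr (toPerm_smul_toFinS h)

/-! ### Orbit lists -/

/-- The images of `x` under the generators picked out by the bits of `f`. -/
def expand (gens : List ℕ) (f : ℕ) (x : List ℕ) : List (List ℕ) :=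
  ((List.range gens.length).filter fun i => f.testBit i).map fun i =>
    x.map (imgMask (gens.getD i 0))

/-- Breadth-first enumeration with given branchings; the queue is `front ++ back.reverse`. -/
def bfs (gens : List ℕ) :
    List ℕ → List (List ℕ) → List (List ℕ) → List (List ℕ) → List (List ℕ)
  | [], _, _, out => out
  | f :: fs, x :: front, back, out =>
    bfs gens fs front ((expand gens f x).reverse ++ back) (expand gens f x ++ out)
  | f :: fs, [], back, out =>
    match back.reverse with
    | [] => out
    | x :: front => bfs gens fs front (expand gens f x).reverse (expand gens f x ++ out)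

theorem mem_of_mem_bfs (gens : List ℕ) (P : List ℕ → Prop)
    (h : ∀ d ∈ gens, ∀ x, P x → P (x.map (imgMask d))) :
    ∀ (fs : List ℕ) (front back out : List (List ℕ)), (∀ x ∈ front, P x) → (∀ x ∈ back, P x) →
      (∀ x ∈ out, P x) → ∀ y ∈ bfs gens fs front back out, P y
  | [], _, _, _, _, _, ho, y, hy => ho y hy
  | f :: fs, x :: front, back, out, hf, hb, ho, y, hy => by
    have hx := hf x (List.mem_cons_self ..)
    have he : ∀ z ∈ expand gens f x, P z := by
      intro z hz
      simp only [expand, List.mem_map, List.mem_filter, List.mem_range] at hz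
      obtain ⟨i, ⟨hi, -⟩, rfl⟩ := hz
      exact h _ (List.getD_eq_getElem gens 0 hi ▸ List.getElem_mem hi) x hx
    refine mem_of_mem_bfs gens P h fs front _ _ (fun z hz => hf z (List.mem_cons_of_mem _ hz))
      (fun z hz => ?_) (fun z hz => ?_) y hy
    · rcases List.mem_append.mp hz with hz | hz
      · exact he z (List.mem_reverse.mp hz)
      · exact hb z hz
    · rcases List.mem_append.mp hz with hz | hz
      · exact he z hz
      · exact ho z hz
  | f :: fs, [], back, out, _, hb, ho, y, hy => by
    rw [bfs] at hy
    split at hy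
    · exact ho y hy
    · next x front heq =>
      have hq : ∀ z ∈ x :: front, P z := fun z hz =>
        hb z (List.mem_reverse.mp (heq ▸ hz))
      have he : ∀ z ∈ expand gens f x, P z := by
        intro z hz
        simp only [expand, List.mem_map, List.mem_filter, List.mem_range] at hz
        obtain ⟨i, ⟨hi, -⟩, rfl⟩ := hz
        exact h _ (List.getD_eq_getElem gens 0 hi ▸ List.getElem_mem hi) x
          (hq x (List.mem_cons_self ..))
      refine mem_of_mem_bfs gens P h fs front _ _ (fun z hz => hq z (List.mem_cons_of_mem _ hz))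
        (fun z hz => he z (List.mem_reverse.mp hz)) (fun z hz => ?_) y hy
      rcases List.mem_append.mp hz with hz | hz
      · exact he z hz
      · exact ho z hz

/-- The orbit list from a representative. -/
def orbitList (gens fs rep : List ℕ) : List (List ℕ) := bfs gens fs [rep] [] [rep]

theorem mem_orbit_of_mem_orbitList {L gens fs rep : List ℕ}
    (hg : ∀ d ∈ gens, stabOk L d = true) {y : List ℕ} (hy : y ∈ orbitList gens fs rep) :
    toFinS y ∈ orbit (stabilizer M24 (toFinS L)) (toFinS rep) := by
  refine mem_of_mem_bfs gens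
    (fun x => toFinS x ∈ orbit (stabilizer M24 (toFinS L)) (toFinS rep)) ?_ fs [rep] [] [rep]
    ?_ (by simp) ?_ y hy
  · intro d hd x hx
    have hv := validPerm_of_isAut (Bool.and_eq_true_iff.mp (hg d hd)).1
    rw [← smul_toFinS hv]
    obtain ⟨k, hk⟩ := hx
    refine ⟨⟨_, toPerm_mem_stab (hg d hd)⟩ * k, ?_⟩
    show (⟨_, toPerm_mem_stab (hg d hd)⟩ * k : ↥(stabilizer M24 (toFinS L))) • toFinS rep = _
    rw [mul_smul, show k • toFinS rep = toFinS x from hk]
    rfl
  all_goals simp

/-- Distinctness by splitting on bits. -/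
def distinctBits : ℕ → List ℕ → Bool
  | 0, l => Nat.ble l.length 1
  | b + 1, l => Nat.ble l.length 1 ||
      (distinctBits b (l.filter fun x => x.testBit b) &&
        distinctBits b (l.filter fun x => !x.testBit b))

theorem nodup_of_distinctBits : ∀ (b : ℕ) (l : List ℕ), distinctBits b l = true → l.Nodup
  | 0, l, h => by
    simp only [distinctBits, Nat.ble_eq] at h
    match l, h with
    | [], _ => exact List.nodup_nil
    | [a], _ => exact List.nodup_singleton a
  | b + 1, l, h => by
    simp only [distinctBits, Bool.or_eq_true, Nat.ble_eq, Bool.and_eq_true] at h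
    rcases h with h | ⟨h1, h2⟩
    · match l, h with
      | [], _ => exact List.nodup_nil
      | [a], _ => exact List.nodup_singleton a
    · have n1 := List.nodup_iff_count_le_one.mp (nodup_of_distinctBits b _ h1)
      have n2 := List.nodup_iff_count_le_one.mp (nodup_of_distinctBits b _ h2)
      refine List.nodup_iff_count_le_one.mpr fun a => ?_
      by_cases ha : a.testBit b = true
      · rw [← List.count_filter (p := fun x => x.testBit b) ha]
        exact n1 a
      · rw [← List.count_filter (p := fun x => !x.testBit b) (by simpa using ha)]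
        exact n2 a

/-! ### Counting intersections -/

/-- The number of pairs of members of two families meeting in `k` points. -/
def interCount (k : ℕ) (S X : Finset (Finset GolayPt)) : ℕ :=
  ((S ×ˢ X).filter fun q => (q.1 ∩ q.2).card = k).card

theorem interCount_smul (k : ℕ) (g : Equiv.Perm GolayPt) (S X : Finset (Finset GolayPt)) :
    interCount k (g • S) (g • X) = interCount k S X := by
  unfold interCount
  symm
  refine Finset.card_bij (fun q _ => (g • q.1, g • q.2)) ?_ ?_ ?_
  · intro q hq
    simp only [Finset.mem_filter, Finset.mem_product] at hq ⊢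
    exact ⟨⟨Finset.smul_mem_smul_finset hq.1.1, Finset.smul_mem_smul_finset hq.1.2⟩,
      by rw [← Finset.smul_finset_inter, Finset.card_smul_finset, hq.2]⟩
  · intro a _ b _ h
    simp only [Prod.mk.injEq] at h
    exact Prod.ext (MulAction.injective g h.1) (MulAction.injective g h.2)
  · rintro ⟨a, b⟩ hq
    simp only [Finset.mem_filter, Finset.mem_product] at hq
    obtain ⟨⟨ha, hb⟩, hk⟩ := hq
    obtain ⟨a', ha', rfl⟩ := Finset.mem_smul_finset.mp ha
    obtain ⟨b', hb', rfl⟩ := Finset.mem_smul_finset.mp hb
    rw [← Finset.smul_finset_inter, Finset.card_smul_finset] at hk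
    exact ⟨(a', b'), Finset.mem_filter.mpr ⟨Finset.mem_product.mpr ⟨ha', hb'⟩, hk⟩, rfl⟩

/-- Orbits of a conjugate stabiliser. -/
theorem orbit_stabilizer_smul {G X : Type*} [Group G] [MulAction G X] (g : G) (s x : X) :
    orbit (stabilizer G (g • s)) (g • x) = (g • ·) '' orbit (stabilizer G s) x := by
  ext y
  constructor
  · rintro ⟨k, rfl⟩
    have hk : g⁻¹ * k.1 * g ∈ stabilizer G s := by
      rw [mem_stabilizer_iff, mul_smul, mul_smul, mem_stabilizer_iff.mp k.2, inv_smul_smul]
    refine ⟨(⟨g⁻¹ * k.1 * g, hk⟩ : stabilizer G s) • x, ⟨_, rfl⟩, ?_⟩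
    show g • ((g⁻¹ * k.1 * g) • x) = k.1 • g • x
    rw [mul_smul, mul_smul, smul_inv_smul]
  · rintro ⟨_, ⟨k, rfl⟩, rfl⟩
    have hk : g * k.1 * g⁻¹ ∈ stabilizer G (g • s) := by
      rw [mem_stabilizer_iff, mul_smul, mul_smul, inv_smul_smul, mem_stabilizer_iff.mp k.2]
    refine ⟨⟨g * k.1 * g⁻¹, hk⟩, ?_⟩
    show (g * k.1 * g⁻¹) • g • x = g • k.1 • x
    rw [mul_smul, mul_smul, inv_smul_smul]

theorem ncard_orbit_stabilizer_smul {G X : Type*} [Group G] [MulAction G X] (g : G) (s x : X) :
    (orbit (stabilizer G (g • s)) (g • x)).ncard = (orbit (stabilizer G s) x).ncard := by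
  rw [orbit_stabilizer_smul, Set.ncard_image_of_injective _ (MulAction.injective g)]

/-- The permutation of a family induced by an element of its stabiliser. -/
def stabPerm (S : Finset (Finset GolayPt)) : stabilizer M24 S →* Equiv.Perm ↥S where
  toFun g :=
    { toFun := fun t => ⟨(g.1 : Equiv.Perm GolayPt) • t.1, by
        have h := Finset.smul_mem_smul_finset (a := (g.1 : Equiv.Perm GolayPt)) t.2
        rwa [show (g.1 : Equiv.Perm GolayPt) • S = S from g.2] at h⟩
      invFun := fun t => ⟨(g.1 : Equiv.Perm GolayPt)⁻¹ • t.1, by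
        have h := Finset.smul_mem_smul_finset (a := (g.1 : Equiv.Perm GolayPt)⁻¹) t.2
        rwa [inv_smul_eq_iff.mpr (show (g.1 : Equiv.Perm GolayPt) • S = S from g.2).symm] at h⟩
      left_inv := fun t => Subtype.ext (inv_smul_smul _ _)
      right_inv := fun t => Subtype.ext (smul_inv_smul _ _) }
  map_one' := Equiv.ext fun t => Subtype.ext (one_smul _ _)
  map_mul' g h := Equiv.ext fun t => Subtype.ext (mul_smul _ _ _)

theorem stabPerm_apply (S : Finset (Finset GolayPt)) (g : stabilizer M24 S) (t : ↥S) :
    (stabPerm S g t : Finset GolayPt) = (g.1 : Equiv.Perm GolayPt) • t.1 := rfl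

theorem mem_ker_stabPerm {S : Finset (Finset GolayPt)} {g : stabilizer M24 S} :
    g ∈ (stabPerm S).ker ↔ ∀ t ∈ S, (g.1 : Equiv.Perm GolayPt) • t = t := by
  rw [MonoidHom.mem_ker, Equiv.ext_iff]
  exact ⟨fun h t ht => congrArg Subtype.val (h ⟨t, ht⟩),
    fun h t => Subtype.ext (h t.1 t.2)⟩

/-- The order of a stabiliser from the size of the orbit. -/
theorem natCard_stabilizer_eq {X : Type*} [MulAction (↥M24) X] (x : X) {n m : ℕ}
    (h : (orbit M24 x).ncard = n) (hnm : n * m = 244823040) :
    Nat.card (stabilizer M24 x) = m := by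
  have := (stabilizer M24 x).index_mul_card
  rw [index_stabilizer, h, natCard_M24, ← hnm] at this
  exact Nat.eq_of_mul_eq_mul_left (Nat.pos_of_ne_zero fun e => by simp [e] at hnm) this

end Cfsg.Agent.Golay
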