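/-
Golay library, part 12: intersection numbers in Steiner systems.

Main results: `cnt` (blocks meeting a set in j points), `moment`, `inter_lt_of_ne`, `cnt_self`,
`cnt_zero`, `containing_eq_sum` (inclusion-exclusion inside a block).
-/
import Cfsg.Agent.Lib.SteinerCount.Basic

set_option autoImplicit false
open Cfsg

namespace Cfsg.Agent.Golay.Design

open Finset SteinerCount

variable {α : Type*} [Fintype α] [DecidableEq α] {t k : ℕ} {B : Set (Finset α)}

/-- The number of blocks meeting `Y` in `j` points. -/
noncomputable def cnt (B : Set (Finset α)) (Y : Finset α) (j : ℕ) : ℕ :=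
  ((blocks B).filter fun b => (b ∩ Y).card = j).card

theorem cnt_eq_ncard (B : Set (Finset α)) (Y : Finset α) (j : ℕ) :
    cnt B Y j = {b : Finset α | b ∈ B ∧ (b ∩ Y).card = j}.ncard :=
  (card_inter_counts Y j).symm

/-- Blocks through an `i`-set, for `i ≤ t`, when `lam` solves the counting equation. -/
theorem card_through (hB : IsSteinerSystem t k B) {Z : Finset α} (hZ : Z.card ≤ t) (hk : t ≤ k)
    {lam : ℕ} (hlam : lam * (k - Z.card).choose (t - Z.card) =
      (Fintype.card α - Z.card).choose (t - Z.card)) :
    ((blocks B).filter (Z ⊆ ·)).card = lam := by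
  have h := card_containing_mul hB hZ
  rw [← hlam] at h
  exact Nat.eq_of_mul_eq_mul_right (Nat.choose_pos (by omega)) h

theorem card_blocks_mul (hB : IsSteinerSystem t k B) :
    B.ncard * k.choose t = (Fintype.card α).choose t := by
  have h := card_containing_mul hB (T := ∅) (by simp)
  simp only [Finset.empty_subset, Finset.filter_true, Finset.card_empty, Nat.sub_zero] at h
  rwa [blocks, ← Set.ncard_eq_toFinset_card] at h

/-- The moment equations for a set `Y`. -/
theorem moment (hB : IsSteinerSystem t k B) (hk : t ≤ k) (Y : Finset α) {i : ℕ} (hi : i ≤ t)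
    {lam : ℕ} (hlam : lam * (k - i).choose (t - i) = (Fintype.card α - i).choose (t - i)) :
    ∑ j ∈ Finset.range (Y.card + 1), cnt B Y j * j.choose i = Y.card.choose i * lam := by
  rw [← sum_choose_inter B Y i lam fun Z hZ => ?_]
  · rw [← Finset.sum_fiberwise_of_maps_to (g := fun b => (b ∩ Y).card)
      (t := Finset.range (Y.card + 1))
      (fun b _ => Finset.mem_range.mpr (Nat.lt_succ_of_le (Finset.card_le_card inter_subset_right)))]
    refine Finset.sum_congr rfl fun j _ => ?_
    rw [Finset.sum_congr rfl (g := fun _ => j.choose i) fun b hb => by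
      rw [(Finset.mem_filter.mp hb).2], Finset.sum_const, smul_eq_mul]
    rfl
  · rw [Finset.mem_powersetCard] at hZ
    refine card_through hB (by omega) hk ?_
    rw [hZ.2]
    exact hlam

/-- Two different blocks share fewer than `t` points. -/
theorem inter_lt_of_ne (hB : IsSteinerSystem t k B) {b c : Finset α} (hb : b ∈ B) (hc : c ∈ B)
    (hne : b ≠ c) : (b ∩ c).card < t := by
  by_contra h
  obtain ⟨s, hs, hst⟩ := Finset.exists_subset_card_eq (Nat.le_of_not_lt h)
  exact hne ((hB.2 s hst).unique ⟨hb, hs.trans inter_subset_left⟩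
    ⟨hc, hs.trans inter_subset_right⟩)

theorem cnt_self (hB : IsSteinerSystem t k B) (hk : t ≤ k) {b : Finset α} (hb : b ∈ B) :
    cnt B b k = 1 := by
  rw [cnt, Finset.card_eq_one]
  refine ⟨b, ?_⟩
  ext c
  simp only [mem_filter, mem_blocks, mem_singleton]
  constructor
  · rintro ⟨hc, hcard⟩
    by_contra hne
    have := inter_lt_of_ne hB hc hb hne
    omega
  · rintro rfl
    exact ⟨hb, by rw [inter_self, hB.1 _ hb]⟩

theorem cnt_zero (hB : IsSteinerSystem t k B) {b : Finset α} (hb : b ∈ B) {j : ℕ} (hj : t ≤ j)
    (hjk : j < k) : cnt B b j = 0 := by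
  rw [cnt, Finset.card_eq_zero, Finset.filter_eq_empty_iff]
  intro c hc hcard
  rw [mem_blocks] at hc
  by_cases hne : c = b
  · rw [hne, inter_self, hB.1 _ hb] at hcard
    omega
  · have := inter_lt_of_ne hB hc hb hne
    omega

theorem cnt_pos_of_mem {Y c : Finset α} (hc : c ∈ B) :
    0 < cnt B Y (c ∩ Y).card :=
  Finset.card_pos.mpr ⟨c, mem_filter.mpr ⟨mem_blocks.mpr hc, rfl⟩⟩

/-- The number of blocks meeting `b` exactly in `u`. -/
noncomputable def exactCnt (B : Set (Finset α)) (b u : Finset α) : ℕ :=
  ((blocks B).filter fun c => b ∩ c = u).card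

theorem exactCnt_eq_ncard (B : Set (Finset α)) (b u : Finset α) :
    exactCnt B b u = {c : Finset α | c ∈ B ∧ b ∩ c = u}.ncard := by
  rw [exactCnt, ← Set.ncard_coe_finset]
  congr 1
  ext c
  simp [mem_blocks]

/-- Inclusion-exclusion inside a set `b`. -/
theorem containing_eq_sum (B : Set (Finset α)) {b s : Finset α} (hs : s ⊆ b) :
    ((blocks B).filter (s ⊆ ·)).card =
      ∑ j ∈ Finset.range ((b \ s).card + 1),
        ∑ w ∈ (b \ s).powersetCard j, exactCnt B b (s ∪ w) := by
  rw [← Finset.sum_powerset, Finset.card_eq_sum_card_fiberwise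
    (f := fun c => (b ∩ c) \ s) (t := (b \ s).powerset)]
  · refine Finset.sum_congr rfl fun w hw => ?_
    rw [mem_powerset] at hw
    rw [exactCnt, filter_filter]
    refine congrArg card (Finset.filter_congr fun c _ => ?_)
    constructor
    · rintro ⟨hsc, rfl⟩
      rw [union_sdiff_of_subset (subset_inter hs hsc)]
    · intro h
      have hd : Disjoint s w := disjoint_right.mpr fun x hx => (mem_sdiff.mp (hw hx)).2
      refine ⟨fun x hx => ?_, ?_⟩
      · exact (mem_inter.mp (h ▸ mem_union_left w hx : x ∈ b ∩ c)).2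
      · rw [h, union_sdiff_cancel_left hd]
  · intro c _
    exact mem_powerset.mpr (sdiff_subset_sdiff inter_subset_left subset_rfl)

theorem exactCnt_eq_zero (hB : IsSteinerSystem t k B) {b u : Finset α} (hb : b ∈ B)
    (hu : t ≤ u.card) (hub : u.card < k) : exactCnt B b u = 0 := by
  rw [exactCnt, Finset.card_eq_zero, Finset.filter_eq_empty_iff]
  intro c hc hcard
  rw [mem_blocks] at hc
  by_cases hne : c = b
  · rw [hne, inter_self] at hcard
    have := hB.1 b hb
    rw [hcard] at this
    omega
  · have := inter_lt_of_ne hB hb hc (Ne.symm hne)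
    rw [hcard] at this
    omega

theorem exactCnt_self (hB : IsSteinerSystem t k B) (hk : t ≤ k) {b : Finset α} (hb : b ∈ B) :
    exactCnt B b b = 1 := by
  rw [exactCnt, Finset.card_eq_one]
  refine ⟨b, ?_⟩
  ext c
  simp only [mem_filter, mem_blocks, mem_singleton]
  constructor
  · rintro ⟨hc, hcard⟩
    by_contra hne
    have := inter_lt_of_ne hB hb hc (Ne.symm hne)
    rw [hcard, hB.1 b hb] at this
    omega
  · rintro rfl
    exact ⟨hb, inter_self _⟩

/-- The recursion for exact intersection counts when they depend only on the size. -/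
theorem exactCnt_rec (hB : IsSteinerSystem t k B) (hk : t ≤ k) {b s : Finset α} (hb : b ∈ B)
    (hs : s ⊆ b) (hst : s.card ≤ t) {lam : ℕ}
    (hlam : lam * (k - s.card).choose (t - s.card) =
      (Fintype.card α - s.card).choose (t - s.card))
    (e : ℕ → ℕ) (he : ∀ u, u ⊆ b → s.card < u.card → exactCnt B b u = e u.card) :
    exactCnt B b s + ∑ j ∈ Finset.range (k - s.card), (k - s.card).choose (j + 1) * e (s.card + (j + 1))
      = lam := by
  rw [← card_through hB hst hk hlam, containing_eq_sum B hs, card_sdiff_of_subset hs, hB.1 b hb,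
    Finset.sum_range_succ']
  rw [show (b \ s).powersetCard 0 = {∅} from powersetCard_zero _, sum_singleton, union_empty,
    add_comm]
  congr 1
  refine Finset.sum_congr rfl fun j _ => ?_
  rw [Finset.sum_congr rfl (g := fun _ => e (s.card + (j + 1))) fun w hw => ?_, sum_const,
    card_powersetCard, card_sdiff_of_subset hs, hB.1 b hb, smul_eq_mul]
  rw [mem_powersetCard] at hw
  have hd : Disjoint s w := disjoint_right.mpr fun x hx => (mem_sdiff.mp (hw.1 hx)).2
  rw [he _ (union_subset hs (hw.1.trans sdiff_subset)) (by rw [card_union_of_disjoint hd]; omega),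
    card_union_of_disjoint hd, hw.2]

end Cfsg.Agent.Golay.Design
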