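/-
Golay library, part 11: uniqueness of the binary Golay code.

Two self-orthogonal 12-dimensional codes of length 24 with minimum weight 8 differ by a permutation
of the coordinates.  Choose an octad `S` in each.  The words vanishing on `S` restrict to the 16
other points as the affine functions for a suitable bijection with `F₂⁴`; after matching the two
bijections, the words with part `{x₀, x}` on `S` determine the bijection of the two octads.

Main results: `exists_equiv_of_isGolay`, `pullback_isGolay`, `isGolay_of_doublyEven`,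
`exists_equiv_golayCode`, `golayCode_unique`.
-/
import Cfsg.Agent.Lib.Golay.Code
import Cfsg.Agent.Lib.AbstractGolay.Basic

set_option autoImplicit false
open scoped symmDiff

namespace Cfsg.Agent.Golay

open AbstractGolay (Word sp ind IsGolay)

theorem zmod_two_cases (a : ZMod 2) : a = 0 ∨ a = 1 := by
  revert a; decide

/-- Two binary functions with the same nonzero places are equal. -/
theorem apply_eq_of_iff {a b : ZMod 2} (h : a ≠ 0 ↔ b ≠ 0) : a = b := by
  rcases zmod_two_cases a with rfl | rfl <;> rcases zmod_two_cases b with rfl | rfl <;> simp_all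

variable {C : Submodule (ZMod 2) Word}

theorem dot_sum_comm (v w : Word) : ∑ i, v i * w i = ∑ i, w i * v i :=
  Finset.sum_congr rfl fun i _ => mul_comm _ _

theorem mem_of_orthogonal (hC : IsGolay C) {v : Word} (h : ∀ c ∈ C, ∑ i, v i * c i = 0) :
    v ∈ C := by
  let δ : Word →ₗ[ZMod 2] Module.Dual (ZMod 2) Word :=
    LinearMap.mk₂ (ZMod 2) (fun v w => ∑ i, v i * w i)
      (fun a b c => by simp [add_mul, Finset.sum_add_distrib])
      (fun c a b => by simp [Finset.mul_sum, mul_assoc])
      (fun a b c => by simp [mul_add, Finset.sum_add_distrib])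
      (fun c a b => by simp [Finset.mul_sum, mul_left_comm])
  have hδ : Function.Injective δ := by
    rw [← LinearMap.ker_eq_bot, LinearMap.ker_eq_bot']
    intro a ha
    funext i
    have := LinearMap.congr_fun ha (Pi.single i 1)
    simpa [δ, Pi.single_apply] using this
  have hdim : Module.finrank (ZMod 2) C.dualAnnihilator = 12 := by
    have := Subspace.finrank_add_finrank_dualAnnihilator_eq C
    rw [hC.dim, Module.finrank_pi, Fintype.card_fin] at this
    omega
  have hle : C.map δ ≤ C.dualAnnihilator := by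
    rintro _ ⟨c, hc, rfl⟩
    rw [Submodule.mem_dualAnnihilator]
    exact fun w hw => hC.orth c hc w hw
  have heq : C.map δ = C.dualAnnihilator := by
    refine Submodule.eq_of_le_of_finrank_eq hle ?_
    rw [hdim, ← LinearEquiv.finrank_eq (Submodule.equivMapOfInjective δ hδ C), hC.dim]
  have hv : δ v ∈ C.dualAnnihilator := (Submodule.mem_dualAnnihilator _).mpr fun w hw => h w hw
  rw [← heq] at hv
  obtain ⟨c, hc, hcv⟩ := hv
  exact hδ hcv ▸ hc

theorem one_mem_code (hC : IsGolay C) : (1 : Word) ∈ C := by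
  refine mem_of_orthogonal hC fun c hc => ?_
  have h := hC.orth c hc c hc
  rw [← h]
  refine Finset.sum_congr rfl fun i _ => ?_
  rcases zmod_two_cases (c i) with h | h <;> simp [h]

theorem exists_word_octad (hC : IsGolay C) : ∃ S : Finset (Fin 24), S.card = 8 ∧ ind S ∈ C := by
  obtain ⟨c, hc, hc8, -⟩ := hC.exists_octad
    (S := (Finset.univ : Finset (Fin 5)).map (Fin.castLEEmb (by norm_num))) (by simp)
  refine ⟨sp c, hc8, ?_⟩
  have : ind (sp c) = c := AbstractGolay.sp_inj (AbstractGolay.sp_ind _)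
  rwa [this]

theorem sp_subset_octad (hC : IsGolay C) {S : Finset (Fin 24)} (hS : S.card = 8)
    (hSC : ind S ∈ C) {v : Word} (hv : v ∈ C) (hvS : sp v ⊆ S) : v = 0 ∨ v = ind S := by
  by_cases h : (sp v).card ≤ 7
  · exact Or.inl (hC.eq_zero_of_card_le hv h)
  · refine Or.inr (AbstractGolay.sp_inj ?_)
    rw [AbstractGolay.sp_ind]
    exact Finset.eq_of_subset_of_card_le hvS (by omega)

/-- Restriction of words to a set of coordinates. -/
def resSet (S : Finset (Fin 24)) : Word →ₗ[ZMod 2] ({i // i ∈ S} → ZMod 2) :=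
  LinearMap.funLeft (ZMod 2) (ZMod 2) Subtype.val

/-- Extension by zero. -/
def extSet (S : Finset (Fin 24)) (a : {i // i ∈ S} → ZMod 2) : Word :=
  fun i => if h : i ∈ S then a ⟨i, h⟩ else 0

theorem sum_extSet_mul (S : Finset (Fin 24)) (a : {i // i ∈ S} → ZMod 2) (c : Word) :
    ∑ i, extSet S a i * c i = ∑ j : {i // i ∈ S}, a j * c j := by
  rw [← Finset.sum_subset (Finset.subset_univ S) (fun i _ hi => by simp [extSet, hi]),
    ← Finset.sum_attach]
  rw [Finset.univ_eq_attach]
  exact Finset.sum_congr rfl fun j _ => by simp [extSet, j.2]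

theorem dual_apply {ι : Type*} [Fintype ι] [DecidableEq ι] (φ : Module.Dual (ZMod 2) (ι → ZMod 2))
    (x : ι → ZMod 2) : φ x = ∑ j, φ (Pi.single j 1) * x j := by
  conv_lhs => rw [pi_eq_sum_univ' x]
  rw [map_sum]
  refine Finset.sum_congr rfl fun j _ => ?_
  rw [map_smul, smul_eq_mul, mul_comm]

/-- Every even word on an octad is the restriction of a code word. -/
theorem exists_restrict_eq (hC : IsGolay C) {S : Finset (Fin 24)} (hS : S.card = 8)
    (hSC : ind S ∈ C) {a : {i // i ∈ S} → ZMod 2} (ha : ∑ j, a j = 0) :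
    ∃ c ∈ C, ∀ j : {i // i ∈ S}, c j = a j := by
  suffices a ∈ C.map (resSet S) by
    obtain ⟨c, hc, rfl⟩ := this
    exact ⟨c, hc, fun j => rfl⟩
  rw [← Subspace.forall_mem_dualAnnihilator_apply_eq_zero_iff]
  intro φ hφ
  rw [Submodule.mem_dualAnnihilator] at hφ
  let v := extSet S fun j => φ (Pi.single j 1)
  have hv : v ∈ C := mem_of_orthogonal hC fun c hc => by
    rw [sum_extSet_mul]
    exact (dual_apply φ (resSet S c)).symm.trans (hφ _ (Submodule.mem_map_of_mem hc))
  rcases sp_subset_octad hC hS hSC hv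
    (fun i hi => by
      by_contra h
      exact (AbstractGolay.mem_sp v i).mp hi (by simp [v, extSet, h])) with h | h
  · rw [dual_apply φ a]
    refine Finset.sum_eq_zero fun j _ => ?_
    have := congrFun h j
    simp only [v, extSet, j.2, dif_pos, Subtype.coe_eta, Pi.zero_apply] at this
    rw [this, zero_mul]
  · rw [dual_apply φ a, ← ha]
    refine Finset.sum_congr rfl fun j _ => ?_
    have := congrFun h j
    simp only [v, extSet, ind, j.2, dif_pos, if_pos, Subtype.coe_eta] at this
    rw [this, one_mul]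

/-- A functional killing the words vanishing on the octad comes from the octad. -/
theorem exists_outside_eq (hC : IsGolay C) {S : Finset (Fin 24)} {v : Word}
    (hR : ∀ c ∈ C, (∀ i ∈ S, c i = 0) → ∑ i, v i * c i = 0) :
    ∃ c ∈ C, ∀ i ∉ S, c i = v i := by
  let π : C →ₗ[ZMod 2] ({i // i ∈ S} → ZMod 2) := (resSet S).comp C.subtype
  let φ : Module.Dual (ZMod 2) C :=
    { toFun := fun c => ∑ i, v i * (c : Word) i
      map_add' := fun a b => by simp [mul_add, Finset.sum_add_distrib]
      map_smul' := fun r a => by simp [Finset.mul_sum, mul_left_comm] }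
  have hφ : φ ∈ (LinearMap.ker π).dualAnnihilator := by
    rw [Submodule.mem_dualAnnihilator]
    intro c hc
    refine hR c c.2 fun i hi => ?_
    exact congrFun (LinearMap.mem_ker.mp hc) ⟨i, hi⟩
  rw [← LinearMap.range_dualMap_eq_dualAnnihilator_ker] at hφ
  obtain ⟨g, hg⟩ := hφ
  refine ⟨v + extSet S fun j => g (Pi.single j 1), mem_of_orthogonal hC fun c hc => ?_,
    fun i hi => by simp [extSet, hi]⟩
  have h1 : g (π ⟨c, hc⟩) = ∑ i, v i * c i := LinearMap.congr_fun hg ⟨c, hc⟩
  simp only [Pi.add_apply, add_mul, Finset.sum_add_distrib, sum_extSet_mul]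
  rw [← h1, dual_apply g (π ⟨c, hc⟩)]
  exact CharTwo.add_self_eq_zero _

/-- Two points outside an octad are separated by a word vanishing on it. -/
theorem exists_separating (hC : IsGolay C) {S : Finset (Fin 24)} (hS : S.card = 8)
    (hSC : ind S ∈ C) {i j : Fin 24} (hi : i ∉ S) (hj : j ∉ S) (hij : i ≠ j) :
    ∃ c ∈ C, (∀ k ∈ S, c k = 0) ∧ c i ≠ c j := by
  by_contra h
  push Not at h
  obtain ⟨c, hc, hout⟩ := exists_outside_eq hC (S := S) (v := ind {i, j}) fun r hr hrS => by
    have hsum : ∑ k, ind {i, j} k * r k = r i + r j := by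
      rw [← Finset.sum_pair hij (f := r), ← Finset.sum_subset (Finset.subset_univ {i, j})]
      · exact Finset.sum_congr rfl fun k hk => by simp only [ind]; rw [if_pos hk, one_mul]
      · intro k _ hk
        simp only [ind]
        rw [if_neg hk, zero_mul]
    rw [hsum, h r hr hrS]
    exact CharTwo.add_self_eq_zero _
  have hsub : sp c ⊆ S ∪ {i, j} := by
    intro k hk
    by_contra hks
    rw [Finset.mem_union, not_or] at hks
    refine (AbstractGolay.mem_sp c k).mp hk ?_
    rw [hout k hks.1]
    simp only [ind]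
    rw [if_neg hks.2]
  have hij' : ({i, j} : Finset (Fin 24)) ⊆ sp c := by
    intro k hk
    have hkS : k ∉ S := by
      rcases Finset.mem_insert.mp hk with rfl | hk'
      · exact hi
      · rw [Finset.mem_singleton.mp hk']; exact hj
    rw [AbstractGolay.mem_sp, hout k hkS]
    simp only [ind]
    rw [if_pos hk]
    exact one_ne_zero
  have h2 : ({i, j} : Finset (Fin 24)).card = 2 := Finset.card_pair hij
  have hd : Disjoint S {i, j} := by
    rw [Finset.disjoint_right]
    intro k hk
    rcases Finset.mem_insert.mp hk with rfl | hk'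
    · exact hi
    · rw [Finset.mem_singleton.mp hk']; exact hj
  have hu : (S ∪ {i, j}).card = 10 := by rw [Finset.card_union_of_disjoint hd, hS, h2]
  have hlo : 8 ≤ (sp c).card := by
    by_contra hlt
    have h0 := hC.eq_zero_of_card_le hc (by omega)
    subst h0
    have := hij' (Finset.mem_insert_self i _)
    simp [AbstractGolay.mem_sp] at this
  have hcard := AbstractGolay.card_add c (ind S)
  rw [AbstractGolay.sp_ind, hS] at hcard
  have hint : (sp c ∩ S).card + 2 = (sp c).card := by
    rw [← h2, ← Finset.card_union_of_disjoint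
      (Finset.disjoint_of_subset_left Finset.inter_subset_right hd)]
    refine congrArg _ (Finset.Subset.antisymm
      (Finset.union_subset Finset.inter_subset_left hij') fun k hk => ?_)
    rcases Finset.mem_union.mp (hsub hk) with hkS | hkij
    · exact Finset.mem_union_left _ (Finset.mem_inter.mpr ⟨hk, hkS⟩)
    · exact Finset.mem_union_right _ hkij
  have hz := hC.eq_zero_of_card_le (C.add_mem hc hSC) (by omega)
  have hci := congrFun hz i
  simp only [Pi.add_apply, Pi.zero_apply, ind, if_neg hi, add_zero] at hci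
  exact (AbstractGolay.mem_sp c i).mp (hij' (Finset.mem_insert_self i _)) hci

/-- An affine function on `F₂⁴`. -/
def affFun (a : ZMod 2) (w y : Fin 4 → ZMod 2) : ZMod 2 := a + ∑ k, w k * y k

/-- Outside an octad the words vanishing on it are the affine functions for a bijection with
`F₂⁴`. -/
theorem exists_coords (hC : IsGolay C) {S : Finset (Fin 24)} (hS : S.card = 8)
    (hSC : ind S ∈ C) :
    ∃ α : {i // i ∉ S} ≃ (Fin 4 → ZMod 2),
      (∀ c ∈ C, (∀ k ∈ S, c k = 0) →
        ∃ a w, ∀ i : {i // i ∉ S}, c i = affFun a w (α i)) ∧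
      ∀ a w, ∃ c ∈ C, (∀ k ∈ S, c k = 0) ∧ ∀ i : {i // i ∉ S}, c i = affFun a w (α i) := by
  classical
  obtain ⟨i₀, hi₀⟩ : ∃ i, i ∉ S := by
    by_contra h
    push Not at h
    have := Finset.card_le_card (fun i _ => h i : (Finset.univ : Finset (Fin 24)) ⊆ S)
    simp [hS] at this
  let π : C →ₗ[ZMod 2] ({i // i ∈ S} → ZMod 2) := (resSet S).comp C.subtype
  let tot : ({i // i ∈ S} → ZMod 2) →ₗ[ZMod 2] ZMod 2 := ∑ j, LinearMap.proj j
  have htot : ∀ x, tot x = ∑ j, x j := fun x => by simp [tot]
  have hne : Nonempty {i // i ∈ S} := by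
    obtain ⟨x, hx⟩ := Finset.card_pos.mp (by omega : 0 < S.card)
    exact ⟨⟨x, hx⟩⟩
  have hrange : LinearMap.range π = LinearMap.ker tot := by
    apply le_antisymm
    · rintro _ ⟨c, rfl⟩
      rw [LinearMap.mem_ker, htot]
      have h := hC.orth c c.2 (ind S) hSC
      rw [← h, ← Finset.sum_subset (Finset.subset_univ S) (fun i _ hi => by simp [ind, hi]),
        ← Finset.sum_attach S, Finset.univ_eq_attach]
      refine Finset.sum_congr rfl fun j _ => ?_
      simp [π, resSet, ind, j.2]
    · intro x hx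
      rw [LinearMap.mem_ker, htot] at hx
      obtain ⟨c, hc, h⟩ := exists_restrict_eq hC hS hSC hx
      exact ⟨⟨c, hc⟩, funext h⟩
  have hker : Module.finrank (ZMod 2) (LinearMap.ker π) = 5 := by
    have h1 := π.finrank_range_add_finrank_ker
    have h2 := tot.finrank_range_add_finrank_ker
    have hsurj : Function.Surjective tot := fun x =>
      ⟨Pi.single hne.some x, by rw [htot, Finset.sum_pi_single', if_pos (Finset.mem_univ _)]⟩
    rw [LinearMap.range_eq_top.mpr hsurj, finrank_top, Module.finrank_self, Module.finrank_pi,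
      Fintype.card_coe, hS] at h2
    rw [hrange, hC.dim] at h1
    omega
  let ev : LinearMap.ker π →ₗ[ZMod 2] ZMod 2 :=
    (LinearMap.proj i₀).comp (C.subtype.comp (LinearMap.ker π).subtype)
  have hj : (1 : Word) + ind S ∈ C := C.add_mem (one_mem_code hC) hSC
  have hj0 : (⟨1 + ind S, hj⟩ : C) ∈ LinearMap.ker π := by
    refine LinearMap.mem_ker.mpr (funext fun j => ?_)
    show (1 : ZMod 2) + ind S j = 0
    simp only [ind, j.2, if_true]
    rfl
  let J : LinearMap.ker π := ⟨⟨1 + ind S, hj⟩, hj0⟩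
  have hJ : ∀ i ∉ S, ((J : C) : Word) i = 1 := fun i hi => by simp [J, ind, hi]
  have hevJ : ev J = 1 := hJ i₀ hi₀
  have hker4 : Module.finrank (ZMod 2) (LinearMap.ker ev) = 4 := by
    have h := ev.finrank_range_add_finrank_ker
    have hsurj : Function.Surjective ev := fun x => ⟨x • J, by rw [map_smul, hevJ]; simp⟩
    rw [LinearMap.range_eq_top.mpr hsurj, finrank_top, Module.finrank_self, hker] at h
    omega
  let b := Module.finBasisOfFinrankEq (ZMod 2) (LinearMap.ker ev) hker4
  let f : {i // i ∉ S} → (Fin 4 → ZMod 2) := fun i k => (((b k).1 : C) : Word) i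
  have hdecomp : ∀ c ∈ C, (∀ k ∈ S, c k = 0) →
      ∃ a w, ∀ i : {i // i ∉ S}, c i = affFun a w (f i) := by
    intro c hc hcS
    let r : LinearMap.ker π := ⟨⟨c, hc⟩, LinearMap.mem_ker.mpr (funext fun j => hcS j j.2)⟩
    have hr : r - ev r • J ∈ LinearMap.ker ev := by
      rw [LinearMap.mem_ker, map_sub, map_smul, hevJ]
      simp
    refine ⟨ev r, fun k => b.repr ⟨_, hr⟩ k, fun i => ?_⟩
    let e : LinearMap.ker ev →ₗ[ZMod 2] ZMod 2 :=
      (LinearMap.proj (i : Fin 24)).comp
        ((C.subtype.comp (LinearMap.ker π).subtype).comp (LinearMap.ker ev).subtype)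
    have h := congrArg e (b.sum_repr ⟨_, hr⟩)
    simp only [map_sum, map_smul] at h
    have he : e ⟨_, hr⟩ = c i - ev r * 1 := by
      show (((r - ev r • J : LinearMap.ker π) : C) : Word) i = _
      simp only [Submodule.coe_sub, Submodule.coe_smul, Pi.sub_apply, Pi.smul_apply, smul_eq_mul,
        hJ i i.2]
      rfl
    rw [he, mul_one, eq_sub_iff_add_eq] at h
    rw [← h, add_comm]
    rfl
  have hinj : Function.Injective f := by
    intro i j hij
    by_contra hne'
    obtain ⟨c, hc, hcS, hcij⟩ := exists_separating hC hS hSC i.2 j.2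
      (fun h => hne' (Subtype.ext h))
    obtain ⟨a, w, haw⟩ := hdecomp c hc hcS
    exact hcij (by rw [haw i, haw j, hij])
  have hbij : Function.Bijective f := by
    refine (Fintype.bijective_iff_injective_and_card f).mpr ⟨hinj, ?_⟩
    rw [Fintype.card_fun, ZMod.card, Fintype.card_fin, Fintype.card_subtype_compl,
      Fintype.card_fin, Fintype.card_coe, hS]
    rfl
  refine ⟨Equiv.ofBijective f hbij, hdecomp, fun a w => ?_⟩
  refine ⟨(((a • J + ∑ k, w k • (b k).1 : LinearMap.ker π) : C) : Word),
    (((a • J + ∑ k, w k • (b k).1 : LinearMap.ker π) : C)).2, fun k hk => ?_, fun i => ?_⟩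
  · exact congrFun (LinearMap.mem_ker.mp (a • J + ∑ k, w k • (b k).1 : LinearMap.ker π).2) ⟨k, hk⟩
  · simp only [Submodule.coe_add, Submodule.coe_smul, Submodule.coe_sum, Pi.add_apply,
      Pi.smul_apply, Finset.sum_apply, smul_eq_mul, hJ i i.2, mul_one]
    rfl

/-- Weight of a word split by a set of coordinates. -/
theorem card_sp_split (v : Word) (S : Finset (Fin 24)) :
    (sp v).card = (sp v ∩ S).card + (sp v \ S).card := by
  have := Finset.card_sdiff_add_card_inter (sp v) S
  omega

/-- Duads meeting pairwise in one point, at least four of them, have a common point. -/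
theorem exists_common_point {ι α : Type*} [Fintype ι] [DecidableEq α] (hι : 4 ≤ Fintype.card ι)
    (A : ι → Finset α) (h2 : ∀ k, (A k).card = 2)
    (h1 : ∀ k l, k ≠ l → (A k ∩ A l).card = 1) :
    ∃ x, ∃ β : ι → α, Function.Injective β ∧ ∀ k, β k ≠ x ∧ A k = {x, β k} := by
  classical
  obtain ⟨s, -, hs⟩ := Finset.exists_subset_card_eq (s := (Finset.univ : Finset ι))
    (show 2 ≤ (Finset.univ : Finset ι).card by simp; omega)
  obtain ⟨k₀, k₁, hne, -⟩ := Finset.card_eq_two.mp hs
  obtain ⟨x, hx⟩ := Finset.card_eq_one.mp (h1 k₀ k₁ hne)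
  have hx0 : x ∈ A k₀ := (Finset.mem_inter.mp (hx ▸ Finset.mem_singleton_self x)).1
  have hx1 : x ∈ A k₁ := (Finset.mem_inter.mp (hx ▸ Finset.mem_singleton_self x)).2
  have herase : ∀ k, x ∈ A k → ∃ y, y ≠ x ∧ A k = {x, y} := by
    intro k hk
    obtain ⟨y, hy⟩ := Finset.card_eq_one.mp
      (show ((A k).erase x).card = 1 by rw [Finset.card_erase_of_mem hk, h2])
    have hy' : y ∈ (A k).erase x := hy ▸ Finset.mem_singleton_self y
    refine ⟨y, (Finset.mem_erase.mp hy').1, ?_⟩
    rw [← Finset.insert_erase hk, hy]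
  obtain ⟨y, hyx, hA0⟩ := herase k₀ hx0
  obtain ⟨z, hzx, hA1⟩ := herase k₁ hx1
  have hyz : y ≠ z := fun h => by
    have := h1 k₀ k₁ hne
    rw [hA0, hA1, h, Finset.inter_self, Finset.card_pair hzx.symm] at this
    omega
  have hall : ∀ k, x ∈ A k := by
    intro k
    by_contra hk
    have hk0 : k ≠ k₀ := fun h => hk (h ▸ hx0)
    have hk1 : k ≠ k₁ := fun h => hk (h ▸ hx1)
    have hy : y ∈ A k := by
      obtain ⟨u, hu⟩ := Finset.card_pos.mp (by rw [h1 k k₀ hk0]; norm_num : 0 < (A k ∩ A k₀).card)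
      rw [Finset.mem_inter, hA0, Finset.mem_insert, Finset.mem_singleton] at hu
      rcases hu.2 with rfl | rfl
      · exact absurd hu.1 hk
      · exact hu.1
    have hz : z ∈ A k := by
      obtain ⟨u, hu⟩ := Finset.card_pos.mp (by rw [h1 k k₁ hk1]; norm_num : 0 < (A k ∩ A k₁).card)
      rw [Finset.mem_inter, hA1, Finset.mem_insert, Finset.mem_singleton] at hu
      rcases hu.2 with rfl | rfl
      · exact absurd hu.1 hk
      · exact hu.1
    have hAk : A k = {y, z} := (Finset.eq_of_subset_of_card_le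
      (by intro u hu; rcases Finset.mem_insert.mp hu with rfl | hu'
          · exact hy
          · rw [Finset.mem_singleton.mp hu']; exact hz)
      (by rw [h2, Finset.card_pair hyz])).symm
    obtain ⟨l, -, hl⟩ : ∃ l ∈ (Finset.univ : Finset ι), l ∉ ({k₀, k₁, k} : Finset ι) :=
      Finset.exists_mem_notMem_of_card_lt_card (lt_of_le_of_lt Finset.card_le_three (by simp; omega))
    simp only [Finset.mem_insert, Finset.mem_singleton, not_or] at hl
    by_cases hxl : x ∈ A l
    · obtain ⟨u, hu⟩ := Finset.card_pos.mp (by rw [h1 l k hl.2.2]; norm_num : 0 < (A l ∩ A k).card)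
      rw [Finset.mem_inter, hAk, Finset.mem_insert, Finset.mem_singleton] at hu
      obtain ⟨w, -, hAl⟩ := herase l hxl
      rcases hu.2 with rfl | rfl
      · have hsub : A l = A k₀ := by
          rw [hAl, hA0]
          rw [hAl, Finset.mem_insert, Finset.mem_singleton] at hu
          rcases hu.1 with h | h
          · exact absurd h hyx
          · rw [h]
        have := h1 l k₀ hl.1
        rw [hsub, Finset.inter_self, h2] at this
        omega
      · have hsub : A l = A k₁ := by
          rw [hAl, hA1]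
          rw [hAl, Finset.mem_insert, Finset.mem_singleton] at hu
          rcases hu.1 with h | h
          · exact absurd h hzx
          · rw [h]
        have := h1 l k₁ hl.2.1
        rw [hsub, Finset.inter_self, h2] at this
        omega
    · have hy' : y ∈ A l := by
        obtain ⟨u, hu⟩ := Finset.card_pos.mp
          (by rw [h1 l k₀ hl.1]; norm_num : 0 < (A l ∩ A k₀).card)
        rw [Finset.mem_inter, hA0, Finset.mem_insert, Finset.mem_singleton] at hu
        rcases hu.2 with rfl | rfl
        · exact absurd hu.1 hxl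
        · exact hu.1
      have hz' : z ∈ A l := by
        obtain ⟨u, hu⟩ := Finset.card_pos.mp
          (by rw [h1 l k₁ hl.2.1]; norm_num : 0 < (A l ∩ A k₁).card)
        rw [Finset.mem_inter, hA1, Finset.mem_insert, Finset.mem_singleton] at hu
        rcases hu.2 with rfl | rfl
        · exact absurd hu.1 hxl
        · exact hu.1
      have hsub : A k ⊆ A l ∩ A k := fun u hu => Finset.mem_inter.mpr ⟨by
        rw [hAk, Finset.mem_insert, Finset.mem_singleton] at hu
        rcases hu with rfl | rfl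
        · exact hy'
        · exact hz', hu⟩
      have := Finset.card_le_card hsub
      rw [h1 l k hl.2.2, h2] at this
      omega
  choose β hβ using fun k => herase k (hall k)
  refine ⟨x, β, fun k l he => ?_, hβ⟩
  by_contra hkl
  have := h1 k l hkl
  rw [(hβ k).2, (hβ l).2, he, Finset.inter_self, Finset.card_pair (hβ l).1.symm] at this
  omega

variable {D : Submodule (ZMod 2) Word}

/-- Uniqueness of the Golay code. -/
theorem exists_equiv_of_isGolay (hC : IsGolay C) (hD : IsGolay D) :
    ∃ σ : Fin 24 ≃ Fin 24, ∀ w : Word, w ∈ D ↔ (fun i => w (σ i)) ∈ C := by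
  classical
  obtain ⟨S, hS, hSC⟩ := exists_word_octad hC
  obtain ⟨T, hT, hTD⟩ := exists_word_octad hD
  obtain ⟨α, hα1, hα2⟩ := exists_coords hC hS hSC
  obtain ⟨γ, hγ1, hγ2⟩ := exists_coords hD hT hTD
  let out : {i // i ∉ S} ≃ {i // i ∉ T} := α.trans γ.symm
  -- the affine parts correspond
  have hRCD : ∀ c ∈ C, (∀ k ∈ S, c k = 0) →
      ∃ d ∈ D, (∀ k ∈ T, d k = 0) ∧ ∀ i : {i // i ∉ S}, d (out i) = c i := by
    intro c hc hcS
    obtain ⟨a, w, h⟩ := hα1 c hc hcS
    obtain ⟨d, hd, hdT, hd'⟩ := hγ2 a w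
    exact ⟨d, hd, hdT, fun i => by rw [hd', h i]; simp [out]⟩
  have hRDC : ∀ d ∈ D, (∀ k ∈ T, d k = 0) →
      ∃ c ∈ C, (∀ k ∈ S, c k = 0) ∧ ∀ i : {i // i ∉ S}, c i = d (out i) := by
    intro d hd hdT
    obtain ⟨a, w, h⟩ := hγ1 d hd hdT
    obtain ⟨c, hc, hcS, hc'⟩ := hα2 a w
    exact ⟨c, hc, hcS, fun i => by rw [hc', h]; simp [out]⟩
  -- outside parts of code words correspond
  have hout : ∀ c ∈ C, ∃ d ∈ D, ∀ i : {i // i ∉ S}, d (out i) = c i := by
    intro c hc
    let v : Word := fun i => if h : i ∈ T then 0 else c (out.symm ⟨i, h⟩)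
    obtain ⟨d, hd, hd'⟩ := exists_outside_eq hD (S := T) (v := v) fun r hr hrT => by
      obtain ⟨r', hr', hr'S, hr''⟩ := hRDC r hr hrT
      have horth := hC.orth c hc r' hr'
      rw [← Finset.sum_subset (Finset.subset_univ Tᶜ) (fun i _ hi => by
        rw [Finset.mem_compl, not_not] at hi; simp [hrT i hi])]
      rw [← Finset.sum_subset (Finset.subset_univ Sᶜ) (fun i _ hi => by
        rw [Finset.mem_compl, not_not] at hi; simp [hr'S i hi])] at horth
      rw [← horth]
      refine Finset.sum_bij' (fun i hi => (out.symm ⟨i, Finset.mem_compl.mp hi⟩ : Fin 24))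
        (fun i hi => (out ⟨i, Finset.mem_compl.mp hi⟩ : Fin 24)) (fun i hi => ?_) (fun i hi => ?_)
        (fun i hi => by simp) (fun i hi => by simp) fun i hi => ?_
      · exact Finset.mem_compl.mpr (out.symm ⟨i, _⟩).2
      · exact Finset.mem_compl.mpr (out ⟨i, _⟩).2
      · simp only [v, dif_neg (Finset.mem_compl.mp hi)]
        rw [hr'' (out.symm ⟨i, Finset.mem_compl.mp hi⟩), Equiv.apply_symm_apply]
    refine ⟨d, hd, fun i => ?_⟩
    rw [hd' _ (out i).2]
    simp [v, (out i).2]
  have hweight : ∀ (c d : Word), (∀ i : {i // i ∉ S}, d (out i) = c i) →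
      (sp d \ T).card = (sp c \ S).card := by
    intro c d h
    refine Finset.card_bij'
      (fun i hi => (out.symm ⟨i, (Finset.mem_sdiff.mp hi).2⟩ : Fin 24))
      (fun i hi => (out ⟨i, (Finset.mem_sdiff.mp hi).2⟩ : Fin 24)) (fun i hi => ?_) (fun i hi => ?_)
      (fun i hi => by simp) (fun i hi => by simp)
    · obtain ⟨h1, h2⟩ := Finset.mem_sdiff.mp hi
      refine Finset.mem_sdiff.mpr ⟨?_, (out.symm ⟨i, h2⟩).2⟩
      rw [AbstractGolay.mem_sp, ← h (out.symm ⟨i, h2⟩), Equiv.apply_symm_apply]
      exact (AbstractGolay.mem_sp d i).mp h1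
    · obtain ⟨h1, h2⟩ := Finset.mem_sdiff.mp hi
      refine Finset.mem_sdiff.mpr ⟨?_, (out ⟨i, h2⟩).2⟩
      rw [AbstractGolay.mem_sp, h ⟨i, h2⟩]
      exact (AbstractGolay.mem_sp c i).mp h1
  obtain ⟨p, hp⟩ := Finset.card_pos.mp (by omega : 0 < S.card)
  let K := {k : {i // i ∈ S} // k.1 ≠ p}
  have hcw : ∀ k : K, ∃ c ∈ C, sp c ∩ S = {p, k.1.1} := by
    intro k
    have hadd : ∑ j : {i // i ∈ S}, (if j.1 = p ∨ j.1 = k.1.1 then (1 : ZMod 2) else 0) = 0 := by
      rw [Finset.univ_eq_attach, Finset.sum_attach S fun i =>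
        if i = p ∨ i = k.1.1 then (1 : ZMod 2) else 0, Finset.sum_boole]
      have : (S.filter fun i => i = p ∨ i = k.1.1) = {p, k.1.1} := by
        ext i
        simp only [Finset.mem_filter, Finset.mem_insert, Finset.mem_singleton]
        exact ⟨fun h => h.2, fun h => ⟨by rcases h with rfl | rfl; exacts [hp, k.1.2], h⟩⟩
      rw [this, Finset.card_pair (Ne.symm k.2)]
      decide
    obtain ⟨c, hc, hc'⟩ := exists_restrict_eq hC hS hSC hadd
    refine ⟨c, hc, ?_⟩
    ext i
    rw [Finset.mem_inter, AbstractGolay.mem_sp, Finset.mem_insert, Finset.mem_singleton]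
    constructor
    · rintro ⟨h, hi⟩
      have := hc' ⟨i, hi⟩
      rw [this] at h
      simp only [ne_eq, ite_eq_right_iff, one_ne_zero, imp_false, not_not] at h
      exact h
    · intro h
      have hi : i ∈ S := by rcases h with rfl | rfl; exacts [hp, k.1.2]
      refine ⟨?_, hi⟩
      rw [hc' ⟨i, hi⟩, if_pos h]
      exact one_ne_zero
  choose cw hcwC hcwS using hcw
  have hdw : ∀ k : K, ∃ d ∈ D, (∀ i : {i // i ∉ S}, d (out i) = cw k i) ∧
      (sp d ∩ T).card = 2 := by
    intro k
    obtain ⟨d, hd, hd'⟩ := hout _ (hcwC k)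
    have h1 : (sp d ∩ T).card % 4 = 2 := by
      obtain ⟨u, hu⟩ := hC.four_dvd (hcwC k)
      obtain ⟨v, hv⟩ := hD.four_dvd hd
      rw [AbstractGolay.norm_eq, card_sp_split _ S, hcwS k,
        Finset.card_pair (Ne.symm k.2)] at hu
      rw [AbstractGolay.norm_eq, card_sp_split _ T, hweight _ _ hd'] at hv
      omega
    have h2 : (sp d ∩ T).card ≤ 8 := hT ▸ Finset.card_le_card Finset.inter_subset_right
    rcases (by omega : (sp d ∩ T).card = 2 ∨ (sp d ∩ T).card = 6) with h | h
    · exact ⟨d, hd, hd', h⟩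
    · refine ⟨d + ind T, D.add_mem hd hTD, fun i => by simp [ind, (out i).2, hd'], ?_⟩
      have hset : sp (d + ind T) ∩ T = T \ (sp d ∩ T) := by
        rw [AbstractGolay.sp_add, AbstractGolay.sp_ind]
        ext i
        simp only [Finset.mem_inter, Finset.mem_union, Finset.mem_sdiff]
        tauto
      rw [hset, Finset.card_sdiff_of_subset Finset.inter_subset_right, hT, h]
  choose dw hdwD hdwout hdw2 using hdw
  have hK : Fintype.card K = 7 := by
    rw [Fintype.card_subtype, Finset.univ_eq_attach]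
    have : (S.attach.filter fun k => k.1 ≠ p) = S.attach.erase ⟨p, hp⟩ := by
      ext k
      simp [Subtype.ext_iff]
    rw [this, Finset.card_erase_of_mem (Finset.mem_attach _ _), Finset.card_attach, hS]
  have hpair : ∀ k l : K, k ≠ l → ((sp (dw k) ∩ T) ∩ (sp (dw l) ∩ T)).card = 1 := by
    intro k l hkl
    have hsum : ∀ i : {i // i ∉ S}, (dw k + dw l) (out i) = (cw k + cw l) i := fun i => by
      simp [hdwout]
    obtain ⟨u, hu⟩ := hC.four_dvd (C.add_mem (hcwC k) (hcwC l))
    obtain ⟨v, hv⟩ := hD.four_dvd (D.add_mem (hdwD k) (hdwD l))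
    rw [AbstractGolay.norm_eq, card_sp_split _ S] at hu
    rw [AbstractGolay.norm_eq, card_sp_split _ T, hweight _ _ hsum] at hv
    have hS2 : sp (cw k + cw l) ∩ S = {k.1.1, l.1.1} := by
      rw [AbstractGolay.sp_add]
      have hk := Finset.ext_iff.mp (hcwS k)
      have hl := Finset.ext_iff.mp (hcwS l)
      have hkl' : k.1.1 ≠ l.1.1 := fun h => hkl (Subtype.ext (Subtype.ext h))
      ext i
      specialize hk i
      specialize hl i
      simp only [Finset.mem_inter, Finset.mem_union, Finset.mem_sdiff, Finset.mem_insert,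
        Finset.mem_singleton] at hk hl ⊢
      constructor
      · rintro ⟨h | h, hi⟩
        · rcases hk.mp ⟨h.1, hi⟩ with rfl | rfl
          · exact absurd (hl.mpr (Or.inl rfl)).1 h.2
          · exact Or.inl rfl
        · rcases hl.mp ⟨h.1, hi⟩ with rfl | rfl
          · exact absurd (hk.mpr (Or.inl rfl)).1 h.2
          · exact Or.inr rfl
      · rintro (rfl | rfl)
        · obtain ⟨h, hi⟩ := hk.mpr (Or.inr rfl)
          refine ⟨Or.inl ⟨h, fun h' => ?_⟩, hi⟩
          rcases hl.mp ⟨h', hi⟩ with h'' | h''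
          · exact k.2 h''
          · exact hkl' h''
        · obtain ⟨h, hi⟩ := hl.mpr (Or.inr rfl)
          refine ⟨Or.inr ⟨h, fun h' => ?_⟩, hi⟩
          rcases hk.mp ⟨h', hi⟩ with h'' | h''
          · exact l.2 h''
          · exact hkl' h''.symm
    have hT2 : sp (dw k + dw l) ∩ T = symmDiff (sp (dw k) ∩ T) (sp (dw l) ∩ T) := by
      rw [AbstractGolay.sp_add]
      ext i
      simp only [Finset.mem_inter, Finset.mem_union, Finset.mem_sdiff, Finset.mem_symmDiff]
      tauto
    rw [hS2, Finset.card_pair (fun h => hkl (Subtype.ext (Subtype.ext h)))] at hu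
    rw [hT2] at hv
    have h5 := card_symmDiff_add (sp (dw k) ∩ T) (sp (dw l) ∩ T)
    rw [hdw2, hdw2] at h5
    have := Finset.card_le_card
      (Finset.inter_subset_left : (sp (dw k) ∩ T) ∩ (sp (dw l) ∩ T) ⊆ sp (dw k) ∩ T)
    rw [hdw2] at this
    omega
  obtain ⟨x, β, hβinj, hβ⟩ := exists_common_point (by rw [hK]; norm_num)
    (fun k => sp (dw k) ∩ T) hdw2 hpair
  have hxT : x ∈ T := by
    obtain ⟨k⟩ : Nonempty K := Fintype.card_pos_iff.mp (by omega)
    exact (Finset.mem_inter.mp ((hβ k).2 ▸ Finset.mem_insert_self x _)).2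
  have hβT : ∀ k, β k ∈ T := fun k =>
    (Finset.mem_inter.mp ((hβ k).2 ▸ Finset.mem_insert_of_mem (Finset.mem_singleton_self (β k)))).2
  let f : Fin 24 → Fin 24 := fun i =>
    if hi : i ∈ S then if h : i = p then x else β ⟨⟨i, hi⟩, h⟩ else out ⟨i, hi⟩
  have hfS : ∀ i, f i ∈ T ↔ i ∈ S := by
    intro i
    simp only [f]
    split_ifs with hi h
    · exact iff_of_true hxT hi
    · exact iff_of_true (hβT _) hi
    · exact iff_of_false (out ⟨i, hi⟩).2 hi
  have hfinj : Function.Injective f := by
    intro i j hij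
    have hmem : i ∈ S ↔ j ∈ S := by rw [← hfS i, hij, hfS j]
    simp only [f] at hij
    by_cases hi : i ∈ S
    · rw [dif_pos hi, dif_pos (hmem.mp hi)] at hij
      split_ifs at hij with h1 h2 h3
      · exact h1.trans h2.symm
      · exact absurd hij.symm (hβ _).1
      · exact absurd hij (hβ _).1
      · exact congrArg (fun k : K => k.1.1) (hβinj hij)
    · rw [dif_neg hi, dif_neg (fun h => hi (hmem.mpr h))] at hij
      exact congrArg Subtype.val (out.injective (Subtype.ext hij))
  let σ : Fin 24 ≃ Fin 24 := Equiv.ofBijective f (Finite.injective_iff_bijective.mp hfinj)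
  let L : Word →ₗ[ZMod 2] Word := LinearMap.funLeft (ZMod 2) (ZMod 2) σ.symm
  -- the transported code lies in `D`
  have hgood : ∀ c ∈ C, L c ∈ D := by
    have hR : ∀ c ∈ C, (∀ k ∈ S, c k = 0) → L c ∈ D := by
      intro c hc hcS
      obtain ⟨d, hd, hdT, hd'⟩ := hRCD c hc hcS
      convert hd using 1
      funext i
      obtain ⟨j, rfl⟩ := σ.surjective i
      show c (σ.symm (σ j)) = d (σ j)
      rw [Equiv.symm_apply_apply]
      by_cases hj : j ∈ S
      · rw [hcS j hj, show σ j = f j from rfl, hdT _ ((hfS j).mpr hj)]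
      · rw [show σ j = f j from rfl, show f j = (out ⟨j, hj⟩ : Fin 24) by simp [f, hj], hd']
    have hk : ∀ k : K, L (cw k) ∈ D := by
      intro k
      convert hdwD k using 1
      funext i
      obtain ⟨j, rfl⟩ := σ.surjective i
      show cw k (σ.symm (σ j)) = dw k (σ j)
      rw [Equiv.symm_apply_apply]
      by_cases hj : j ∈ S
      · refine apply_eq_of_iff ?_
        have h1 := Finset.ext_iff.mp (hcwS k) j
        have h2 := Finset.ext_iff.mp (hβ k).2 (f j)
        simp only [Finset.mem_inter, AbstractGolay.mem_sp, Finset.mem_insert,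
          Finset.mem_singleton, hj, and_true, (hfS j).mpr hj] at h1 h2
        rw [show σ j = f j from rfl, h1, h2]
        simp only [f, dif_pos hj]
        split_ifs with hjp
        · exact iff_of_true (Or.inl hjp) (Or.inl rfl)
        · constructor
          · rintro (h | h)
            · exact absurd h hjp
            · refine Or.inr (congrArg β ?_)
              exact Subtype.ext (Subtype.ext h)
          · rintro (h | h)
            · exact absurd h (hβ _).1
            · exact Or.inr (congrArg (fun k : K => k.1.1) (hβinj h))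
      · rw [show σ j = f j from rfl, show f j = (out ⟨j, hj⟩ : Fin 24) by simp [f, hj], hdwout]
    intro c hc
    let r : Word := c + ∑ k : K, c k.1.1 • cw k
    have hrC : r ∈ C := C.add_mem hc (C.sum_mem fun k _ => C.smul_mem _ (hcwC k))
    have hval : ∀ (k : K) (i : Fin 24), i ∈ S → i ≠ p →
        cw k i = if k.1.1 = i then 1 else 0 := by
      intro k i hi hip
      refine apply_eq_of_iff ?_
      have h1 := Finset.ext_iff.mp (hcwS k) i
      simp only [Finset.mem_inter, AbstractGolay.mem_sp, Finset.mem_insert, Finset.mem_singleton,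
        hi, and_true] at h1
      rw [h1]
      by_cases h : k.1.1 = i
      · simp [h]
      · simp [h, hip, Ne.symm h]
    have hzero : ∀ i ∈ S, i ≠ p → r i = 0 := by
      intro i hi hip
      simp only [r, Pi.add_apply, Finset.sum_apply, Pi.smul_apply, smul_eq_mul]
      rw [Finset.sum_eq_single (⟨⟨i, hi⟩, hip⟩ : K)]
      · rw [hval _ i hi hip, if_pos rfl, mul_one]
        exact CharTwo.add_self_eq_zero _
      · intro k _ hk
        rw [hval k i hi hip, if_neg fun h => hk (Subtype.ext (Subtype.ext h)), mul_zero]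
      · exact fun h => absurd (Finset.mem_univ _) h
    have hzero' : ∀ i ∈ S, r i = 0 := by
      intro i hi
      by_cases hip : i = p
      · subst hip
        have horth := hC.orth r hrC (ind S) hSC
        rw [Finset.sum_eq_single i] at horth
        · simpa [ind, hi] using horth
        · intro j _ hji
          by_cases hj : j ∈ S
          · rw [hzero j hj hji, zero_mul]
          · simp [ind, hj]
        · exact fun h => absurd (Finset.mem_univ _) h
      · exact hzero i hi hip
    have hsplit : c = r + ∑ k : K, c k.1.1 • cw k := by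
      simp only [r, add_assoc, AbstractGolay.add_self, add_zero]
    rw [hsplit, map_add, map_sum]
    refine D.add_mem (hR r hrC hzero') (D.sum_mem fun k _ => ?_)
    rw [map_smul]
    exact D.smul_mem _ (hk k)
  have hLinj : Function.Injective L := LinearMap.funLeft_injective_of_surjective _ _ _ σ.symm.surjective
  have heq : C.map L = D := by
    refine Submodule.eq_of_le_of_finrank_eq (Submodule.map_le_iff_le_comap.mpr hgood) ?_
    rw [← LinearEquiv.finrank_eq (Submodule.equivMapOfInjective L hLinj C), hC.dim, hD.dim]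
  refine ⟨σ, fun w => ?_⟩
  rw [← heq]
  constructor
  · rintro ⟨c, hc, rfl⟩
    have : (fun i => L c (σ i)) = c := funext fun i => congrArg c (σ.symm_apply_apply i)
    rw [this]
    exact hc
  · intro h
    refine ⟨_, h, ?_⟩
    funext i
    exact congrArg w (σ.apply_symm_apply i)

/-- Doubly even with no word of weight four gives minimum weight eight. -/
theorem isGolay_of_doublyEven (hdim : Module.finrank (ZMod 2) C = 12)
    (horth : ∀ v ∈ C, ∀ w ∈ C, ∑ i, v i * w i = 0) (h4 : ∀ w ∈ C, 4 ∣ hammingNorm w)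
    (hno4 : ∀ w ∈ C, hammingNorm w ≠ 4) : IsGolay C := by
  refine ⟨hdim, horth, fun w hw hne => ?_⟩
  obtain ⟨k, hk⟩ := h4 w hw
  have := hno4 w hw
  have : hammingNorm w ≠ 0 := hammingNorm_ne_zero_iff.mpr hne
  omega

/-- The Golay code pulled back to `Fin 24`. -/
def pullback (e : Fin 24 ≃ Cfsg.GolayPt) : Submodule (ZMod 2) Word :=
  Cfsg.golayCode.map (LinearEquiv.funCongrLeft (ZMod 2) (ZMod 2) e).toLinearMap

theorem mem_pullback {e : Fin 24 ≃ Cfsg.GolayPt} {w : Cfsg.GolayPt → ZMod 2} :
    (fun i => w (e i)) ∈ pullback e ↔ w ∈ Cfsg.golayCode := by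
  refine ⟨fun ⟨v, hv, hvw⟩ => ?_, fun h => ⟨w, h, rfl⟩⟩
  have : v = w := (LinearEquiv.funCongrLeft (ZMod 2) (ZMod 2) e).injective hvw
  exact this ▸ hv

theorem pullback_isGolay (e : Fin 24 ≃ Cfsg.GolayPt) : IsGolay (pullback e) := by
  refine ⟨?_, ?_, ?_⟩
  · rw [pullback, LinearEquiv.finrank_map_eq, finrank_golayCode]
  · rintro _ ⟨v, hv, rfl⟩ _ ⟨w, hw, rfl⟩
    rw [← self_orthogonal hv hw]
    exact Equiv.sum_comp e fun p => v p * w p
  · rintro _ ⟨v, hv, rfl⟩ hne
    have hv0 : v ≠ 0 := fun h => hne (by rw [h, map_zero])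
    have hnorm : hammingNorm v ≠ 0 := hammingNorm_ne_zero_iff.mpr hv0
    have heq : hammingNorm ((LinearEquiv.funCongrLeft (ZMod 2) (ZMod 2) e).toLinearMap v) =
        hammingNorm v := by
      refine Finset.card_equiv e fun i => ?_
      rw [Finset.mem_filter, Finset.mem_filter]
      exact and_congr (by simp) Iff.rfl
    rw [heq]
    rcases weights hv with h | h | h | h | h <;> omega

/-- Every code on `Fin 24` with the Golay parameters is a copy of `Cfsg.golayCode`. -/
theorem exists_equiv_golayCode (hC : IsGolay C) :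
    ∃ e : Fin 24 ≃ Cfsg.GolayPt, ∀ w : Cfsg.GolayPt → ZMod 2,
      w ∈ Cfsg.golayCode ↔ (fun i => w (e i)) ∈ C := by
  obtain ⟨e⟩ : Nonempty (Fin 24 ≃ Cfsg.GolayPt) := ⟨(Fintype.equivFinOfCardEq (by simp)).symm⟩
  obtain ⟨σ, hσ⟩ := exists_equiv_of_isGolay hC (pullback_isGolay e)
  refine ⟨σ.trans e, fun w => ?_⟩
  rw [← mem_pullback (e := e), hσ]
  rfl

/-- Uniqueness of the Golay code among codes on the 24 points. -/
theorem golayCode_unique (E : Submodule (ZMod 2) (Cfsg.GolayPt → ZMod 2))
    (hdim : Module.finrank (ZMod 2) E = 12)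
    (horth : ∀ v ∈ E, ∀ w ∈ E, ∑ i, v i * w i = 0) (h4 : ∀ w ∈ E, 4 ∣ hammingNorm w)
    (hno4 : ∀ w ∈ E, hammingNorm w ≠ 4) :
    ∃ τ : Equiv.Perm Cfsg.GolayPt, ∀ w : Cfsg.GolayPt → ZMod 2,
      w ∈ E ↔ (fun p => w (τ p)) ∈ Cfsg.golayCode := by
  obtain ⟨e⟩ : Nonempty (Fin 24 ≃ Cfsg.GolayPt) := ⟨(Fintype.equivFinOfCardEq (by simp)).symm⟩
  let F := LinearEquiv.funCongrLeft (ZMod 2) (ZMod 2) e
  have hnorm : ∀ v : Cfsg.GolayPt → ZMod 2, hammingNorm (F.toLinearMap v) = hammingNorm v :=
    fun v => Finset.card_equiv e fun i => by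
      rw [Finset.mem_filter, Finset.mem_filter]
      exact and_congr (by simp) Iff.rfl
  have hF : IsGolay (E.map F.toLinearMap) := by
    refine isGolay_of_doublyEven ?_ ?_ ?_ ?_
    · rw [LinearEquiv.finrank_map_eq, hdim]
    · rintro _ ⟨v, hv, rfl⟩ _ ⟨w, hw, rfl⟩
      rw [← horth v hv w hw]
      exact Equiv.sum_comp e fun p => v p * w p
    · rintro _ ⟨v, hv, rfl⟩
      rw [hnorm]
      exact h4 v hv
    · rintro _ ⟨v, hv, rfl⟩
      rw [hnorm]
      exact hno4 v hv
  obtain ⟨e', he'⟩ := exists_equiv_golayCode hF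
  refine ⟨e'.symm.trans e, fun w => ?_⟩
  rw [he']
  have : (fun i => w ((e'.symm.trans e) (e' i))) = F.toLinearMap w := by
    funext i
    simp [F]
  rw [this]
  exact ⟨fun h => ⟨w, h, rfl⟩, fun ⟨v, hv, h⟩ => F.injective h ▸ hv⟩

end Cfsg.Agent.Golay
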