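/-
Golay library, part 13: the codes spanned by Steiner systems S(5, 8, 24) and S(4, 7, 23), and the
uniqueness of these systems.

Main results: `perp`, `isGolay_span`, `exists_iso_octads` (an S(5, 8, 24) is a copy of the octads),
`exists_iso_derived` (an S(4, 7, 23) is a copy of the octads through a point),
`steiner_5_8_24_iso`, `steiner_4_7_23_iso`.
-/
import Cfsg.Agent.Lib.Golay.Unique
import Cfsg.Agent.Lib.Golay.Steiner
import Cfsg.Agent.Lib.Golay.M24

set_option autoImplicit false
open scoped symmDiff Pointwise
open Cfsg

namespace Cfsg.Agent.Golay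

open AbstractGolay (Word sp ind IsGolay)

/-- The orthogonal of a set of words. -/
def perp (W : Set Word) : Submodule (ZMod 2) Word where
  carrier := {v | ∀ w ∈ W, ∑ i, v i * w i = 0}
  zero_mem' w _ := by simp
  add_mem' {a b} ha hb w hw := by simp [add_mul, Finset.sum_add_distrib, ha w hw, hb w hw]
  smul_mem' c a ha w hw := by simp [mul_assoc, ← Finset.mul_sum, ha w hw]

theorem perp_span (W : Set Word) : perp (Submodule.span (ZMod 2) W : Submodule (ZMod 2) Word) =
    perp W := by
  refine le_antisymm (fun v hv w hw => hv w (Submodule.subset_span hw)) fun v hv w hw => ?_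
  induction hw using Submodule.span_induction with
  | mem x hx => exact hv x hx
  | zero => simp
  | add x y _ _ hx hy => simp [mul_add, Finset.sum_add_distrib, hx, hy]
  | smul c x _ hx => simp [mul_left_comm, ← Finset.mul_sum, hx]

theorem finrank_add_finrank_perp (C : Submodule (ZMod 2) Word) :
    Module.finrank (ZMod 2) C + Module.finrank (ZMod 2) (perp (C : Set Word)) = 24 := by
  let δ : Word ≃ₗ[ZMod 2] Module.Dual (ZMod 2) Word :=
    (Pi.basisFun (ZMod 2) (Fin 24)).toDualEquiv
  have hδ : ∀ v w, δ v w = ∑ i, v i * w i := fun v w => by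
    show (Pi.basisFun (ZMod 2) (Fin 24)).toDual v w = _
    conv_lhs => rw [← (Pi.basisFun (ZMod 2) (Fin 24)).sum_repr v, ← (Pi.basisFun (ZMod 2) (Fin 24)).sum_repr w]
    simp only [map_sum, map_smul, LinearMap.sum_apply, LinearMap.smul_apply, smul_eq_mul,
      Module.Basis.toDual_apply, Pi.basisFun_repr]
    refine Finset.sum_congr rfl fun i _ => ?_
    simp [mul_comm]
  have h := Subspace.finrank_add_finrank_dualAnnihilator_eq C
  rw [Module.finrank_pi, Fintype.card_fin] at h
  have heq : perp (C : Set Word) = C.dualAnnihilator.comap δ.toLinearMap := by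
    refine SetLike.ext fun v => ?_
    rw [Submodule.mem_comap, Submodule.mem_dualAnnihilator]
    exact forall₂_congr fun w _ => by rw [LinearEquiv.coe_toLinearMap, hδ]
  rw [heq, Submodule.comap_equiv_eq_map_symm, LinearEquiv.finrank_map_eq]
  exact h

/-- Words of weight at most three. -/
def ball : Finset (Finset (Fin 24)) :=
  (Finset.range 4).biUnion fun k => (Finset.univ : Finset (Fin 24)).powersetCard k

theorem card_ball : ball.card = 2325 := by
  rw [ball, Finset.card_biUnion]
  · simp [Finset.card_powersetCard, Finset.sum_range_succ, Nat.choose]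
  · intro a _ b _ hab
    simp only [Function.onFun, Finset.disjoint_left, Finset.mem_powersetCard]
    rintro S ⟨-, h1⟩ ⟨-, h2⟩
    exact hab (h1.symm.trans h2)

/-- Doubly even words meeting evenly, with no small common orthogonal word, span a Golay code. -/
theorem isGolay_span_four {W : Set Word} (h4W : ∀ w ∈ W, 4 ∣ (sp w).card)
    (heven : ∀ u ∈ W, ∀ w ∈ W, Even (sp u ∩ sp w).card)
    (hsmall : ∀ v ∈ perp W, v ≠ 0 → 7 ≤ (sp v).card) :
    IsGolay (Submodule.span (ZMod 2) W) := by
  have hsub : W ⊆ perp W := fun u hu w hw => by
    rw [AbstractGolay.sum_mul, ZMod.natCast_eq_zero_iff_even]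
    exact heven u hu w hw
  have hle : Submodule.span (ZMod 2) W ≤ perp W := Submodule.span_le.mpr hsub
  have horth : ∀ v ∈ Submodule.span (ZMod 2) W, ∀ w ∈ Submodule.span (ZMod 2) W,
      ∑ i, v i * w i = 0 := by
    intro v hv w hw
    have := hle hv
    rw [← perp_span W] at this
    exact this w hw
  have h4 : ∀ v ∈ Submodule.span (ZMod 2) W, 4 ∣ (sp v).card := by
    intro v hv
    induction hv using Submodule.span_induction with
    | mem x hx => exact h4W x hx
    | zero => simp [AbstractGolay.sp]
    | add x y hx hy h1 h2 =>
      have h := AbstractGolay.card_add x y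
      have he := horth x hx y hy
      rw [AbstractGolay.sum_mul, ZMod.natCast_eq_zero_iff_even] at he
      obtain ⟨m, hm⟩ := he
      omega
    | smul c x _ h1 =>
      rcases zmod_two_cases c with rfl | rfl
      · simp [AbstractGolay.sp]
      · simpa using h1
  have hdim : Module.finrank (ZMod 2) (Submodule.span (ZMod 2) W) = 12 := by
    have h := finrank_add_finrank_perp (Submodule.span (ZMod 2) W)
    rw [perp_span] at h
    have h' := Submodule.finrank_mono hle
    by_contra hne
    have h13 : 13 ≤ Module.finrank (ZMod 2) (perp W) := by omega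
    have hcard : 2 ^ 13 ≤ Nat.card (perp W) := by
      rw [Module.natCard_eq_pow_finrank (K := ZMod 2), Nat.card_zmod]
      exact Nat.pow_le_pow_right (by norm_num) h13
    have hinj : Function.Injective fun q : {S // S ∈ ball} × perp W =>
        ind q.1.1 + (q.2 : Word) := by
      rintro ⟨⟨S, hS⟩, v⟩ ⟨⟨T, hT⟩, u⟩ he
      simp only at he
      have hST : ind S + ind T = (v : Word) + u := by
        calc ind S + ind T = (ind S + (v : Word)) + (v + ind T) := by
              rw [add_assoc, ← add_assoc (v : Word), AbstractGolay.add_self, zero_add]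
          _ = (ind T + (u : Word)) + (v + ind T) := by rw [he]
          _ = (v : Word) + u := by
              rw [add_comm (v : Word) (ind T), add_add_add_comm, AbstractGolay.add_self,
                zero_add, add_comm]
      have hmem : ind S + ind T ∈ perp W := hST ▸ (perp W).add_mem v.2 u.2
      have hsz : ∀ {S : Finset (Fin 24)}, S ∈ ball → S.card ≤ 3 := by
        intro S hS
        simp only [ball, Finset.mem_biUnion, Finset.mem_range, Finset.mem_powersetCard] at hS
        obtain ⟨k, hk, -, hc⟩ := hS
        omega
      have hzero : ind S + ind T = 0 := by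
        by_contra h0
        have h7 := hsmall _ hmem h0
        have hc := AbstractGolay.card_add (ind S) (ind T)
        simp only [AbstractGolay.sp_ind] at hc
        have := hsz hS
        have := hsz hT
        omega
      rw [← AbstractGolay.sub_eq_add, sub_eq_zero] at hzero
      obtain rfl : S = T := by simpa using congrArg sp hzero
      exact Prod.ext rfl (Subtype.ext (add_left_cancel he))
    have := Nat.card_le_card_of_injective _ hinj
    rw [Nat.card_prod, Nat.card_eq_fintype_card (α := {S // S ∈ ball}), Fintype.card_coe,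
      card_ball, Nat.card_eq_fintype_card (α := Word), Fintype.card_fun, ZMod.card,
      Fintype.card_fin] at this
    have h2 : 2325 * 2 ^ 13 ≤ 2325 * Nat.card (perp W) := Nat.mul_le_mul_left _ hcard
    omega
  refine ⟨hdim, horth, fun v hv hne => ?_⟩
  rw [AbstractGolay.norm_eq]
  have := hsmall v (hle hv) hne
  obtain ⟨m, hm⟩ := h4 v hv
  omega

/-- Octad-weight words meeting evenly, with no small common orthogonal word, span a Golay code. -/
theorem isGolay_span {W : Set Word} (h8 : ∀ w ∈ W, (sp w).card = 8)
    (heven : ∀ u ∈ W, ∀ w ∈ W, Even (sp u ∩ sp w).card)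
    (hsmall : ∀ v ∈ perp W, v ≠ 0 → 7 ≤ (sp v).card) :
    IsGolay (Submodule.span (ZMod 2) W) :=
  isGolay_span_four (fun w hw => by rw [h8 w hw]; norm_num) heven hsmall

section systems

variable {α : Type*} [Fintype α] [DecidableEq α]

open SteinerCount (blocks mem_blocks)

theorem sp_ind_map {β : Type*} (e : Fin 24 ≃ β) (b : Finset β) :
    sp (ind (b.map e.symm.toEmbedding)) = b.map e.symm.toEmbedding := AbstractGolay.sp_ind _

theorem cnt_eq_zero_of_forall {B : Set (Finset α)} {Y : Finset α} {j : ℕ}
    (h : ∀ b ∈ B, (b ∩ Y).card ≠ j) : Design.cnt B Y j = 0 := by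
  rw [Design.cnt, Finset.card_eq_zero, Finset.filter_eq_empty_iff]
  exact fun b hb => h b (mem_blocks.mp hb)

/-- A nonempty set of at most six points meets some block of an S(5, 8, 24) oddly. -/
theorem exists_odd_block_24 (hα : Fintype.card α = 24) {B : Set (Finset α)}
    (hB : IsSteinerSystem 5 8 B) {Y : Finset α} (hY : Y.Nonempty) (hY6 : Y.card ≤ 6) :
    ∃ b ∈ B, Odd (b ∩ Y).card := by
  by_contra h
  push Not at h
  have h0 : ∀ j, Odd j → Design.cnt B Y j = 0 := fun j hj =>
    cnt_eq_zero_of_forall fun b hb e => h b hb (e ▸ hj)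
  have z1 := h0 1 (by decide)
  have z3 := h0 3 (by decide)
  have z5 := h0 5 (by decide)
  have hpos := hY.card_pos
  have m0 := Design.moment hB (by norm_num) Y (i := 0) (lam := 759) (by norm_num)
    (by rw [hα]; decide +kernel)
  have m1 := Design.moment hB (by norm_num) Y (i := 1) (lam := 253) (by norm_num)
    (by rw [hα]; decide +kernel)
  have m2 := Design.moment hB (by norm_num) Y (i := 2) (lam := 77) (by norm_num)
    (by rw [hα]; decide +kernel)
  have m3 := Design.moment hB (by norm_num) Y (i := 3) (lam := 21) (by norm_num)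
    (by rw [hα]; decide +kernel)
  have m4 := Design.moment hB (by norm_num) Y (i := 4) (lam := 5) (by norm_num)
    (by rw [hα]; decide +kernel)
  have m5 := Design.moment hB (by norm_num) Y (i := 5) (lam := 1) (by norm_num)
    (by rw [hα]; decide +kernel)
  generalize hy : Y.card = y at hpos hY6 m0 m1 m2 m3 m4 m5
  interval_cases y <;> revert m0 m1 m2 m3 m4 m5 <;>
    norm_num [Finset.sum_range_succ, Nat.choose, z1, z3, z5] <;> (try omega)

/-- Parity conditions that no set of at most six points satisfies in an S(4, 7, 23). -/
theorem no_parity_set_23 (hα : Fintype.card α = 23) {B : Set (Finset α)}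
    (hB : IsSteinerSystem 4 7 B) {Y : Finset α} {p : ℕ} (hp : p ≤ 1) (hY : 0 < Y.card + p)
    (hY6 : Y.card + p ≤ 6) : ∃ b ∈ B, (b ∩ Y).card % 2 ≠ p := by
  by_contra h
  push Not at h
  have h0 : ∀ j, j % 2 ≠ p → Design.cnt B Y j = 0 := fun j hj =>
    cnt_eq_zero_of_forall fun b hb e => hj (e ▸ h b hb)
  have m0 := Design.moment hB (by norm_num) Y (i := 0) (lam := 253) (by norm_num)
    (by rw [hα]; decide +kernel)
  have m1 := Design.moment hB (by norm_num) Y (i := 1) (lam := 77) (by norm_num)
    (by rw [hα]; decide +kernel)
  have m2 := Design.moment hB (by norm_num) Y (i := 2) (lam := 21) (by norm_num)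
    (by rw [hα]; decide +kernel)
  have m3 := Design.moment hB (by norm_num) Y (i := 3) (lam := 5) (by norm_num)
    (by rw [hα]; decide +kernel)
  have m4 := Design.moment hB (by norm_num) Y (i := 4) (lam := 1) (by norm_num)
    (by rw [hα]; decide +kernel)
  generalize hy : Y.card = y at hY hY6 m0 m1 m2 m3 m4
  interval_cases p
  · have z1 := h0 1 (by norm_num)
    have z3 := h0 3 (by norm_num)
    have z5 := h0 5 (by norm_num)
    have hy6 : y ≤ 6 := by omega
    interval_cases y <;> revert m0 m1 m2 m3 m4 <;>
      norm_num [Finset.sum_range_succ, Nat.choose, z1, z3, z5] <;> (try omega)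
  · have z0 := h0 0 (by norm_num)
    have z2 := h0 2 (by norm_num)
    have z4 := h0 4 (by norm_num)
    have hy6 : y ≤ 5 := by omega
    interval_cases y <;> revert m0 m1 m2 m3 m4 <;>
      norm_num [Finset.sum_range_succ, Nat.choose, z0, z2, z4] <;> (try omega)

theorem card_map_inter {β γ : Type*} [DecidableEq β] [DecidableEq γ] (e : β ≃ γ) (s t : Finset β) :
    (s.map e.toEmbedding ∩ t.map e.toEmbedding).card = (s ∩ t).card := by
  rw [← Finset.map_inter, Finset.card_map]

theorem ind_dot (v : Word) (s : Finset (Fin 24)) :
    ∑ i, v i * ind s i = (((sp v ∩ s).card : ℕ) : ZMod 2) := by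
  rw [AbstractGolay.sum_mul, AbstractGolay.sp_ind]

/-- An S(5, 8, 24) is carried onto the octads by a bijection. -/
theorem exists_iso_octads (hα : Fintype.card α = 24) {B : Set (Finset α)}
    (hB : IsSteinerSystem 5 8 B) :
    ∃ f : α ≃ GolayPt, (fun b => b.image f) '' B = octads := by
  classical
  let e : Fin 24 ≃ α := (Fintype.equivFinOfCardEq hα).symm
  let W : Set Word := (fun b : Finset α => ind (b.map e.symm.toEmbedding)) '' B
  have hW : IsGolay (Submodule.span (ZMod 2) W) := by
    refine isGolay_span ?_ ?_ ?_
    · rintro _ ⟨b, hb, rfl⟩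
      rw [sp_ind_map, Finset.card_map, hB.1 b hb]
    · rintro _ ⟨b, hb, rfl⟩ _ ⟨c, hc, rfl⟩
      rw [sp_ind_map, sp_ind_map, card_map_inter]
      by_cases hbc : b = c
      · rw [hbc, Finset.inter_self, hB.1 c hc]; exact ⟨4, rfl⟩
      · have m0 := Design.moment hB (by norm_num) b (i := 0) (lam := 759) (by norm_num)
          (by rw [hα]; decide +kernel)
        have m1 := Design.moment hB (by norm_num) b (i := 1) (lam := 253) (by norm_num)
          (by rw [hα]; decide +kernel)
        have m2 := Design.moment hB (by norm_num) b (i := 2) (lam := 77) (by norm_num)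
          (by rw [hα]; decide +kernel)
        have m3 := Design.moment hB (by norm_num) b (i := 3) (lam := 21) (by norm_num)
          (by rw [hα]; decide +kernel)
        have m4 := Design.moment hB (by norm_num) b (i := 4) (lam := 5) (by norm_num)
          (by rw [hα]; decide +kernel)
        have z5 := Design.cnt_zero hB hb (j := 5) le_rfl (by norm_num)
        have z6 := Design.cnt_zero hB hb (j := 6) (by norm_num) (by norm_num)
        have z7 := Design.cnt_zero hB hb (j := 7) (by norm_num) (by norm_num)
        have self := Design.cnt_self hB (by norm_num) hb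
        simp only [hB.1 b hb, Finset.sum_range_succ, Finset.sum_range_zero, Nat.choose_zero_right,
          Nat.reduceAdd, z5, z6, z7, self] at m0 m1 m2 m3 m4
        norm_num [Nat.choose] at m0 m1 m2 m3 m4
        have hpos := Design.cnt_pos_of_mem (Y := b) hc
        have hlt := Design.inter_lt_of_ne hB hb hc hbc
        rw [Finset.inter_comm] at hpos
        generalize hj : (b ∩ c).card = j at hpos hlt ⊢
        interval_cases j <;> first | omega | decide
    · intro v hv hne
      by_contra hlt
      have hmap : ((sp v).map e.toEmbedding).card = (sp v).card := Finset.card_map _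
      have hnem : ((sp v).map e.toEmbedding).Nonempty := by
        rw [Finset.map_nonempty, Finset.nonempty_iff_ne_empty]
        exact fun h0 => hne (AbstractGolay.sp_inj (by rw [h0]; simp [AbstractGolay.sp]))
      obtain ⟨b, hb, hodd⟩ := exists_odd_block_24 hα hB hnem (by omega)
      have := hv _ ⟨b, hb, rfl⟩
      rw [ind_dot, ZMod.natCast_eq_zero_iff_even] at this
      refine Nat.not_even_iff_odd.mpr hodd ?_
      convert this using 1
      rw [← card_map_inter e.symm, Finset.inter_comm]
      congr 2
      ext i
      simp
  obtain ⟨e', he'⟩ := exists_equiv_golayCode hW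
  refine ⟨e.symm.trans e', ?_⟩
  have hsub : (fun b => b.image (e.symm.trans e')) '' B ⊆ octads := by
    rintro _ ⟨b, hb, rfl⟩
    let w : GolayPt → ZMod 2 := fun p => ind (b.map e.symm.toEmbedding) (e'.symm p)
    have hw : w ∈ golayCode := (he' w).mpr (by
      simp only [w, Equiv.symm_apply_apply]
      exact Submodule.subset_span ⟨b, hb, rfl⟩)
    refine ⟨⟨w, hw, ?_⟩, ?_⟩
    · ext p
      simp only [w, support₂, Finset.mem_filter, Finset.mem_univ, true_and, ne_eq, ind,
        Finset.mem_map_equiv, ite_eq_right_iff, one_ne_zero, imp_false, not_not,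
        Finset.mem_image, Equiv.trans_apply, Equiv.symm_symm]
      constructor
      · exact fun h => ⟨_, h, by simp⟩
      · rintro ⟨a, ha, rfl⟩
        simpa using ha
    · rw [Finset.card_image_of_injective _ (e.symm.trans e').injective, hB.1 b hb]
  refine Set.eq_of_subset_of_ncard_le hsub ?_ (Set.toFinite _)
  rw [Set.ncard_image_of_injective _ (Finset.image_injective (e.symm.trans e').injective),
    ncard_octads]
  have := Design.card_blocks_mul hB
  rw [hα] at this
  norm_num [Nat.choose] at this
  omega

/-- An S(4, 7, 23) is carried onto the octads through one point. -/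
theorem exists_iso_derived (hα : Fintype.card α = 23) {B : Set (Finset α)}
    (hB : IsSteinerSystem 4 7 B) :
    ∃ f : Option α ≃ GolayPt, (fun b => (Finset.insertNone b).image f) '' B =
      {o | o ∈ octads ∧ f none ∈ o} := by
  classical
  let e : Fin 24 ≃ Option α := (Fintype.equivFinOfCardEq (by simp [hα])).symm
  let W : Set Word := (fun b : Finset α => ind ((Finset.insertNone b).map e.symm.toEmbedding)) '' B
  have hW : IsGolay (Submodule.span (ZMod 2) W) := by
    refine isGolay_span ?_ ?_ ?_
    · rintro _ ⟨b, hb, rfl⟩
      rw [sp_ind_map, Finset.card_map, Finset.card_insertNone, hB.1 b hb]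
    · rintro _ ⟨b, hb, rfl⟩ _ ⟨c, hc, rfl⟩
      rw [sp_ind_map, sp_ind_map, card_map_inter]
      have hins : Finset.insertNone b ∩ Finset.insertNone c = Finset.insertNone (b ∩ c) := by
        ext (_ | x) <;> simp
      rw [hins, Finset.card_insertNone]
      by_cases hbc : b = c
      · rw [hbc, Finset.inter_self, hB.1 c hc]; exact ⟨4, rfl⟩
      · have m0 := Design.moment hB (by norm_num) b (i := 0) (lam := 253) (by norm_num)
          (by rw [hα]; decide +kernel)
        have m1 := Design.moment hB (by norm_num) b (i := 1) (lam := 77) (by norm_num)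
          (by rw [hα]; decide +kernel)
        have m2 := Design.moment hB (by norm_num) b (i := 2) (lam := 21) (by norm_num)
          (by rw [hα]; decide +kernel)
        have m3 := Design.moment hB (by norm_num) b (i := 3) (lam := 5) (by norm_num)
          (by rw [hα]; decide +kernel)
        have z4 := Design.cnt_zero hB hb (j := 4) le_rfl (by norm_num)
        have z5 := Design.cnt_zero hB hb (j := 5) (by norm_num) (by norm_num)
        have z6 := Design.cnt_zero hB hb (j := 6) (by norm_num) (by norm_num)
        have self := Design.cnt_self hB (by norm_num) hb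
        simp only [hB.1 b hb, Finset.sum_range_succ, Finset.sum_range_zero, Nat.choose_zero_right,
          Nat.reduceAdd, z4, z5, z6, self] at m0 m1 m2 m3
        norm_num [Nat.choose] at m0 m1 m2 m3
        have hpos := Design.cnt_pos_of_mem (Y := b) hc
        have hlt := Design.inter_lt_of_ne hB hb hc hbc
        rw [Finset.inter_comm] at hpos
        generalize hj : (b ∩ c).card = j at hpos hlt ⊢
        interval_cases j <;> first | omega | decide
    · intro v hv hne
      by_contra hlt
      let Z : Finset (Option α) := (sp v).map e.toEmbedding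
      have hZ : Z.card = (sp v).card := Finset.card_map _
      have hZpos : 0 < Z.card := by
        rw [hZ, Finset.card_pos, Finset.nonempty_iff_ne_empty]
        exact fun h0 => hne (AbstractGolay.sp_inj (by rw [h0]; simp [AbstractGolay.sp]))
      let p : ℕ := if none ∈ Z then 1 else 0
      have hsplit : Z.eraseNone.card + p = Z.card := by
        simp only [p]
        split_ifs with h
        · rw [Finset.card_eraseNone_eq_card_erase, Finset.card_erase_add_one h]
        · rw [Finset.card_eraseNone_eq_card_erase, Finset.erase_eq_of_notMem h, add_zero]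
      obtain ⟨b, hb, hne'⟩ := no_parity_set_23 hα hB (Y := Z.eraseNone) (p := p)
        (by simp only [p]; split_ifs <;> norm_num) (by omega) (by omega)
      have h0 := hv _ ⟨b, hb, rfl⟩
      rw [ind_dot, ZMod.natCast_eq_zero_iff_even] at h0
      have hcount : (sp v ∩ (Finset.insertNone b).map e.symm.toEmbedding).card =
          (b ∩ Z.eraseNone).card + p := by
        have h1 : (sp v ∩ (Finset.insertNone b).map e.symm.toEmbedding).card =
            (Z ∩ Finset.insertNone b).card := by
          rw [← card_map_inter e.symm]
          congr 2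
          ext i
          simp [Z]
        rw [h1]
        have h2 : (Z ∩ Finset.insertNone b).eraseNone = b ∩ Z.eraseNone := by
          ext x
          simp [and_comm]
        simp only [p]
        rw [← h2, Finset.card_eraseNone_eq_card_erase]
        split_ifs with h
        · rw [Finset.card_erase_add_one (Finset.mem_inter.mpr
            ⟨h, Finset.none_mem_insertNone⟩)]
        · rw [Finset.erase_eq_of_notMem (fun h' => h (Finset.mem_inter.mp h').1), add_zero]
      rw [hcount, Nat.even_iff] at h0
      have : p ≤ 1 := by simp only [p]; split_ifs <;> norm_num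
      omega
  obtain ⟨e', he'⟩ := exists_equiv_golayCode hW
  refine ⟨e.symm.trans e', ?_⟩
  have hsub : (fun b => (Finset.insertNone b).image (e.symm.trans e')) '' B ⊆
      {o | o ∈ octads ∧ (e.symm.trans e') none ∈ o} := by
    rintro _ ⟨b, hb, rfl⟩
    let w : GolayPt → ZMod 2 := fun p =>
      ind ((Finset.insertNone b).map e.symm.toEmbedding) (e'.symm p)
    have hw : w ∈ golayCode := (he' w).mpr (by
      simp only [w, Equiv.symm_apply_apply]
      exact Submodule.subset_span ⟨b, hb, rfl⟩)
    refine ⟨⟨⟨w, hw, ?_⟩, ?_⟩, Finset.mem_image_of_mem _ Finset.none_mem_insertNone⟩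
    · ext p
      simp only [w, support₂, Finset.mem_filter, Finset.mem_univ, true_and, ne_eq, ind,
        Finset.mem_map_equiv, ite_eq_right_iff, one_ne_zero, imp_false, not_not,
        Finset.mem_image, Equiv.trans_apply, Equiv.symm_symm]
      constructor
      · exact fun h => ⟨_, h, by simp⟩
      · rintro ⟨a, ha, rfl⟩
        simpa using ha
    · rw [Finset.card_image_of_injective _ (e.symm.trans e').injective, Finset.card_insertNone,
        hB.1 b hb]
  refine Set.eq_of_subset_of_ncard_le hsub ?_ (Set.toFinite _)
  have hinj : Function.Injective fun b : Finset α =>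
      (Finset.insertNone b).image (e.symm.trans e') := by
    intro b c h
    have := Finset.image_injective (e.symm.trans e').injective h
    simpa using congrArg Finset.eraseNone this
  rw [Set.ncard_image_of_injective _ hinj]
  have hb := Design.card_blocks_mul hB
  rw [hα] at hb
  norm_num [Nat.choose] at hb
  have hc := Design.card_through octads_steiner (Z := {(e.symm.trans e') none}) (lam := 253)
    (by simp) (by norm_num) (by simp [Nat.choose])
  have : {o : Finset GolayPt | o ∈ octads ∧ (e.symm.trans e') none ∈ o} =
      ↑((blocks octads).filter fun o => {(e.symm.trans e') none} ⊆ o) := by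
    ext o
    simp [mem_blocks]
  rw [this, Set.ncard_coe_finset, hc]
  omega

variable {β : Type*} [Fintype β] [DecidableEq β]

/-- S(5, 8, 24) is unique. -/
theorem steiner_5_8_24_iso (hα : Fintype.card α = 24) (hβ : Fintype.card β = 24)
    {B : Set (Finset α)} {B' : Set (Finset β)} (hB : IsSteinerSystem 5 8 B)
    (hB' : IsSteinerSystem 5 8 B') : SetSystemIso B B' := by
  obtain ⟨f, hf⟩ := exists_iso_octads hα hB
  obtain ⟨f', hf'⟩ := exists_iso_octads hβ hB'
  refine ⟨f.trans f'.symm, ?_⟩
  have h1 : ∀ b : Finset α, b.image (f.trans f'.symm) = (b.image f).image f'.symm := fun b => by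
    rw [Finset.image_image]; rfl
  simp only [h1]
  rw [← Set.image_image (fun s => s.image f'.symm) (fun b : Finset α => b.image f), hf, ← hf',
    Set.image_image]
  simp [Finset.image_image]

/-- S(4, 7, 23) is unique. -/
theorem steiner_4_7_23_iso (hα : Fintype.card α = 23) (hβ : Fintype.card β = 23)
    {B : Set (Finset α)} {B' : Set (Finset β)} (hB : IsSteinerSystem 4 7 B)
    (hB' : IsSteinerSystem 4 7 B') : SetSystemIso B B' := by
  classical
  obtain ⟨f, hf⟩ := exists_iso_derived hα hB
  obtain ⟨f', hf'⟩ := exists_iso_derived hβ hB'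
  obtain ⟨g, hg, hgp⟩ : ∃ g ∈ M24, g (f none) = f' none := by
    obtain ⟨g, hg, h⟩ := exists_map_five_point (f none) (f' none)
    exact ⟨g, hg, h⟩
  let F : Option α ≃ Option β := f.trans (g.trans f'.symm)
  have hF : F none = none := by simp [F, hgp]
  let h : α ≃ β := Equiv.removeNone F
  have hh : ∀ a, some (h a) = F (some a) := fun a => by
    rw [Equiv.removeNone_some]
    rw [← Option.ne_none_iff_exists']
    intro e'
    exact Option.some_ne_none a (F.injective (e'.trans hF.symm))
  have hFins : ∀ b : Finset α, (Finset.insertNone b).image F = Finset.insertNone (b.image h) := by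
    intro b
    ext (_ | y)
    · simp only [Finset.none_mem_insertNone, iff_true, Finset.mem_image]
      exact ⟨none, Finset.none_mem_insertNone, hF⟩
    · simp only [Finset.mem_image, Finset.some_mem_insertNone]
      constructor
      · rintro ⟨(_ | a), ha, hax⟩
        · rw [hF] at hax; exact absurd hax (Option.some_ne_none y).symm
        · exact ⟨a, Finset.some_mem_insertNone.mp ha, Option.some_injective _ ((hh a).trans hax)⟩
      · rintro ⟨a, ha, rfl⟩
        exact ⟨some a, Finset.some_mem_insertNone.mpr ha, (hh a).symm⟩
  refine ⟨h, Set.eq_of_subset_of_ncard_le ?_ ?_ (Set.toFinite _)⟩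
  · rintro _ ⟨b, hb, rfl⟩
    have h1 : (Finset.insertNone b).image f ∈ {o | o ∈ octads ∧ f none ∈ o} := hf ▸ ⟨b, hb, rfl⟩
    have h2 : ((Finset.insertNone b).image f).image g ∈ {o | o ∈ octads ∧ f' none ∈ o} :=
      ⟨smul_mem_octads hg h1.1, hgp ▸ Finset.mem_image_of_mem g h1.2⟩
    rw [← hf'] at h2
    obtain ⟨c, hc, hce⟩ := h2
    have h3 := congrArg (Finset.image f'.symm) hce
    simp only [Finset.image_image, Equiv.symm_comp_self, Finset.image_id] at h3
    have h4 : (Finset.insertNone b).image (f'.symm ∘ g ∘ f) = Finset.insertNone (b.image h) := by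
      rw [← hFins]; rfl
    rw [h4] at h3
    have h5 : c = b.image h := by simpa using congrArg Finset.eraseNone h3
    show b.image h ∈ B'
    rw [← h5]
    exact hc
  · rw [Set.ncard_image_of_injective _ (Finset.image_injective h.injective)]
    have h1 := Design.card_blocks_mul hB
    have h2 := Design.card_blocks_mul hB'
    rw [hα] at h1
    rw [hβ] at h2
    norm_num [Nat.choose] at h1 h2
    omega
where
  /-- `M24` is transitive. -/
  exists_map_five_point (a b : GolayPt) : ∃ g ∈ M24, g a = b := by
    obtain ⟨x, hx⟩ : ∃ x : Fin 5 ↪ GolayPt, x 0 = a := by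
      obtain ⟨z⟩ : Nonempty (Fin 5 ↪ GolayPt) := Function.Embedding.nonempty_of_card_le (by simp)
      exact ⟨z.trans (Equiv.swap (z 0) a).toEmbedding, by simp⟩
    obtain ⟨y, hy⟩ : ∃ y : Fin 5 ↪ GolayPt, y 0 = b := by
      obtain ⟨z⟩ : Nonempty (Fin 5 ↪ GolayPt) := Function.Embedding.nonempty_of_card_le (by simp)
      exact ⟨z.trans (Equiv.swap (z 0) b).toEmbedding, by simp⟩
    obtain ⟨g, hg, h⟩ := exists_map_five x y
    exact ⟨g, hg, by rw [← hx, h 0, hy]⟩

end systems

end Cfsg.Agent.Golay
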