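/-
Golay library, part 14: automorphism groups of S(5, 8, 24) and S(4, 7, 23).

Main results: `mem_M24_of_octads_through`, `setSystemAutCongr`, `aut24_equiv`, `aut23_equiv`.
-/
import Cfsg.Agent.Lib.Golay.DesignCode
import Cfsg.Agent.Lib.Golay.Mathieu

set_option autoImplicit false
open scoped Pointwise symmDiff
open Cfsg MulAction

namespace Cfsg.Agent.Golay

/-- Twelve octads through the extra point, spanning the code. -/
def infRows : List ℕ :=
  [0xc75001, 0x8ea003, 0xd4b004, 0xa96009, 0x9b3010, 0xb66020, 0xecc040, 0xd98081, 0xb30103,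
    0xbc1201, 0xb1d400, 0xe3a800]

/-- A permutation sending every octad through a point to a code word lies in `M24`. -/
theorem mem_M24_of_octads_through (p : GolayPt) {π : Equiv.Perm GolayPt}
    (h : ∀ o ∈ octads, p ∈ o → π • o ∈ supports (golayCode : Set (GolayPt → ZMod 2))) :
    π ∈ M24 := by
  obtain ⟨g, hg, hgp⟩ := exists_map_one (pt 23) p
  suffices π * g ∈ M24 by
    have := mul_mem this (inv_mem hg)
    rwa [mul_inv_cancel_right] at this
  have hrows : ∀ o ∈ infRows,
      (π * g) • pts o ∈ supports (golayCode : Set (GolayPt → ZMod 2)) := by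
    intro o ho
    have hchk : ∀ o ∈ infRows, (isCode o && popcount o == 8) = true ∧ o.testBit 23 = true := by
      decide +kernel
    rw [mul_smul]
    refine h _ (smul_mem_octads hg (pts_mem_octads (hchk o ho).1)) ?_
    rw [← hgp]
    refine Finset.smul_mem_smul_finset (mem_pts.mpr ?_)
    rw [idx_pt (by norm_num)]
    exact (hchk o ho).2
  have hspan : rows = [1, 3, 4, 9, 16, 32, 64, 129, 258, 513, 1024, 2048].map (encAux infRows) := by
    decide +kernel
  refine mem_M24_of_rows fun r hr => ?_
  rw [hspan, List.mem_map] at hr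
  obtain ⟨x, -, rfl⟩ := hr
  exact smul_encAux_mem _ infRows hrows x

theorem mem_setSystemAut_iff {α : Type*} [DecidableEq α] [Finite α] {B : Set (Finset α)}
    {g : Equiv.Perm α} : g ∈ setSystemAut B ↔ ∀ b ∈ B, b.image g ∈ B := by
  constructor
  · intro h b hb
    rw [← mem_stabilizer_iff.mp h]
    exact ⟨b, hb, rfl⟩
  · intro h
    rw [mem_stabilizer_iff]
    refine Set.eq_of_subset_of_ncard_le ?_ ?_ (Set.toFinite _)
    · rintro _ ⟨b, hb, rfl⟩
      exact h b hb
    · exact le_of_eq (Set.ncard_image_of_injective _ (MulAction.injective g)).symm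

section

variable {α β : Type*} [DecidableEq α] [DecidableEq β] [Finite α] [Finite β]

/-- Isomorphic set systems have isomorphic automorphism groups. -/
def setSystemAutCongr (f : α ≃ β) {B : Set (Finset α)} {B' : Set (Finset β)}
    (h : (fun b => b.image f) '' B = B') : setSystemAut B ≃* setSystemAut B' where
  toFun g := ⟨f.permCongr g, mem_setSystemAut_iff.mpr fun b hb => by
    rw [← h] at hb ⊢
    obtain ⟨a, ha, rfl⟩ := hb
    refine ⟨a.image (g : Equiv.Perm α), mem_setSystemAut_iff.mp g.2 a ha, ?_⟩
    simp only [Finset.image_image]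
    refine Finset.image_congr fun x _ => ?_
    simp⟩
  invFun g := ⟨f.symm.permCongr g, mem_setSystemAut_iff.mpr fun a ha => by
    have hb := mem_setSystemAut_iff.mp g.2 _ (h ▸ Set.mem_image_of_mem _ ha)
    obtain ⟨a', ha', he⟩ := (Set.ext_iff.mp h _).mpr hb
    have : a.image (f.symm.permCongr (g : Equiv.Perm β)) = a' := by
      have h2 := congrArg (Finset.image f.symm) he
      simp only [Finset.image_image, Equiv.symm_comp_self, Finset.image_id] at h2
      rw [h2]
      refine Finset.image_congr fun x _ => ?_
      simp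
    rw [this]
    exact ha'⟩
  left_inv g := Subtype.ext (Equiv.ext fun x => by simp)
  right_inv g := Subtype.ext (Equiv.ext fun x => by simp)
  map_mul' g g' := Subtype.ext (Equiv.ext fun x => by simp)

theorem setSystemAutCongr_apply (f : α ≃ β) {B : Set (Finset α)} {B' : Set (Finset β)}
    (h : (fun b => b.image f) '' B = B') (g : setSystemAut B) (a : α) :
    ((setSystemAutCongr f h g : setSystemAut B') : Equiv.Perm β) (f a) =
      f ((g : Equiv.Perm α) a) := by
  simp [setSystemAutCongr]

end

variable {α : Type*} [Fintype α] [DecidableEq α]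

/-- The automorphism group of an S(5, 8, 24) is M24, compatibly with a bijection of the points. -/
theorem aut24_equiv (hα : Fintype.card α = 24) {B : Set (Finset α)}
    (hB : IsSteinerSystem 5 8 B) :
    ∃ (f : α ≃ GolayPt) (φ : setSystemAut B ≃* M24),
      ∀ g a, ((φ g : M24) : Equiv.Perm GolayPt) (f a) = f ((g : Equiv.Perm α) a) := by
  obtain ⟨f, hf⟩ := exists_iso_octads hα hB
  refine ⟨f, (setSystemAutCongr f hf).trans
    (MulEquiv.subgroupCongr m24_eq_setSystemAut_octads.symm), fun g a => ?_⟩
  exact setSystemAutCongr_apply f hf g a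

/-- The automorphism group of an S(4, 7, 23) is a point stabiliser in M24. -/
theorem aut23_equiv (hα : Fintype.card α = 23) {B : Set (Finset α)}
    (hB : IsSteinerSystem 4 7 B) :
    ∃ (f : Option α ≃ GolayPt)
      (φ : setSystemAut B ≃* ↥(M24 ⊓ stabilizer (Equiv.Perm GolayPt) (f none))),
      ∀ g a, ((φ g : ↥(M24 ⊓ stabilizer (Equiv.Perm GolayPt) (f none))) : Equiv.Perm GolayPt)
        (f (some a)) = f (some ((g : Equiv.Perm α) a)) := by
  obtain ⟨f, hf⟩ := exists_iso_derived hα hB
  let T : Equiv.Perm α → Equiv.Perm GolayPt := fun g => f.permCongr (Equiv.optionCongr g)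
  have hTfix : ∀ g, T g (f none) = f none := fun g => by simp [T]
  have hTsome : ∀ g a, T g (f (some a)) = f (some (g a)) := fun g a => by simp [T]
  have hTim : ∀ g : Equiv.Perm α, ∀ b : Finset α,
      T g • (Finset.insertNone b).image f = (Finset.insertNone (b.image g)).image f := by
    intro g b
    rw [smul_eq_image, Finset.image_image]
    ext y
    simp only [Finset.mem_image, Function.comp_apply]
    constructor
    · rintro ⟨(_ | a), ha, rfl⟩
      · exact ⟨none, Finset.none_mem_insertNone, (hTfix g).symm⟩
      · exact ⟨some (g a), Finset.some_mem_insertNone.mpr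
          (Finset.mem_image_of_mem g (Finset.some_mem_insertNone.mp ha)), (hTsome g a).symm⟩
    · rintro ⟨(_ | a), ha, rfl⟩
      · exact ⟨none, Finset.none_mem_insertNone, hTfix g⟩
      · obtain ⟨a', ha', rfl⟩ := Finset.mem_image.mp (Finset.some_mem_insertNone.mp ha)
        exact ⟨some a', Finset.some_mem_insertNone.mpr ha', hTsome g a'⟩
  have hTmem : ∀ g : setSystemAut B, T g ∈ M24 ⊓ stabilizer (Equiv.Perm GolayPt) (f none) := by
    intro g
    refine ⟨mem_M24_of_octads_through (f none) fun o ho hp => ?_, hTfix _⟩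
    obtain ⟨b, hb, rfl⟩ : o ∈ (fun b => (Finset.insertNone b).image f) '' B :=
      hf.symm ▸ (⟨ho, hp⟩ : o ∈ {o | o ∈ octads ∧ f none ∈ o})
    rw [hTim]
    exact (hf ▸ Set.mem_image_of_mem _ (mem_setSystemAut_iff.mp g.2 b hb) :
      (Finset.insertNone (b.image (g : Equiv.Perm α))).image f ∈
        {o | o ∈ octads ∧ f none ∈ o}).1.1
  let F : setSystemAut B →* ↥(M24 ⊓ stabilizer (Equiv.Perm GolayPt) (f none)) :=
    { toFun := fun g => ⟨T g, hTmem g⟩
      map_one' := Subtype.ext (Equiv.ext fun x => by simp [T])
      map_mul' := fun g g' => Subtype.ext (Equiv.ext fun x => by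
        obtain ⟨(_ | a), rfl⟩ := f.surjective x <;> simp [T]) }
  have hinj : Function.Injective F := fun g g' h => Subtype.ext (Equiv.ext fun a => by
    have := congrArg (fun u => (u : Equiv.Perm GolayPt)) (Subtype.ext_iff.mp h)
    have h2 := Equiv.Perm.ext_iff.mp this (f (some a))
    simpa [F, hTsome] using h2)
  have hsurj : Function.Surjective F := by
    rintro ⟨π, hπ, hπf⟩
    let e : Equiv.Perm (Option α) := f.symm.permCongr π
    have he : e none = none := by
      simp [e, show π (f none) = f none from hπf]
    let g : Equiv.Perm α := Equiv.removeNone e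
    have hg : ∀ a, some (g a) = e (some a) := fun a => by
      rw [Equiv.removeNone_some]
      rw [← Option.ne_none_iff_exists']
      exact fun e' => Option.some_ne_none a (e.injective (e'.trans he.symm))
    have hTg : T g = π := by
      refine Equiv.ext fun x => ?_
      obtain ⟨(_ | a), rfl⟩ := f.surjective x
      · rw [hTfix]; exact hπf.symm
      · rw [hTsome, hg]; simp [e]
    have hgB : g ∈ setSystemAut B := by
      refine mem_setSystemAut_iff.mpr fun b hb => ?_
      have h1 : (Finset.insertNone b).image f ∈ {o | o ∈ octads ∧ f none ∈ o} :=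
        hf ▸ Set.mem_image_of_mem _ hb
      have h2 : T g • (Finset.insertNone b).image f ∈ {o | o ∈ octads ∧ f none ∈ o} := by
        rw [hTg]
        refine ⟨smul_mem_octads hπ h1.1, ?_⟩
        have := Finset.smul_mem_smul_finset (a := π) h1.2
        rwa [Equiv.Perm.smul_def, show π (f none) = f none from hπf] at this
      rw [hTim, ← hf] at h2
      obtain ⟨c, hc, hce⟩ := h2
      have h3 := congrArg Finset.eraseNone (Finset.image_injective f.injective hce)
      rw [Finset.eraseNone_insertNone, Finset.eraseNone_insertNone] at h3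
      exact h3 ▸ hc
    exact ⟨⟨g, hgB⟩, Subtype.ext hTg⟩
  exact ⟨f, MulEquiv.ofBijective F ⟨hinj, hsurj⟩, fun g a => hTsome _ a⟩

end Cfsg.Agent.Golay
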