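/-
Golay library, part 38: the systems S(3, 6, 22).

Main results: `parity_set_22`, `exists_iso_derived22`, `steiner_3_6_22_iso`.
-/
import Cfsg.Agent.Lib.Golay.DesignCode
import Cfsg.Agent.Lib.Golay.Mathieu

set_option autoImplicit false
open scoped symmDiff Pointwise
open Cfsg MulAction

namespace Cfsg.Agent.Golay

open AbstractGolay (Word sp ind IsGolay)
open SteinerCount (blocks mem_blocks)

/-- The double orthogonal of a subspace is itself. -/
theorem perp_perp (C : Submodule (ZMod 2) Word) :
    perp (perp (C : Set Word) : Set Word) = C := by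
  refine (Submodule.eq_of_le_of_finrank_eq (fun v hv w hw => ?_) ?_).symm
  · rw [dot_sum_comm]
    exact hw v hv
  · have h1 := finrank_add_finrank_perp C
    have h2 := finrank_add_finrank_perp (perp (C : Set Word))
    omega

section

variable {α : Type*} [Fintype α] [DecidableEq α]

theorem sum_range_cnt {B : Set (Finset α)} (hB : ∀ b ∈ B, b.card = 6) (Y : Finset α) (i : ℕ) :
    ∑ j ∈ Finset.range (Y.card + 1), Design.cnt B Y j * j.choose i =
      ∑ j ∈ Finset.range 7, Design.cnt B Y j * j.choose i := by
  have hz : ∀ j, Y.card < j ∨ 6 < j → Design.cnt B Y j = 0 := by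
    intro j hj
    refine cnt_eq_zero_of_forall fun b hb e => ?_
    have h1 := Finset.card_le_card (Finset.inter_subset_right : b ∩ Y ⊆ Y)
    have h2 := Finset.card_le_card (Finset.inter_subset_left : b ∩ Y ⊆ b)
    rw [hB b hb] at h2
    omega
  have h7 : ∀ n, 7 ≤ n → ∑ j ∈ Finset.range n, Design.cnt B Y j * j.choose i =
      ∑ j ∈ Finset.range 7, Design.cnt B Y j * j.choose i := fun n hn =>
    (Finset.sum_subset (Finset.range_mono hn) fun j _ hj => by
      rw [hz j (Or.inr (by simp at hj; omega)), zero_mul]).symm
  rw [← h7 (max 7 (Y.card + 1)) (le_max_left _ _)]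
  refine Finset.sum_subset (Finset.range_mono (le_max_right _ _)) fun j _ hj => ?_
  rw [hz j (Or.inl (by simp at hj; omega)), zero_mul]

/-- A set meeting all blocks of an S(3, 6, 22) with the same parity: if odd, it has 7, 11 or 15
points; if even and of 1 to 6 points, it is a block. -/
theorem parity_set_22 (hα : Fintype.card α = 22) {B : Set (Finset α)}
    (hB : IsSteinerSystem 3 6 B) (Y : Finset α) :
    ((∀ b ∈ B, Odd (b ∩ Y).card) → Y.card = 7 ∨ Y.card = 11 ∨ Y.card = 15) ∧
      ((∀ b ∈ B, Even (b ∩ Y).card) → Y.Nonempty → Y.card ≤ 6 → Y ∈ B) := by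
  have m0 := Design.moment hB (by norm_num) Y (i := 0) (lam := 77) (by norm_num)
    (by rw [hα]; decide +kernel)
  have m1 := Design.moment hB (by norm_num) Y (i := 1) (lam := 21) (by norm_num)
    (by rw [hα]; decide +kernel)
  have m2 := Design.moment hB (by norm_num) Y (i := 2) (lam := 5) (by norm_num)
    (by rw [hα]; decide +kernel)
  have m3 := Design.moment hB (by norm_num) Y (i := 3) (lam := 1) (by norm_num)
    (by rw [hα]; decide +kernel)
  rw [sum_range_cnt hB.1] at m0 m1 m2 m3
  simp only [Finset.sum_range_succ, Finset.sum_range_zero] at m0 m1 m2 m3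
  norm_num [Nat.choose] at m0 m1 m2 m3
  have hy22 : Y.card ≤ 22 := hα ▸ Finset.card_le_univ Y
  refine ⟨fun h => ?_, fun h hne hle => ?_⟩
  · have h0 : ∀ j, Even j → Design.cnt B Y j = 0 := fun j hj =>
      cnt_eq_zero_of_forall fun b hb e => Nat.not_even_iff_odd.mpr (h b hb) (e ▸ hj)
    rw [h0 0 (by decide), h0 2 (by decide), h0 4 (by decide), h0 6 (by decide)] at *
    generalize Y.card = y at hy22 m0 m1 m2 m3 ⊢
    interval_cases y <;> revert m0 m1 m2 m3 <;> norm_num [Nat.choose] <;> (try omega)
  · have h0 : ∀ j, Odd j → Design.cnt B Y j = 0 := fun j hj =>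
      cnt_eq_zero_of_forall fun b hb e => Nat.not_even_iff_odd.mpr (e ▸ hj) (h b hb)
    rw [h0 1 (by decide), h0 3 (by decide), h0 5 (by decide)] at *
    have hpos := hne.card_pos
    have key : Y.card = 6 ∧ 0 < Design.cnt B Y 6 := by
      generalize Y.card = y at hle hpos m0 m1 m2 m3 ⊢
      interval_cases y <;> revert m0 m1 m2 m3 <;> norm_num [Nat.choose] <;> (try omega)
    obtain ⟨b, hb⟩ := Finset.card_pos.mp key.2
    rw [Finset.mem_filter, mem_blocks] at hb
    obtain ⟨hb, hc⟩ := hb
    have e1 := Finset.eq_of_subset_of_card_le (Finset.inter_subset_left : b ∩ Y ⊆ b)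
      (by rw [hc, hB.1 b hb])
    have e2 := Finset.eq_of_subset_of_card_le (Finset.inter_subset_right : b ∩ Y ⊆ Y)
      (by rw [hc, key.1])
    exact (e1.symm.trans e2) ▸ hb

/-- A block with the two extra points. -/
def addTwo (b : Finset α) : Finset (α ⊕ Bool) := b.disjSum Finset.univ

theorem card_inter_addTwo (Z : Finset (α ⊕ Bool)) (b : Finset α) :
    (Z ∩ addTwo b).card = (b ∩ Z.toLeft).card + Z.toRight.card := by
  rw [← Finset.card_toLeft_add_card_toRight (u := Z ∩ addTwo b)]
  congr 1
  · rw [Finset.toLeft_inter, addTwo, Finset.toLeft_disjSum, Finset.inter_comm]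
  · congr 1
    ext x
    simp [addTwo]

/-- An S(3, 6, 22) is carried onto the octads through two points. -/
theorem exists_iso_derived22 (hα : Fintype.card α = 22) {B : Set (Finset α)}
    (hB : IsSteinerSystem 3 6 B) :
    ∃ f : α ⊕ Bool ≃ GolayPt, (fun b => (addTwo b).image f) '' B =
      {o | o ∈ octads ∧ f (Sum.inr false) ∈ o ∧ f (Sum.inr true) ∈ o} := by
  classical
  let e : Fin 24 ≃ α ⊕ Bool := (Fintype.equivFinOfCardEq (by simp [hα])).symm
  let w : Finset α → Word := fun b => ind ((addTwo b).map e.symm.toEmbedding)
  let z : Word := ind ((addTwo (∅ : Finset α)).map e.symm.toEmbedding)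
  have hdot : ∀ (v : Word) (b : Finset α), ∑ i, v i * w b i =
      (((b ∩ ((sp v).map e.toEmbedding).toLeft).card +
        ((sp v).map e.toEmbedding).toRight.card : ℕ) : ZMod 2) := by
    intro v b
    rw [ind_dot, ← card_inter_addTwo]
    congr 1
    rw [← card_map_inter e.symm]
    congr 2
    ext i
    simp
  have hzdot : ∀ v : Word, ∑ i, v i * z i =
      ((((sp v).map e.toEmbedding).toRight.card : ℕ) : ZMod 2) := by
    intro v
    have := hdot v ∅
    simpa [w, z] using this
  have hspw : ∀ b : Finset α, (sp (w b)).map e.toEmbedding = addTwo b := by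
    intro b
    rw [sp_ind_map]
    ext i
    simp
  have hcardw : ∀ b ∈ B, (sp (w b)).card = 8 := by
    intro b hb
    rw [sp_ind_map, Finset.card_map, addTwo, Finset.card_disjSum, hB.1 b hb]
    rfl
  have heven : ∀ b ∈ B, ∀ c ∈ B, Even (sp (w b) ∩ sp (w c)).card := by
    intro b hb c hc
    rw [sp_ind_map, sp_ind_map, card_map_inter, card_inter_addTwo, addTwo,
      Finset.toLeft_disjSum, Finset.toRight_disjSum, Finset.card_univ, Fintype.card_bool,
      Nat.even_add]
    simp only [even_two, iff_true]
    by_cases hbc : c = b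
    · rw [hbc, Finset.inter_self, hB.1 b hb]; decide
    · have m0 := Design.moment hB (by norm_num) b (i := 0) (lam := 77) (by norm_num)
        (by rw [hα]; decide +kernel)
      have m1 := Design.moment hB (by norm_num) b (i := 1) (lam := 21) (by norm_num)
        (by rw [hα]; decide +kernel)
      have m2 := Design.moment hB (by norm_num) b (i := 2) (lam := 5) (by norm_num)
        (by rw [hα]; decide +kernel)
      have z3 := Design.cnt_zero hB hb (j := 3) le_rfl (by norm_num)
      have z4 := Design.cnt_zero hB hb (j := 4) (by norm_num) (by norm_num)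
      have z5 := Design.cnt_zero hB hb (j := 5) (by norm_num) (by norm_num)
      have self := Design.cnt_self hB (by norm_num) hb
      simp only [hB.1 b hb, Finset.sum_range_succ, Finset.sum_range_zero, Nat.choose_zero_right,
        Nat.reduceAdd, z3, z4, z5, self] at m0 m1 m2
      norm_num [Nat.choose] at m0 m1 m2
      have hpos := Design.cnt_pos_of_mem (Y := b) hc
      have hlt := Design.inter_lt_of_ne hB hc hb hbc
      generalize hj : (c ∩ b).card = j at hpos hlt ⊢
      interval_cases j <;> first | omega | decide
  let W : Set Word := w '' B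
  have hzW : z ∈ perp W := by
    rintro _ ⟨b, hb, rfl⟩
    rw [hdot, sp_ind_map, ZMod.natCast_eq_zero_iff_even]
    have : ((addTwo (∅ : Finset α)).map e.symm.toEmbedding).map e.toEmbedding =
        addTwo (∅ : Finset α) := by
      ext i; simp
    rw [this, addTwo, Finset.toLeft_disjSum, Finset.toRight_disjSum]
    simp
  have hz2 : (sp z).card = 2 := by
    rw [sp_ind_map, Finset.card_map, addTwo, Finset.card_disjSum]
    rfl
  have hzspan : z ∉ Submodule.span (ZMod 2) W := by
    intro hz
    have h4 : ∀ v ∈ Submodule.span (ZMod 2) W, 4 ∣ (sp v).card := by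
      intro v hv
      have horth : ∀ x ∈ Submodule.span (ZMod 2) W, ∀ y ∈ Submodule.span (ZMod 2) W,
          ∑ i, x i * y i = 0 := by
        intro x hx y hy
        have hle : Submodule.span (ZMod 2) W ≤ perp W := Submodule.span_le.mpr (by
          rintro _ ⟨b, hb, rfl⟩ _ ⟨c, hc, rfl⟩
          rw [AbstractGolay.sum_mul, ZMod.natCast_eq_zero_iff_even]
          exact heven b hb c hc)
        have := hle hx
        rw [← perp_span W] at this
        exact this y hy
      induction hv using Submodule.span_induction with
      | mem x hx =>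
        obtain ⟨b, hb, rfl⟩ := hx
        rw [hcardw b hb]
        norm_num
      | zero => simp [AbstractGolay.sp]
      | add x y hx hy h1 h2 =>
        have h := AbstractGolay.card_add x y
        have he := horth x hx y hy
        rw [AbstractGolay.sum_mul, ZMod.natCast_eq_zero_iff_even] at he
        obtain ⟨m, hm⟩ := he
        omega
      | smul c x _ h1 =>
        rcases zmod_two_cases c with rfl | rfl
        · simp [AbstractGolay.sp]
        · simpa using h1
    have := h4 z hz
    omega
  obtain ⟨u, hu, huz⟩ : ∃ u ∈ perp W, ∑ i, u i * z i ≠ 0 := by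
    by_contra! h
    apply hzspan
    rw [← perp_perp (Submodule.span (ZMod 2) W), perp_span]
    intro v hv
    rw [dot_sum_comm]
    exact h v hv
  let R : Word → ℕ := fun v => ((sp v).map e.toEmbedding).toRight.card
  let L : Word → Finset α := fun v => ((sp v).map e.toEmbedding).toLeft
  have hsplit : ∀ v, (sp v).card = (L v).card + R v := fun v => by
    rw [Finset.card_toLeft_add_card_toRight, Finset.card_map]
  have hR2 : ∀ v, R v ≤ 2 := fun v => (Finset.card_le_univ _).trans (by simp)
  have hpar : ∀ v ∈ perp W, ∀ b ∈ B, Even ((b ∩ L v).card + R v) := by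
    intro v hv b hb
    have := hv (w b) ⟨b, hb, rfl⟩
    rwa [hdot, ZMod.natCast_eq_zero_iff_even] at this
  have hodd : ∀ v ∈ perp W, Odd (R v) →
      (L v).card = 7 ∨ (L v).card = 11 ∨ (L v).card = 15 := fun v hv hr =>
    (parity_set_22 hα hB (L v)).1 fun b hb => (Nat.even_add'.mp (hpar v hv b hb)).mpr hr
  have hRu : Odd (R u) := by
    rw [hzdot] at huz
    rw [← Nat.not_even_iff_odd, ← ZMod.natCast_eq_zero_iff_even]
    exact huz
  have hu4 : 4 ∣ (sp u).card := by
    have h1 := hsplit u
    have h2 := hodd u hu hRu
    have h3 := hR2 u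
    obtain ⟨m, hm⟩ := hRu
    omega
  have hW : IsGolay (Submodule.span (ZMod 2) (insert u W)) := by
    refine isGolay_span_four ?_ ?_ ?_
    · rintro x (rfl | ⟨b, hb, rfl⟩)
      · exact hu4
      · rw [hcardw b hb]; norm_num
    · have huw : ∀ b ∈ B, Even (sp u ∩ sp (w b)).card := by
        intro b hb
        have := hu (w b) ⟨b, hb, rfl⟩
        rwa [AbstractGolay.sum_mul, ZMod.natCast_eq_zero_iff_even] at this
      rintro x (rfl | ⟨b, hb, rfl⟩) y (rfl | ⟨c, hc, rfl⟩)
      · rw [Finset.inter_self]
        exact even_iff_two_dvd.mpr (dvd_trans (by norm_num) hu4)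
      · exact huw c hc
      · rw [Finset.inter_comm]; exact huw b hb
      · exact heven b hb c hc
    · intro v hv hne
      by_contra hlt
      rw [not_le] at hlt
      have hvW : v ∈ perp W := fun x hx => hv x (Set.mem_insert_of_mem _ hx)
      have hvu : ∑ i, v i * u i = 0 := hv u (Set.mem_insert _ _)
      have hs := hsplit v
      rcases Nat.even_or_odd (R v) with hr | hr
      · have hRv : R v = 0 ∨ R v = 2 := by
          have := hR2 v
          obtain ⟨m, hm⟩ := hr
          omega
        by_cases hL : L v = ∅
        · have h2 : R v = 2 := by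
            rcases hRv with h | h
            · refine absurd (AbstractGolay.sp_inj ?_) hne
              rw [Finset.card_eq_zero.mp (by rw [hs, hL, h]; rfl : (sp v).card = 0)]
              simp [AbstractGolay.sp]
            · exact h
          have hvz : v = z := by
            apply AbstractGolay.sp_inj
            apply Finset.map_injective e.toEmbedding
            rw [sp_ind_map]
            rw [show ((addTwo (∅ : Finset α)).map e.symm.toEmbedding).map e.toEmbedding =
              addTwo (∅ : Finset α) by ext i; simp,
              ← Finset.toLeft_disjSum_toRight (u := (sp v).map e.toEmbedding), addTwo]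
            show (L v).disjSum _ = _
            rw [hL]
            congr 1
            exact Finset.eq_univ_of_card _ (by rw [Fintype.card_bool]; exact h2)
          rw [hvz, dot_sum_comm] at hvu
          exact huz hvu
        · have hmem := (parity_set_22 hα hB (L v)).2
            (fun b hb => (Nat.even_add.mp (hpar v hvW b hb)).mpr hr)
            (Finset.nonempty_iff_ne_empty.mpr hL) (by omega)
          have h6 := hB.1 _ hmem
          have hR0 : R v = 0 := by omega
          have hvz : v = w (L v) + z := by
            have h3 : sp v = (Finset.disjSum (L v) ∅).map e.symm.toEmbedding := by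
              rw [← Finset.card_eq_zero.mp hR0, Finset.toLeft_disjSum_toRight]
              ext i; simp
            have h4 : sp (w (L v) + z) = symmDiff (sp (w (L v))) (sp z) := by
              ext i
              simp only [AbstractGolay.sp, Finset.mem_filter, Finset.mem_univ, true_and,
                Finset.mem_symmDiff, Pi.add_apply]
              rcases zmod_two_cases (w (L v) i) with h | h <;>
                rcases zmod_two_cases (z i) with h' | h' <;> simp [h, h'] <;> decide
            apply AbstractGolay.sp_inj
            rw [h4, h3, sp_ind_map, sp_ind_map]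
            ext i
            simp only [Finset.mem_symmDiff, Finset.mem_map_equiv, Equiv.symm_symm]
            rcases e i with a | b <;> simp [addTwo]
          have h0 : ∑ i, w (L v) i * u i = 0 := by
            rw [dot_sum_comm]
            exact hu _ ⟨_, hmem, rfl⟩
          rw [hvz] at hvu
          simp only [Pi.add_apply, add_mul, Finset.sum_add_distrib, h0, zero_add] at hvu
          rw [dot_sum_comm] at hvu
          exact huz hvu
      · have := hodd v hvW hr
        obtain ⟨m, hm⟩ := hr
        omega
  obtain ⟨e', he'⟩ := exists_equiv_golayCode hW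
  refine ⟨e.symm.trans e', ?_⟩
  have hsub : (fun b => (addTwo b).image (e.symm.trans e')) '' B ⊆
      {o | o ∈ octads ∧ (e.symm.trans e') (Sum.inr false) ∈ o ∧
        (e.symm.trans e') (Sum.inr true) ∈ o} := by
    rintro _ ⟨b, hb, rfl⟩
    let v : GolayPt → ZMod 2 := fun p => w b (e'.symm p)
    have hv : v ∈ golayCode := (he' v).mpr (by
      simp only [v, Equiv.symm_apply_apply]
      exact Submodule.subset_span (Set.mem_insert_of_mem _ ⟨b, hb, rfl⟩))
    refine ⟨⟨⟨v, hv, ?_⟩, ?_⟩, Finset.mem_image_of_mem _ (by simp [addTwo]),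
      Finset.mem_image_of_mem _ (by simp [addTwo])⟩
    · ext p
      simp only [v, w, support₂, Finset.mem_filter, Finset.mem_univ, true_and, ne_eq, ind,
        Finset.mem_map_equiv, ite_eq_right_iff, one_ne_zero, imp_false, not_not,
        Finset.mem_image, Equiv.trans_apply, Equiv.symm_symm]
      constructor
      · exact fun h => ⟨_, h, by simp⟩
      · rintro ⟨a, ha, rfl⟩
        simpa using ha
    · rw [Finset.card_image_of_injective _ (e.symm.trans e').injective, addTwo,
        Finset.card_disjSum, hB.1 b hb]
      rfl
  refine Set.eq_of_subset_of_ncard_le hsub ?_ (Set.toFinite _)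
  have hinj : Function.Injective fun b : Finset α => (addTwo b).image (e.symm.trans e') := by
    intro b c h
    have h2 := congrArg Finset.toLeft (Finset.image_injective (e.symm.trans e').injective h)
    simpa [addTwo] using h2
  rw [Set.ncard_image_of_injective _ hinj]
  have hb := Design.card_blocks_mul hB
  rw [hα] at hb
  norm_num [Nat.choose] at hb
  have hne : (e.symm.trans e') (Sum.inr false) ≠ (e.symm.trans e') (Sum.inr true) := by simp
  have hc := Design.card_through octads_steiner
    (Z := {(e.symm.trans e') (Sum.inr false), (e.symm.trans e') (Sum.inr true)}) (lam := 77)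
    (by rw [Finset.card_pair hne]; norm_num) (by norm_num)
    (by rw [Finset.card_pair hne]; decide +kernel)
  have : {o : Finset GolayPt | o ∈ octads ∧ (e.symm.trans e') (Sum.inr false) ∈ o ∧
      (e.symm.trans e') (Sum.inr true) ∈ o} =
      ↑((blocks octads).filter fun o =>
        {(e.symm.trans e') (Sum.inr false), (e.symm.trans e') (Sum.inr true)} ⊆ o) := by
    ext o
    simp [mem_blocks, Finset.insert_subset_iff]
  rw [this, Set.ncard_coe_finset, hc]
  omega

/-- The bijection of the 22 points with the complement of a pair, and the blocks. -/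
theorem exists_iso22 (hα : Fintype.card α = 22) {B : Set (Finset α)}
    (hB : IsSteinerSystem 3 6 B) :
    ∃ (p q : GolayPt) (j : α → GolayPt), p ≠ q ∧ Function.Injective j ∧
      (∀ x, (∃ a, j a = x) ↔ x ≠ p ∧ x ≠ q) ∧
      (∀ b, b ∈ B ↔ insert p (insert q (b.image j)) ∈ octads) := by
  obtain ⟨f, hf⟩ := exists_iso_derived22 hα hB
  refine ⟨f (Sum.inr false), f (Sum.inr true), f ∘ Sum.inl, by simp,
    f.injective.comp Sum.inl_injective, fun x => ?_, fun b => ?_⟩
  · constructor
    · rintro ⟨a, rfl⟩
      simp
    · rintro ⟨h1, h2⟩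
      obtain ⟨y, rfl⟩ := f.surjective x
      rcases y with a | (_ | _)
      · exact ⟨a, rfl⟩
      · exact absurd rfl h1
      · exact absurd rfl h2
  · have him : insert (f (Sum.inr false)) (insert (f (Sum.inr true)) (b.image (f ∘ Sum.inl))) =
        (addTwo b).image f := by
      ext x
      obtain ⟨y, rfl⟩ := f.surjective x
      rcases y with a | (_ | _) <;> simp [addTwo]
    rw [him]
    constructor
    · intro hb
      exact ((Set.ext_iff.mp hf _).mp ⟨b, hb, rfl⟩).1
    · intro ho
      obtain ⟨c, hc, hce⟩ := (Set.ext_iff.mp hf _).mpr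
        ⟨ho, Finset.mem_image_of_mem _ (by simp [addTwo]),
          Finset.mem_image_of_mem _ (by simp [addTwo])⟩
      have h := congrArg Finset.toLeft (Finset.image_injective f.injective hce)
      simp only [addTwo, Finset.toLeft_disjSum] at h
      exact h ▸ hc

variable {β : Type*} [Fintype β] [DecidableEq β]

/-- S(3, 6, 22) is unique. -/
theorem steiner_3_6_22_iso (hα : Fintype.card α = 22) (hβ : Fintype.card β = 22)
    {B : Set (Finset α)} {B' : Set (Finset β)} (hB : IsSteinerSystem 3 6 B)
    (hB' : IsSteinerSystem 3 6 B') : SetSystemIso B B' := by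
  classical
  obtain ⟨p, q, j, hpq, hj, hjr, hjB⟩ := exists_iso22 hα hB
  obtain ⟨p', q', j', hpq', hj', hjr', hjB'⟩ := exists_iso22 hβ hB'
  obtain ⟨g, hg, gp, gq⟩ := exists_map_two hpq hpq'
  have hex : ∀ a, ∃ b, j' b = g (j a) := fun a => by
    refine (hjr' _).mpr ⟨fun e => ((hjr (j a)).mp ⟨a, rfl⟩).1 (g.injective (e.trans gp.symm)),
      fun e => ((hjr (j a)).mp ⟨a, rfl⟩).2 (g.injective (e.trans gq.symm))⟩
  choose h hh using hex
  have hinj : Function.Injective h := fun a b e => hj (g.injective (by rw [← hh, ← hh, e]))
  let E : α ≃ β := Equiv.ofBijective h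
    ((Fintype.bijective_iff_injective_and_card h).mpr ⟨hinj, by rw [hα, hβ]⟩)
  have key : ∀ b : Finset α, b.image E ∈ B' ↔ b ∈ B := by
    intro b
    rw [hjB, hjB']
    have him : insert p' (insert q' ((b.image E).image j')) =
        g • insert p (insert q (b.image j)) := by
      rw [smul_eq_image, Finset.image_insert, Finset.image_insert, gp, gq, Finset.image_image,
        Finset.image_image]
      congr 2
      exact Finset.image_congr fun a _ => hh a
    rw [him]
    refine ⟨fun h => ?_, smul_mem_octads hg⟩
    simpa using smul_mem_octads (inv_mem hg) h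
  refine ⟨E, Set.ext fun c => ⟨?_, fun hc => ⟨c.image E.symm, ?_, ?_⟩⟩⟩
  · rintro ⟨b, hb, rfl⟩
    exact (key b).mpr hb
  · rw [← key, Finset.image_image, Equiv.self_comp_symm, Finset.image_id]
    exact hc
  · simp [Finset.image_image]

end

end Cfsg.Agent.Golay
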