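/-
Golay library, part 19: maximality of stabilisers from suborbit lengths, and triples of points.

Main results: `isCoatom_stabilizer_of_suborbits`, `exists_map_duad_pair`, `exists_map_triad_pair`,
`ncard_triads_in_octad`.
-/
import Cfsg.Agent.Lib.Golay.Mathieu
import Cfsg.Agent.Lib.Golay.Steiner

set_option autoImplicit false
open scoped Pointwise symmDiff
open Cfsg MulAction

namespace Cfsg.Agent.Golay

/-- A point stabiliser is maximal when its suborbit lengths leave no room for a block: every union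
of suborbits containing the point whose size divides the degree is trivial or everything. -/
theorem isCoatom_stabilizer_of_suborbits {G X : Type*} [Group G] [Finite G] [MulAction G X]
    [Finite X] (x : X) {ι : Type*} [DecidableEq ι] (φ : X → ι) (classes : Finset ι) (size : ι → ℕ)
    (hφ : ∀ y ∈ orbit G x, φ y ∈ classes)
    (hclass : ∀ y ∈ orbit G x, ∀ z ∈ orbit G x, φ y = φ z →
      ∃ g ∈ stabilizer G x, g • y = z)
    (hsize : ∀ c ∈ classes, {y | y ∈ orbit G x ∧ φ y = c}.ncard = size c)
    (hdiv : ∀ A ∈ classes.powerset, φ x ∈ A →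
      (∑ c ∈ A, size c) ∣ (∑ c ∈ classes, size c) → A = classes ∨ A = {φ x})
    (hx1 : size (φ x) = 1) (hne : stabilizer G x ≠ ⊤) :
    IsCoatom (stabilizer G x) := by
  classical
  refine ⟨hne, fun K hK => ?_⟩
  have : Fintype X := Fintype.ofFinite X
  have horb : ∀ A : Finset ι, A ⊆ classes →
      {y | y ∈ orbit G x ∧ φ y ∈ A}.ncard = ∑ c ∈ A, size c := by
    intro A hA
    rw [Set.ncard_eq_toFinset_card', Finset.card_eq_sum_card_fiberwise (f := φ) (t := A)]
    · refine Finset.sum_congr rfl fun c hc => ?_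
      rw [← hsize c (hA hc), Set.ncard_eq_toFinset_card']
      congr 1
      ext y
      simp only [Finset.mem_filter, Set.mem_toFinset, Set.mem_ofPred_eq]
      exact ⟨fun h => ⟨h.1.1, h.2⟩, fun h => ⟨⟨h.1, h.2 ▸ hc⟩, h.2⟩⟩
    · intro y hy
      simp only [Set.coe_toFinset, Set.mem_ofPred_eq] at hy
      exact hy.2
  have hKsub : orbit K x ⊆ orbit G x := by
    rintro _ ⟨k, rfl⟩
    exact ⟨k.1, rfl⟩
  let A : Finset ι := ((orbit K x).toFinset).image φ
  have hA : A ⊆ classes := fun c hc => by
    obtain ⟨y, hy, rfl⟩ := Finset.mem_image.mp hc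
    exact hφ y (hKsub (Set.mem_toFinset.mp hy))
  have hKorb : orbit K x = {y | y ∈ orbit G x ∧ φ y ∈ A} := by
    ext y
    refine ⟨fun h => ⟨hKsub h, Finset.mem_image_of_mem _ (Set.mem_toFinset.mpr h)⟩, ?_⟩
    rintro ⟨hy, hc⟩
    obtain ⟨z, hz, hze⟩ := Finset.mem_image.mp hc
    rw [Set.mem_toFinset] at hz
    obtain ⟨g, hg, rfl⟩ := hclass z (hKsub hz) y hy hze
    obtain ⟨k, rfl⟩ := hz
    exact ⟨⟨g, hK.le hg⟩ * k, mul_smul _ _ _⟩
  have hst : stabilizer K x = (stabilizer G x).subgroupOf K := rfl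
  have hidx : (orbit K x).ncard ∣ (orbit G x).ncard := by
    rw [← index_stabilizer, ← index_stabilizer, hst, ← Subgroup.relIndex]
    exact Subgroup.relIndex_dvd_index_of_le hK.le
  have hall : orbit G x = {y | y ∈ orbit G x ∧ φ y ∈ classes} := by
    ext y
    exact ⟨fun h => ⟨h, hφ y h⟩, fun h => h.1⟩
  rw [hKorb, horb A hA] at hidx
  rw [hall, horb classes subset_rfl] at hidx
  have hxA : φ x ∈ A := Finset.mem_image_of_mem _ (Set.mem_toFinset.mpr (mem_orbit_self x))
  rcases hdiv A (Finset.mem_powerset.mpr hA) hxA hidx with h | h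
  · rw [eq_top_iff]
    intro g _
    have hgx : g • x ∈ orbit K x := by
      rw [hKorb, h, ← hall]
      exact mem_orbit x g
    obtain ⟨k, hk⟩ := hgx
    have hkg : (k : G)⁻¹ * g ∈ stabilizer G x := by
      rw [mem_stabilizer_iff, mul_smul, inv_smul_eq_iff]
      exact hk.symm
    have := K.mul_mem k.2 (hK.le hkg)
    rwa [mul_inv_cancel_left] at this
  · exfalso
    refine hK.not_ge fun k hk => ?_
    have h1 : (orbit K x).ncard = 1 := by
      rw [hKorb, horb A hA, h, Finset.sum_singleton, hx1]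
    obtain ⟨a, ha⟩ := Set.ncard_eq_one.mp h1
    have hxa : x = a := by
      have := mem_orbit_self (M := K) x
      rwa [ha, Set.mem_singleton_iff] at this
    have hkx : k • x ∈ orbit K x := ⟨⟨k, hk⟩, rfl⟩
    rw [ha, Set.mem_singleton_iff, ← hxa] at hkx
    exact hkx

/-- The stabiliser in `M24` of a pair is transitive on pairs meeting it equally. -/
theorem exists_map_duad_pair {s t u : Finset GolayPt} (hs : s.card = 2) (ht : t.card = 2)
    (hu : u.card = 2) (h : (s ∩ t).card = (s ∩ u).card) :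
    ∃ g ∈ M24, g • s = s ∧ g • t = u := by
  obtain ⟨a, b, hab, rfl⟩ := Finset.card_eq_two.mp hs
  by_cases h2 : ({a, b} ∩ t).card = 2
  · have e1 : {a, b} ∩ t = {a, b} :=
      Finset.eq_of_subset_of_card_le Finset.inter_subset_left (by rw [hs, h2])
    have e2 : {a, b} ∩ t = t :=
      Finset.eq_of_subset_of_card_le Finset.inter_subset_right (by rw [ht, h2])
    have e3 : {a, b} ∩ u = {a, b} :=
      Finset.eq_of_subset_of_card_le Finset.inter_subset_left (by rw [hs, ← h, h2])
    have e4 : {a, b} ∩ u = u :=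
      Finset.eq_of_subset_of_card_le Finset.inter_subset_right (by rw [hu, ← h, h2])
    have ht' : {a, b} = t := e1.symm.trans e2
    have hu' : {a, b} = u := e3.symm.trans e4
    exact ⟨1, one_mem _, one_smul _ _, by rw [one_smul, ← ht', ← hu']⟩
  have hle : ({a, b} ∩ t).card ≤ 2 := hs ▸ Finset.card_le_card Finset.inter_subset_left
  by_cases h1 : ({a, b} ∩ t).card = 1
  · obtain ⟨x, hx⟩ := Finset.card_eq_one.mp h1
    obtain ⟨y, hy⟩ := Finset.card_eq_one.mp (h ▸ h1 : ({a, b} ∩ u).card = 1)
    obtain ⟨x', hx'⟩ := Finset.card_eq_one.mp (show (t \ {a, b}).card = 1 by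
      have := Finset.card_sdiff_add_card_inter t {a, b}
      rw [Finset.inter_comm, h1, ht] at this; omega)
    obtain ⟨y', hy'⟩ := Finset.card_eq_one.mp (show (u \ {a, b}).card = 1 by
      have := Finset.card_sdiff_add_card_inter u {a, b}
      rw [Finset.inter_comm, ← h, h1, hu] at this; omega)
    obtain ⟨z, hz⟩ := Finset.card_eq_one.mp (show ({a, b} \ t).card = 1 by
      have := Finset.card_sdiff_add_card_inter {a, b} t
      rw [h1, hs] at this; omega)
    obtain ⟨w, hw⟩ := Finset.card_eq_one.mp (show ({a, b} \ u).card = 1 by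
      have := Finset.card_sdiff_add_card_inter {a, b} u
      rw [← h, h1, hs] at this; omega)
    have hsx : ({a, b} : Finset GolayPt) = {x, z} := by
      rw [← Finset.sdiff_union_inter {a, b} t, hx, hz, Finset.union_comm]; rfl
    have hsy : ({a, b} : Finset GolayPt) = {y, w} := by
      rw [← Finset.sdiff_union_inter {a, b} u, hy, hw, Finset.union_comm]; rfl
    have htx : t = {x, x'} := by
      rw [← Finset.sdiff_union_inter t {a, b}, Finset.inter_comm, hx, hx', Finset.union_comm]; rfl
    have huy : u = {y, y'} := by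
      rw [← Finset.sdiff_union_inter u {a, b}, Finset.inter_comm, hy, hy', Finset.union_comm]; rfl
    have hx'ns : x' ∉ ({a, b} : Finset GolayPt) :=
      (Finset.mem_sdiff.mp (hx'.symm ▸ Finset.mem_singleton_self x')).2
    have hy'ns : y' ∉ ({a, b} : Finset GolayPt) :=
      (Finset.mem_sdiff.mp (hy'.symm ▸ Finset.mem_singleton_self y')).2
    rw [hsx, Finset.mem_insert, Finset.mem_singleton, not_or] at hx'ns
    rw [hsy, Finset.mem_insert, Finset.mem_singleton, not_or] at hy'ns
    have hxz : x ≠ z := fun e => by rw [hsx, e, Finset.pair_eq_singleton, Finset.card_singleton] at hs; omega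
    have hyw : y ≠ w := fun e => by rw [hsy, e, Finset.pair_eq_singleton, Finset.card_singleton] at hs; omega
    obtain ⟨g, hg, hg1, hg2, hg3⟩ := exists_map_three hxz (Ne.symm hx'ns.1) (Ne.symm hx'ns.2)
      hyw (Ne.symm hy'ns.1) (Ne.symm hy'ns.2)
    refine ⟨g, hg, ?_, ?_⟩
    · rw [hsx, smul_eq_image, Finset.image_insert, Finset.image_singleton, hg1, hg2, ← hsy, ← hsx]
    · rw [htx, huy, smul_eq_image, Finset.image_insert, Finset.image_singleton, hg1, hg3]
  · have h0 : ({a, b} ∩ t).card = 0 := by omega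
    obtain ⟨c, d, hcd, rfl⟩ := Finset.card_eq_two.mp ht
    obtain ⟨e, f, hef, rfl⟩ := Finset.card_eq_two.mp hu
    have h0' : ({a, b} ∩ {e, f} : Finset GolayPt).card = 0 := h ▸ h0
    rw [Finset.card_eq_zero, ← Finset.disjoint_iff_inter_eq_empty] at h0 h0'
    simp only [Finset.disjoint_insert_right, Finset.disjoint_singleton_right, Finset.mem_insert,
      Finset.mem_singleton, not_or] at h0 h0'
    obtain ⟨g, hg, ga, gb, gc, gd⟩ := exists_map_four (a := a) (b := b) (c := c) (d := d)
      (a' := a) (b' := b) (c' := e) (d' := f)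
      (by simp [hab, hcd, Ne.symm h0.1.1, Ne.symm h0.1.2, Ne.symm h0.2.1, Ne.symm h0.2.2])
      (by simp [hab, hef, Ne.symm h0'.1.1, Ne.symm h0'.1.2, Ne.symm h0'.2.1, Ne.symm h0'.2.2])
    refine ⟨g, hg, ?_, ?_⟩
    · rw [smul_eq_image, Finset.image_insert, Finset.image_singleton, ga, gb]
    · rw [smul_eq_image, Finset.image_insert, Finset.image_singleton, gc, gd]

end Cfsg.Agent.Golay
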