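/-
Golay library, part 20: moving lists of points, and triples of points.

Main results: `exists_map_list`, `exists_map_list_frame`, `exists_map_venn`,
`exists_map_triad_pair`, `ncard_card_inter`, `card_triads_in_octad`.
-/
import Cfsg.Agent.Lib.Golay.Mathieu
import Cfsg.Agent.Lib.Golay.Steiner

set_option autoImplicit false
open scoped Pointwise symmDiff
open Cfsg MulAction

namespace Cfsg.Agent.Golay

/-- `M24` moves any list of at most five distinct points to any other. -/
theorem exists_map_list {l l' : List GolayPt} (hl : l.Nodup) (hl' : l'.Nodup)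
    (hlen : l.length = l'.length) (h5 : l.length ≤ 5) : ∃ g ∈ M24, l.map g = l' := by
  obtain ⟨g, hg, h⟩ := exists_map_of_le_five h5
    ⟨l.get, List.nodup_iff_injective_get.mp hl⟩
    ⟨fun i => l'.get (Fin.cast hlen i),
      (List.nodup_iff_injective_get.mp hl').comp (Fin.cast_injective _)⟩
  refine ⟨g, hg, List.ext_getElem (by simp [hlen]) fun i h1 h2 => ?_⟩
  rw [List.getElem_map]
  exact h ⟨i, by simpa using h1⟩

theorem isFrame_of_list {l : List GolayPt} (hl : l.Nodup) (hlen : l.length = 7) {o : Finset GolayPt}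
    (ho : o ∈ octads) (hin : ∀ x ∈ l.take 6, x ∈ o) (hout : l[6]'(by omega) ∉ o) :
    IsFrame fun i : Fin 7 => l[i.val]'(by omega) := by
  refine ⟨fun i j hij => Fin.ext ((List.Nodup.getElem_inj_iff hl).mp hij), o, ho, fun i hi => ?_, hout⟩
  refine hin _ ?_
  rw [List.mem_take_iff_getElem]
  exact ⟨i.val, by omega, rfl⟩

/-- `M24` moves seven-point frames given as lists. -/
theorem exists_map_list_frame {l l' : List GolayPt} (hl : l.Nodup) (hl' : l'.Nodup)
    (hlen : l.length = 7) (hlen' : l'.length = 7) {o o' : Finset GolayPt} (ho : o ∈ octads)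
    (ho' : o' ∈ octads) (hin : ∀ x ∈ l.take 6, x ∈ o) (hin' : ∀ x ∈ l'.take 6, x ∈ o')
    (hout : l[6]'(by omega) ∉ o) (hout' : l'[6]'(by omega) ∉ o') :
    ∃ g ∈ M24, l.map g = l' := by
  obtain ⟨g, hg, h⟩ := exists_frame_map (isFrame_of_list hl hlen ho hin hout)
    (isFrame_of_list hl' hlen' ho' hin' hout')
  refine ⟨g, hg, List.ext_getElem (by simp [hlen, hlen']) fun i h1 h2 => ?_⟩
  rw [List.getElem_map]
  exact h ⟨i, by omega⟩

theorem smul_toFinset (g : Equiv.Perm GolayPt) (l : List GolayPt) :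
    g • l.toFinset = (l.map g).toFinset := by
  ext x
  simp [smul_eq_image]

/-- Pairs of small sets with equal Venn diagrams are conjugate. -/
theorem exists_map_venn {s t s' t' : Finset GolayPt} (h1 : (s \ t).card = (s' \ t').card)
    (h2 : (s ∩ t).card = (s' ∩ t').card) (h3 : (t \ s).card = (t' \ s').card)
    (h5 : (s \ t).card + (s ∩ t).card + (t \ s).card ≤ 5) :
    ∃ g ∈ M24, g • s = s' ∧ g • t = t' := by
  have hnd : ∀ a b : Finset GolayPt,
      ((a \ b).toList ++ (a ∩ b).toList ++ (b \ a).toList).Nodup := by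
    intro a b
    simp only [List.nodup_append, Finset.nodup_toList, List.mem_append, Finset.mem_toList,
      Finset.mem_sdiff, Finset.mem_inter, true_and, ne_eq]
    refine ⟨fun x hx y hy e => ?_, fun x hx y hy e => ?_⟩
    · exact hx.2 (e ▸ hy.2)
    · rcases hx with hx | hx
      · exact hy.2 (e ▸ hx.1)
      · exact hy.2 (e ▸ hx.1)
  obtain ⟨g, hg, h⟩ := exists_map_list (hnd s t) (hnd s' t')
    (by simp [h1, h2, h3]) (by simp; omega)
  rw [List.map_append, List.map_append] at h
  obtain ⟨h', hC⟩ := List.append_inj h (by simp [h1, h2])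
  obtain ⟨hA, hB⟩ := List.append_inj h' (by simp [h1])
  have hpart : ∀ {a a' : Finset GolayPt}, a.toList.map g = a'.toList → g • a = a' := by
    intro a a' he
    rw [← Finset.toList_toFinset a, smul_toFinset, he, Finset.toList_toFinset]
  refine ⟨g, hg, ?_, ?_⟩
  · rw [← Finset.sdiff_union_inter s t, Finset.smul_finset_union, hpart hA, hpart hB,
      Finset.sdiff_union_inter]
  · rw [← Finset.sdiff_union_inter t s, Finset.smul_finset_union, Finset.inter_comm, hpart hC,
      hpart hB, Finset.inter_comm, Finset.sdiff_union_inter]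

/-- Counting `k`-sets by their intersection with a given set. -/
theorem ncard_card_inter {α : Type*} [Fintype α] [DecidableEq α] (s : Finset α) (j m : ℕ) :
    {u : Finset α | u.card = j + m ∧ (s ∩ u).card = j}.ncard =
      s.card.choose j * (Fintype.card α - s.card).choose m := by
  have hcard : ((s.powersetCard j) ×ˢ (sᶜ.powersetCard m)).card =
      s.card.choose j * (Fintype.card α - s.card).choose m := by
    rw [Finset.card_product, Finset.card_powersetCard, Finset.card_powersetCard, Finset.card_compl]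
  rw [← hcard, ← Set.ncard_coe_finset]
  refine Set.ncard_congr (fun u _ => (s ∩ u, u \ s)) ?_ ?_ ?_
  · intro u hu
    simp only [Finset.coe_product, Set.mem_prod, Finset.mem_coe, Finset.mem_powersetCard]
    refine ⟨⟨Finset.inter_subset_left, hu.2⟩, fun x hx => Finset.mem_compl.mpr
      (Finset.mem_sdiff.mp hx).2, ?_⟩
    have := Finset.card_sdiff_add_card_inter u s
    rw [Finset.inter_comm, hu.2, hu.1] at this
    omega
  · intro u v _ _ h
    rw [Prod.mk.injEq] at h
    rw [← Finset.sdiff_union_inter u s, ← Finset.sdiff_union_inter v s, h.2, Finset.inter_comm u,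
      Finset.inter_comm v, h.1]
  · rintro ⟨a, b⟩ hab
    simp only [Finset.coe_product, Set.mem_prod, Finset.mem_coe, Finset.mem_powersetCard] at hab
    obtain ⟨⟨ha, hac⟩, hb, hbc⟩ := hab
    have hbs : Disjoint s b :=
      Finset.disjoint_right.mpr fun x hx => Finset.mem_compl.mp (hb hx)
    have h1 : s ∩ (a ∪ b) = a := by
      rw [Finset.inter_union_distrib_left, Finset.inter_eq_right.mpr ha,
        Finset.disjoint_iff_inter_eq_empty.mp hbs, Finset.union_empty]
    have h2 : (a ∪ b) \ s = b := by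
      rw [Finset.union_sdiff_distrib, Finset.sdiff_eq_empty_iff_subset.mpr ha, Finset.empty_union,
        Finset.sdiff_eq_self_of_disjoint hbs.symm]
    refine ⟨a ∪ b, ⟨?_, by rw [h1, hac]⟩, by rw [h1, h2]⟩
    rw [Finset.card_union_of_disjoint (hbs.mono_left ha), hac, hbc]

theorem exists_list_three {s : Finset GolayPt} (hs : s.card = 3) :
    ∃ a b c, a ≠ b ∧ a ≠ c ∧ b ≠ c ∧ s = {a, b, c} := Finset.card_eq_three.mp hs

/-- Disjoint triples together in an octad. -/
theorem exists_map_triads_in {T U U' : Finset GolayPt} (hT : T.card = 3) (hU : U.card = 3)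
    (hU' : U'.card = 3) (hd : Disjoint T U) (hd' : Disjoint T U') {o o' : Finset GolayPt}
    (ho : o ∈ octads) (ho' : o' ∈ octads) (h : T ∪ U ⊆ o) (h' : T ∪ U' ⊆ o') :
    ∃ g ∈ M24, g • T = T ∧ g • U = U' := by
  have hx : ∀ {o : Finset GolayPt}, o ∈ octads → ∃ e, e ∉ o := fun {o} ho => by
    by_contra! he
    have h8 : o.card = 8 := ho.2
    rw [Finset.eq_univ_iff_forall.mpr he, Finset.card_univ] at h8
    exact absurd h8 (by decide)
  obtain ⟨e, he⟩ := hx ho
  obtain ⟨e', he'⟩ := hx ho'
  have hnd : ∀ {V o : Finset GolayPt} {e : GolayPt}, Disjoint T V → T ∪ V ⊆ o → e ∉ o →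
      (T.toList ++ V.toList ++ [e]).Nodup := by
    intro V o e hd h he
    simp only [List.nodup_append, Finset.nodup_toList, List.mem_append, Finset.mem_toList,
      List.mem_singleton, List.nodup_singleton, true_and, and_true, ne_eq]
    refine ⟨fun x hx y hy exy => Finset.disjoint_left.mp hd hx (exy ▸ hy), fun x hx y hy exy => ?_⟩
    subst hy exy
    exact he (h (Finset.mem_union.mpr hx))
  have hmem : ∀ {V o : Finset GolayPt} {e : GolayPt}, V.card = 3 → T ∪ V ⊆ o →
      ∀ x ∈ (T.toList ++ V.toList ++ [e]).take 6, x ∈ o := by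
    intro V o e hV h x hx
    rw [List.take_append_of_le_length (by simp [hT, hV]),
      List.take_of_length_le (by simp [hT, hV])] at hx
    simp only [List.mem_append, Finset.mem_toList] at hx
    exact h (Finset.mem_union.mpr hx)
  obtain ⟨g, hg, hgl⟩ := exists_map_list_frame (hnd hd h he) (hnd hd' h' he') (by simp [hT, hU])
    (by simp [hT, hU']) ho ho' (hmem hU h) (hmem hU' h')
    (by rw [List.getElem_append_right (by simp [hT, hU])]; simpa [hT, hU] using he)
    (by rw [List.getElem_append_right (by simp [hT, hU'])]; simpa [hT, hU'] using he')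
  rw [List.map_append, List.map_append] at hgl
  obtain ⟨h', -⟩ := List.append_inj hgl (by simp [hU, hU'])
  obtain ⟨hA, hB⟩ := List.append_inj h' (by simp)
  refine ⟨g, hg, ?_, ?_⟩
  · conv_lhs => rw [← Finset.toList_toFinset T, smul_toFinset, hA, Finset.toList_toFinset]
  · rw [← Finset.toList_toFinset U, smul_toFinset, hB, Finset.toList_toFinset]

/-- Disjoint triples in no common octad. -/
theorem exists_map_triads_out {T U U' : Finset GolayPt} (hT : T.card = 3) (hU : U.card = 3)
    (hU' : U'.card = 3) (hd : Disjoint T U) (hd' : Disjoint T U')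
    (h : ¬ ∃ o ∈ octads, T ∪ U ⊆ o) (h' : ¬ ∃ o ∈ octads, T ∪ U' ⊆ o) :
    ∃ g ∈ M24, g • T = T ∧ g • U = U' := by
  have hframe : ∀ {V : Finset GolayPt}, V.card = 3 → Disjoint T V →
      (¬ ∃ o ∈ octads, T ∪ V ⊆ o) → ∃ l : List GolayPt, l.Nodup ∧ ∃ hlen : l.length = 7,
        ∃ o ∈ octads, (∀ x ∈ l.take 6, x ∈ o) ∧ l[6]'(by omega) ∉ o ∧
          (l.take 3).toFinset = T ∧ ((l.drop 3).take 2 ++ (l.drop 6)).toFinset = V := by
    intro V hV hd h
    obtain ⟨u, v, w, huv, huw, hvw, rfl⟩ := exists_list_three hV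
    obtain ⟨a, b, c, hab, hac, hbc, rfl⟩ := exists_list_three hT
    simp only [Finset.disjoint_insert_right, Finset.disjoint_singleton_right, Finset.mem_insert,
      Finset.mem_singleton, not_or] at hd
    obtain ⟨o, ho, hsub⟩ := exists_octad (s := {a, b, c, u, v}) (by
      simp [hab, hac, hbc, huv, Ne.symm hd.1.1, Ne.symm hd.1.2.1, Ne.symm hd.1.2.2,
        Ne.symm hd.2.1.1, Ne.symm hd.2.1.2.1, Ne.symm hd.2.1.2.2])
    have hw : w ∉ o := fun hw => h ⟨o, ho, by
      intro x hx
      simp only [Finset.mem_union, Finset.mem_insert, Finset.mem_singleton] at hx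
      rcases hx with (rfl | rfl | rfl) | rfl | rfl | rfl
      all_goals first
        | exact hw
        | exact hsub (by simp)⟩
    obtain ⟨z, hz, hzn⟩ := Finset.exists_mem_notMem_of_card_lt_card
      (show ({a, b, c, u, v} : Finset GolayPt).card < o.card by
        rw [show o.card = 8 from ho.2]
        exact lt_of_le_of_lt Finset.card_le_five (by norm_num))
    simp only [Finset.mem_insert, Finset.mem_singleton, not_or] at hzn
    have hwo : ∀ {x}, x ∈ o → x ≠ w := fun hx e => hw (e ▸ hx)
    refine ⟨[a, b, c, u, v, z, w], ?_, rfl, o, ho, ?_, hw, by simp, by simp⟩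
    · have ha := hwo (hsub (show a ∈ _ by simp))
      have hb := hwo (hsub (show b ∈ _ by simp))
      have hc := hwo (hsub (show c ∈ _ by simp))
      have hu := hwo (hsub (show u ∈ _ by simp))
      have hv := hwo (hsub (show v ∈ _ by simp))
      have hz' := hwo hz
      simp [hab, hac, hbc, huv, Ne.symm hd.1.1, Ne.symm hd.1.2.1, Ne.symm hd.1.2.2,
        Ne.symm hd.2.1.1, Ne.symm hd.2.1.2.1, Ne.symm hd.2.1.2.2, Ne.symm hzn.1,
        Ne.symm hzn.2.1, Ne.symm hzn.2.2.1, Ne.symm hzn.2.2.2.1, Ne.symm hzn.2.2.2.2,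
        ha, hb, hc, hu, hv, hz']
    · intro x hx
      simp only [List.take_succ_cons, List.take_zero, List.mem_cons, List.not_mem_nil,
        or_false] at hx
      rcases hx with rfl | rfl | rfl | rfl | rfl | rfl
      all_goals first
        | exact hz
        | exact hsub (by simp)
  obtain ⟨l, hl, hlen, o, ho, hin, hout, hlT, hlU⟩ := hframe hU hd h
  obtain ⟨l', hl', hlen', o', ho', hin', hout', hlT', hlU'⟩ := hframe hU' hd' h'
  obtain ⟨g, hg, hgl⟩ := exists_map_list_frame hl hl' hlen hlen' ho ho' hin hin' hout hout'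
  refine ⟨g, hg, ?_, ?_⟩
  · conv_lhs => rw [← hlT, smul_toFinset, List.map_take, hgl, hlT']
  · rw [← hlU, smul_toFinset, List.map_append, List.map_take, List.map_drop, List.map_drop, hgl,
      hlU']

/-- Triples disjoint from `T` lying with it in an octad. -/
theorem ncard_triads_in_octad {T : Finset GolayPt} (hT : T.card = 3) :
    {U : Finset GolayPt | U.card = 3 ∧ Disjoint T U ∧ ∃ o ∈ octads, T ∪ U ⊆ o}.ncard = 210 := by
  classical
  let O := (SteinerCount.blocks octads).filter (T ⊆ ·)
  have hO : O.card = 21 :=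
    Design.card_through octads_steiner (by omega) (by norm_num) (by rw [hT]; decide +kernel)
  have hset : {U : Finset GolayPt | U.card = 3 ∧ Disjoint T U ∧ ∃ o ∈ octads, T ∪ U ⊆ o} =
      ↑(O.biUnion fun o => (o \ T).powersetCard 3) := by
    ext U
    simp only [Set.mem_ofPred_eq, Finset.coe_biUnion, Set.mem_iUnion, Finset.mem_coe,
      Finset.mem_powersetCard, O, Finset.mem_filter, SteinerCount.mem_blocks, exists_prop]
    constructor
    · rintro ⟨hc, hd, o, ho, hs⟩
      refine ⟨o, ⟨ho, Finset.union_subset_left hs⟩, fun x hx => ?_, hc⟩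
      exact Finset.mem_sdiff.mpr
        ⟨hs (Finset.mem_union_right _ hx), Finset.disjoint_right.mp hd hx⟩
    · rintro ⟨o, ⟨ho, hTo⟩, hs, hc⟩
      exact ⟨hc, Finset.disjoint_right.mpr fun x hx => (Finset.mem_sdiff.mp (hs hx)).2, o, ho,
        Finset.union_subset hTo (hs.trans Finset.sdiff_subset)⟩
  rw [hset, Set.ncard_coe_finset, Finset.card_biUnion]
  · rw [Finset.sum_congr rfl (g := fun _ => 10) fun o ho => ?_, Finset.sum_const, smul_eq_mul, hO]
    simp only [O, Finset.mem_filter, SteinerCount.mem_blocks] at ho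
    rw [Finset.card_powersetCard, Finset.card_sdiff_of_subset ho.2, hT,
      show o.card = 8 from ho.1.2]
    rfl
  · intro a ha b hb hne
    simp only [O, Finset.coe_filter, SteinerCount.mem_blocks, Set.mem_ofPred_eq] at ha hb
    simp only [Function.onFun, Finset.disjoint_left, Finset.mem_powersetCard]
    rintro U ⟨hUa, hc⟩ ⟨hUb, -⟩
    refine hne (octad_eq_of_five ha.1 hb.1 ?_)
    have hd : Disjoint T U := Finset.disjoint_right.mpr fun x hx => (Finset.mem_sdiff.mp (hUa hx)).2
    calc 5 ≤ (T ∪ U).card := by rw [Finset.card_union_of_disjoint hd, hT, hc]; norm_num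
      _ ≤ _ := Finset.card_le_card (Finset.subset_inter
          (Finset.union_subset ha.2 (hUa.trans Finset.sdiff_subset))
          (Finset.union_subset hb.2 (hUb.trans Finset.sdiff_subset)))

/-- Triples disjoint from `T` in no octad with it. -/
theorem ncard_triads_out_octad {T : Finset GolayPt} (hT : T.card = 3) :
    {U : Finset GolayPt | U.card = 3 ∧ Disjoint T U ∧ ¬ ∃ o ∈ octads, T ∪ U ⊆ o}.ncard = 1120 := by
  have hall := ncard_card_inter T 0 3
  rw [hT, show Fintype.card GolayPt = 24 from rfl] at hall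
  have heq : {u : Finset GolayPt | u.card = 0 + 3 ∧ (T ∩ u).card = 0} =
      {U : Finset GolayPt | U.card = 3 ∧ Disjoint T U ∧ ∃ o ∈ octads, T ∪ U ⊆ o} ∪
        {U : Finset GolayPt | U.card = 3 ∧ Disjoint T U ∧ ¬ ∃ o ∈ octads, T ∪ U ⊆ o} := by
    ext U
    simp only [Set.mem_ofPred_eq, Set.mem_union, Nat.zero_add, Finset.card_eq_zero,
      Finset.disjoint_iff_inter_eq_empty]
    by_cases hR : ∃ o ∈ octads, T ∪ U ⊆ o <;> simp [hR]
  have hdis : Disjoint {U : Finset GolayPt | U.card = 3 ∧ Disjoint T U ∧ ∃ o ∈ octads, T ∪ U ⊆ o}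
      {U : Finset GolayPt | U.card = 3 ∧ Disjoint T U ∧ ¬ ∃ o ∈ octads, T ∪ U ⊆ o} :=
    Set.disjoint_left.mpr fun U h1 h2 => h2.2.2 h1.2.2
  rw [heq, Set.ncard_union_eq hdis, ncard_triads_in_octad hT] at hall
  rw [show Nat.choose 3 0 * Nat.choose (24 - 3) 3 = 1330 by decide +kernel] at hall
  omega

end Cfsg.Agent.Golay
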