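/-
Golay library, part 21: maximality of the setwise stabilisers of duads, triads and octads.

Main results: `orbit_kset`, `isCoatom_duad`, `isCoatom_triad`, `isCoatom_octad`.
-/
import Cfsg.Agent.Lib.Golay.Maximal
import Cfsg.Agent.Lib.Golay.Triads
import Cfsg.Agent.Lib.Golay.OctadOrbits
import Cfsg.Agent.Lib.Golay.Count

set_option autoImplicit false
open scoped Pointwise symmDiff
open Cfsg MulAction

namespace Cfsg.Agent.Golay

/-- The orbit of a set of at most five points. -/
theorem orbit_kset {s : Finset GolayPt} (h5 : s.card ≤ 5) :
    orbit M24 s = {t | t.card = s.card} := by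
  ext t
  refine ⟨?_, fun h => ?_⟩
  · rintro ⟨g, rfl⟩
    exact Finset.card_smul_finset _ _
  · obtain ⟨g, hg, hgl⟩ := exists_map_list s.nodup_toList t.nodup_toList
      (by simpa using (Eq.symm h)) (by simpa using h5)
    refine ⟨⟨g, hg⟩, ?_⟩
    show g • s = t
    rw [← Finset.toList_toFinset s, smul_toFinset, hgl, Finset.toList_toFinset]

theorem stabilizer_ne_top {s : Finset GolayPt} (h : (orbit M24 s).ncard ≠ 1) :
    stabilizer M24 s ≠ ⊤ := by
  intro e
  apply h
  rw [← index_stabilizer, e, Subgroup.index_top]

theorem ncard_orbit_kset {s : Finset GolayPt} (h5 : s.card ≤ 5) :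
    (orbit M24 s).ncard = Nat.choose 24 s.card := by
  rw [orbit_kset h5, show {t : Finset GolayPt | t.card = s.card} =
      ↑((Finset.univ : Finset GolayPt).powersetCard s.card) by ext t; simp, Set.ncard_coe_finset,
    Finset.card_powersetCard, Finset.card_univ]
  rfl

/-- The stabiliser of a pair is maximal. -/
theorem isCoatom_duad {s : Finset GolayPt} (hs : s.card = 2) :
    IsCoatom (stabilizer M24 s) := by
  have horb := orbit_kset (s := s) (by omega)
  refine isCoatom_stabilizer_of_suborbits s (fun y => (s ∩ y).card) {2, 1, 0}
    (fun c => Nat.choose 2 c * Nat.choose 22 (2 - c)) (fun y _ => ?_) (fun y hy z hz h => ?_)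
    (fun c hc => ?_) (by simp only [Finset.inter_self, hs]; decide +kernel)
    (by simp only [Finset.inter_self, hs]; decide +kernel)
    (stabilizer_ne_top (by rw [ncard_orbit_kset (by omega), hs]; decide +kernel))
  · have := Finset.card_le_card (Finset.inter_subset_left : s ∩ y ⊆ s)
    simp only [Finset.mem_insert, Finset.mem_singleton]
    omega
  · rw [horb] at hy hz
    obtain ⟨g, hg, h1, h2⟩ := exists_map_duad_pair hs (hy.trans hs) (hz.trans hs) h
    exact ⟨⟨g, hg⟩, mem_stabilizer_iff.mpr h1, h2⟩
  · have hc2 : c ≤ 2 := by
      simp only [Finset.mem_insert, Finset.mem_singleton] at hc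
      omega
    have := ncard_card_inter s c (2 - c)
    rw [hs, show Fintype.card GolayPt - 2 = 22 from rfl] at this
    rw [← this, horb]
    congr 1
    ext y
    simp only [Set.mem_ofPred_eq, hs]
    omega

/-- The classes of triples relative to a triple. -/
noncomputable def triadClass (s y : Finset GolayPt) : ℕ :=
  open Classical in
  if (s ∩ y).card = 0 then (if ∃ o ∈ octads, s ∪ y ⊆ o then 4 else 0) else (s ∩ y).card

/-- The stabiliser of a triple is maximal. -/
theorem isCoatom_triad {s : Finset GolayPt} (hs : s.card = 3) :
    IsCoatom (stabilizer M24 s) := by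
  classical
  have horb := orbit_kset (s := s) (by omega)
  have hself : triadClass s s = 3 := by simp [triadClass, hs]
  have hle : ∀ y : Finset GolayPt, (s ∩ y).card ≤ 3 := fun y =>
    hs ▸ Finset.card_le_card Finset.inter_subset_left
  refine isCoatom_stabilizer_of_suborbits s (triadClass s) {3, 2, 1, 4, 0}
    (fun c => if c = 4 then 210 else if c = 0 then 1120 else
      Nat.choose 3 c * Nat.choose 21 (3 - c)) (fun y _ => ?_) (fun y hy z hz h => ?_)
    (fun c hc => ?_) (by rw [hself]; decide +kernel)
    (by rw [hself]; decide +kernel)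
    (stabilizer_ne_top (by rw [ncard_orbit_kset (by omega), hs]; decide +kernel))
  · have := hle y
    unfold triadClass
    split_ifs
    all_goals first
      | decide
      | (simp only [Finset.mem_insert, Finset.mem_singleton]; omega)
  · rw [horb, Set.mem_ofPred_eq, hs] at hy hz
    have h1 := hle y
    have h2 := hle z
    suffices ∃ g ∈ M24, g • s = s ∧ g • y = z by
      obtain ⟨g, hg, e1, e2⟩ := this
      exact ⟨⟨g, hg⟩, mem_stabilizer_iff.mpr e1, e2⟩
    unfold triadClass at h
    by_cases h0 : (s ∩ y).card = 0
    · have h0' : (s ∩ z).card = 0 := by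
        by_contra hne
        rw [if_pos h0, if_neg hne] at h
        split_ifs at h <;> omega
      rw [if_pos h0, if_pos h0'] at h
      have hd : Disjoint s y :=
        Finset.disjoint_iff_inter_eq_empty.mpr (Finset.card_eq_zero.mp h0)
      have hd' : Disjoint s z :=
        Finset.disjoint_iff_inter_eq_empty.mpr (Finset.card_eq_zero.mp h0')
      by_cases hy' : ∃ o ∈ octads, s ∪ y ⊆ o <;> by_cases hz' : ∃ o ∈ octads, s ∪ z ⊆ o
      · obtain ⟨o, ho, hsub⟩ := hy'
        obtain ⟨o', ho', hsub'⟩ := hz'
        exact exists_map_triads_in hs hy hz hd hd' ho ho' hsub hsub'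
      · rw [if_pos hy', if_neg hz'] at h
        omega
      · rw [if_neg hy', if_pos hz'] at h
        omega
      · exact exists_map_triads_out hs hy hz hd hd' hy' hz'
    · have h0' : ¬ (s ∩ z).card = 0 := by
        intro he
        rw [if_neg h0, if_pos he] at h
        split_ifs at h <;> omega
      rw [if_neg h0, if_neg h0'] at h
      have e1 := Finset.card_sdiff_add_card_inter s y
      have e2 := Finset.card_sdiff_add_card_inter s z
      have e3 := Finset.card_sdiff_add_card_inter y s
      have e4 := Finset.card_sdiff_add_card_inter z s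
      rw [Finset.inter_comm] at e3 e4
      exact exists_map_venn (by omega) (by omega) (by omega) (by omega)
  · rw [horb]
    simp only [Finset.mem_insert, Finset.mem_singleton] at hc
    by_cases hc4 : c = 4
    · subst hc4
      rw [← ncard_triads_in_octad hs]
      congr 1
      ext y
      have := hle y
      simp only [Set.mem_ofPred_eq, triadClass, hs, Finset.disjoint_iff_inter_eq_empty,
        ← Finset.card_eq_zero]
      constructor
      · rintro ⟨hy, h⟩
        split_ifs at h with h0 hin
        · exact ⟨hy, h0, hin⟩
        · omega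
      · rintro ⟨hy, h0, hin⟩
        exact ⟨hy, by rw [if_pos h0, if_pos hin]⟩
    · rw [if_neg hc4]
      by_cases hc0 : c = 0
      · subst hc0
        rw [if_pos rfl, ← ncard_triads_out_octad hs]
        congr 1
        ext y
        simp only [Set.mem_ofPred_eq, triadClass, hs, Finset.disjoint_iff_inter_eq_empty,
          ← Finset.card_eq_zero]
        constructor
        · rintro ⟨hy, h⟩
          split_ifs at h with h0 hin
          · exact ⟨hy, h0, hin⟩
          · omega
        · rintro ⟨hy, h0, hin⟩
          exact ⟨hy, by rw [if_pos h0, if_neg hin]⟩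
      · rw [if_neg hc0]
        have := ncard_card_inter s c (3 - c)
        rw [hs, show Fintype.card GolayPt - 3 = 21 from rfl] at this
        rw [← this]
        congr 1
        ext y
        have := hle y
        simp only [Set.mem_ofPred_eq, triadClass, hs]
        constructor
        · rintro ⟨hy, h⟩
          split_ifs at h <;> omega
        · rintro ⟨hy, h⟩
          exact ⟨by omega, by rw [if_neg (by omega)]; exact h⟩

theorem orbit_octad {o : Finset GolayPt} (ho : o ∈ octads) : orbit M24 o = octads := by
  ext t
  refine ⟨?_, fun ht => ?_⟩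
  · rintro ⟨g, rfl⟩
    exact smul_mem_octads g.2 ho
  · obtain ⟨g, hg, h⟩ := exists_map_octad ho ht
    exact ⟨⟨g, hg⟩, h⟩

/-- The stabiliser of an octad is maximal. -/
theorem isCoatom_octad {o : Finset GolayPt} (ho : o ∈ octads) :
    IsCoatom (stabilizer M24 o) := by
  have horb := orbit_octad ho
  have hsz : ∀ k ∈ ({8, 4, 2, 0} : Finset ℕ),
      countSpan (fun m => popcount m == 8 && popcount (m &&& octad0) == k) rows 0 =
        if k = 8 then 1 else if k = 4 then 280 else if k = 2 then 448 else 30 := by
    decide +kernel
  refine isCoatom_stabilizer_of_suborbits o (fun y => (y ∩ o).card) {8, 4, 2, 0}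
    (fun c => if c = 8 then 1 else if c = 4 then 280 else if c = 2 then 448 else 30)
    (fun y hy => ?_) (fun y hy z hz h => ?_)
    (fun c hc => ?_) (by simp only [Finset.inter_self, show o.card = 8 from ho.2]; decide +kernel)
    (by simp only [Finset.inter_self, show o.card = 8 from ho.2]; decide +kernel)
    (stabilizer_ne_top (by rw [horb, ncard_octads]; decide +kernel))
  · rw [horb] at hy
    rcases octad_inter_octad hy ho with h | h | h | h
    · simp [h]
    · simp [h]
    · simp [h]
    · subst h
      simp [show y.card = 8 from hy.2]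
  · rw [horb] at hy hz
    obtain ⟨g, hg, h2⟩ := exists_map_octad_pair ho hy hz
      (by rw [Finset.inter_comm o, Finset.inter_comm o]; exact h)
    exact ⟨⟨g, hg.1⟩, mem_stabilizer_iff.mpr hg.2, h2⟩
  · obtain ⟨t, ht, hto⟩ := exists_map_octad octad0_mem ho
    rw [← hsz c hc, ← ncard_wordsOfWeight_inter, ← ncard_inter_smul ht, hto, horb]
    rfl

end Cfsg.Agent.Golay
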