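/-
Golay library, part 39: the automorphism group of an S(3, 6, 22) is the stabiliser of a pair in M24.

Main results: `mem_supports_of_orth`, `mem_or_swap_mem_supports`, `mem_M24_or_swap_mul_mem`,
`aut22_main`.
-/
import Cfsg.Agent.Lib.Golay.DesignTwoTwo
import Cfsg.Agent.Lib.Golay.DesignAut
import Cfsg.Agent.Lib.Golay.MaximalSets
import Cfsg.Agent.Lib.Golay.BlockTools

set_option autoImplicit false
set_option maxRecDepth 40000
open scoped Pointwise symmDiff
open Cfsg MulAction

namespace Cfsg.Agent.Golay

theorem even_inter_symmDiff {a b r : Finset GolayPt} (ha : Even (a ∩ r).card)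
    (hb : Even (b ∩ r).card) : Even (symmDiff a b ∩ r).card := by
  have he : symmDiff a b ∩ r = symmDiff (a ∩ r) (b ∩ r) := by
    ext x
    simp only [Finset.mem_inter, Finset.mem_symmDiff]
    tauto
  have h := card_symmDiff_add (a ∩ r) (b ∩ r)
  rw [he]
  obtain ⟨m, hm⟩ := ha
  obtain ⟨n, hn⟩ := hb
  rw [Nat.even_iff]
  omega

theorem orth_cert : allBits (fun h => h == 0 ||
    rows.any fun r => popcount ((h <<< 12) &&& r) % 2 == 1) 12 0 = true := by
  decide +kernel

/-- A set meeting all code words evenly is a code word. -/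
theorem mem_supports_of_orth {s : Finset GolayPt}
    (h : ∀ r ∈ rows, Even (s ∩ pts r).card) :
    s ∈ supports (golayCode : Set (GolayPt → ZMod 2)) := by
  set x := maskOf s % 4096 with hx
  set m := maskOf s ^^^ enc x with hm
  have hm24 : m < 2 ^ 24 := Nat.xor_lt_two_pow (maskOf_lt s) (enc_lt x)
  have hlow : m % 4096 = 0 := by
    have hxlt : x < 4096 := Nat.mod_lt _ (by norm_num)
    have he : enc x % 4096 = x := enc_injOn (Nat.mod_lt _ (by norm_num)) hxlt
      (by simpa [isCode] using isCode_enc x)
    rw [hm, show (4096 : ℕ) = 2 ^ 12 from rfl, Nat.xor_mod_two_pow]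
    simp only [show (2 : ℕ) ^ 12 = 4096 from rfl, he, ← hx, Nat.xor_self]
  have hshift : (m / 4096) <<< 12 = m := by
    rw [Nat.shiftLeft_eq]
    omega
  have hc := forall_lt_two_pow orth_cert (show m / 4096 < 2 ^ 12 by omega)
  rw [Bool.or_eq_true, beq_iff_eq] at hc
  rcases hc with hc | hc
  · have hm0 : m = 0 := by omega
    refine mem_supports_iff_exists.mpr ⟨x, Nat.mod_lt _ (by norm_num), ?_⟩
    have : maskOf s = enc x := by
      have := congrArg (· ^^^ enc x) (hm ▸ hm0 : maskOf s ^^^ enc x = 0)
      simpa [Nat.xor_assoc] using this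
    rw [← this, pts_maskOf]
  · exfalso
    obtain ⟨r, hr, hodd⟩ := List.any_eq_true.mp hc
    rw [hshift, beq_iff_eq, ← card_pts, pts_and, hm, pts_xor, pts_maskOf] at hodd
    have hcode : pts (enc x) ∈ supports (golayCode : Set (GolayPt → ZMod 2)) :=
      mem_supports_iff_exists.mpr ⟨x, Nat.mod_lt _ (by norm_num), rfl⟩
    have hrc : pts r ∈ supports (golayCode : Set (GolayPt → ZMod 2)) := by
      have hall : ∀ r ∈ rows, isCode r = true := by decide +kernel
      obtain ⟨y, hy, he⟩ := isCode_iff.mp (hall r hr)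
      exact mem_supports_iff_exists.mpr ⟨y, hy, by rw [he]⟩
    have := even_inter_symmDiff (h r hr) (inter_even hcode hrc)
    rw [Nat.even_iff] at this
    omega

/-- Eleven octads through the points `22` and `23` and one through `23` only; they span the code. -/
def pairRows : List ℕ :=
  [0xc0063a, 0xc012a5, 0xc02f04, 0xc040d9, 0xc0a2c2, 0xc10929, 0xc20c83, 0xc41348, 0xc805e0,
    0xd0018e, 0xe00952, 0x800c75]

theorem even_inter_encAux {s : Finset GolayPt} :
    ∀ gs : List ℕ, (∀ g ∈ gs, Even (s ∩ pts g).card) → ∀ x, Even (s ∩ pts (encAux gs x)).card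
  | [], _, x => by simp [encAux, pts_zero]
  | g :: gs, h, x => by
    rw [encAux, pts_xor, Finset.inter_comm]
    refine even_inter_symmDiff ?_ ?_
    · rw [Finset.inter_comm]
      split_ifs
      · exact h g (List.mem_cons_self ..)
      · simp [pts_zero]
    · rw [Finset.inter_comm]
      exact even_inter_encAux gs (fun g' hg' => h g' (List.mem_cons_of_mem _ hg')) _

/-- A set meeting evenly the octads through two points is in the code, or becomes so on adding
the pair. -/
theorem mem_or_symmDiff_mem {p q : GolayPt} (hpq : p ≠ q) {s : Finset GolayPt}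
    (h : ∀ o ∈ octads, p ∈ o → q ∈ o → Even (s ∩ o).card) :
    s ∈ supports (golayCode : Set (GolayPt → ZMod 2)) ∨
      symmDiff s {p, q} ∈ supports (golayCode : Set (GolayPt → ZMod 2)) := by
  obtain ⟨g, hg, gp, gq⟩ := exists_map_two (a := pt 22) (b := pt 23) (by decide +kernel) hpq
  set t := g⁻¹ • s with ht
  have hchk : ∀ o ∈ pairRows.take 11, (isCode o && popcount o == 8) = true ∧
      o.testBit 22 = true ∧ o.testBit 23 = true := by
    decide +kernel
  have ht11 : ∀ o ∈ pairRows.take 11, Even (t ∩ pts o).card := by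
    intro o ho
    obtain ⟨h8, h22, h23⟩ := hchk o ho
    have := h (g • pts o) (smul_mem_octads hg (pts_mem_octads h8))
      (gp ▸ Finset.smul_mem_smul_finset (mem_pts.mpr (by rw [idx_pt (by norm_num)]; exact h22)))
      (gq ▸ Finset.smul_mem_smul_finset (mem_pts.mpr (by rw [idx_pt (by norm_num)]; exact h23)))
    rwa [← Finset.card_smul_finset g⁻¹, Finset.smul_finset_inter, inv_smul_smul, ← ht] at this
  have hspan : rows = [233, 2362, 656, 3524, 2918, 3791, 1438, 989, 1971, 3945, 3647, 1137].map
      (encAux pairRows) := by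
    decide +kernel
  have hmem : ∀ u : Finset GolayPt, (∀ o ∈ pairRows, Even (u ∩ pts o).card) →
      g • u ∈ supports (golayCode : Set (GolayPt → ZMod 2)) := by
    intro u hu
    refine smul_mem_supports hg (mem_supports_of_orth fun r hr => ?_)
    rw [hspan, List.mem_map] at hr
    obtain ⟨x, -, rfl⟩ := hr
    exact even_inter_encAux pairRows hu x
  have hz : ∀ o ∈ pairRows.take 11, Even ((pts 0xc00000) ∩ pts o).card := by decide +kernel
  have hlast : ∀ o ∈ pairRows, o ∈ pairRows.take 11 ∨ o = 0x800c75 := by decide +kernel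
  by_cases hev : Even (t ∩ pts 0x800c75).card
  · left
    have := hmem t fun o ho => (hlast o ho).elim (ht11 o) fun e => e ▸ hev
    rwa [ht, smul_inv_smul] at this
  · right
    have h1 : (pts 0xc00000 ∩ pts 0x800c75).card = 1 := by decide +kernel
    have := hmem (symmDiff t (pts 0xc00000)) fun o ho => by
      rcases hlast o ho with ho | rfl
      · exact even_inter_symmDiff (ht11 o ho) (hz o ho)
      · have he : symmDiff t (pts 0xc00000) ∩ pts 0x800c75 =
            symmDiff (t ∩ pts 0x800c75) (pts 0xc00000 ∩ pts 0x800c75) := by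
          ext x
          simp only [Finset.mem_inter, Finset.mem_symmDiff]
          tauto
        have hc := card_symmDiff_add (t ∩ pts 0x800c75) (pts 0xc00000 ∩ pts 0x800c75)
        rw [he, Nat.even_iff]
        rw [Nat.even_iff] at hev
        omega
    rwa [Finset.smul_finset_symmDiff, ht, smul_inv_smul,
      show pts 0xc00000 = {pt 22, pt 23} by decide +kernel, Finset.smul_finset_insert,
      Finset.smul_finset_singleton, Equiv.Perm.smul_def, Equiv.Perm.smul_def, gp, gq] at this

theorem symmDiff_pair_eq_swap {p q : GolayPt} {s : Finset GolayPt} (hp : p ∈ s) (hq : q ∉ s) :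
    symmDiff s {p, q} = Equiv.swap p q • s := by
  ext x
  rw [← Finset.inv_smul_mem_iff, Equiv.swap_inv, Equiv.Perm.smul_def]
  simp only [Finset.mem_symmDiff, Finset.mem_insert, Finset.mem_singleton]
  rw [Equiv.swap_apply_def]
  by_cases hxp : x = p
  · subst hxp
    simp [hp, hq]
  · by_cases hxq : x = q
    · subst hxq
      simp [hp, hq, hxp]
    · simp [hxp, hxq]

/-- A permutation fixing `p`, `q` and permuting the octads through both is in `M24` up to the
transposition. -/
theorem mem_M24_or_swap_mul_mem {p q : GolayPt} (hpq : p ≠ q) {π : Equiv.Perm GolayPt}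
    (hp : π p = p) (hq : π q = q)
    (h : ∀ o ∈ octads, p ∈ o → q ∈ o → π • o ∈ octads) :
    π ∈ M24 ∨ Equiv.swap p q * π ∈ M24 := by
  have hback : ∀ o ∈ octads, p ∈ o → q ∈ o → π⁻¹ • o ∈ octads := by
    intro o ho hpo hqo
    have : Finite {o : Finset GolayPt // o ∈ octads ∧ p ∈ o ∧ q ∈ o} := inferInstance
    let F : {o : Finset GolayPt // o ∈ octads ∧ p ∈ o ∧ q ∈ o} →
        {o : Finset GolayPt // o ∈ octads ∧ p ∈ o ∧ q ∈ o} := fun o =>
      ⟨π • o.1, h o.1 o.2.1 o.2.2.1 o.2.2.2,
        by simpa [hp] using Finset.smul_mem_smul_finset (a := π) o.2.2.1,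
        by simpa [hq] using Finset.smul_mem_smul_finset (a := π) o.2.2.2⟩
    have hF : Function.Injective F := fun a b e =>
      Subtype.ext (MulAction.injective π (congrArg Subtype.val e))
    obtain ⟨⟨o', ho', hrest⟩, he⟩ := Finite.injective_iff_surjective.mp hF ⟨o, ho, hpo, hqo⟩
    have he' : π • o' = o := congrArg Subtype.val he
    rwa [← he', inv_smul_smul]
  have horth : ∀ o ∈ octads, ∀ c ∈ octads, p ∈ c → q ∈ c → Even (π • o ∩ c).card := by
    intro o ho c hc hpc hqc
    rw [← Finset.card_smul_finset π⁻¹, Finset.smul_finset_inter, inv_smul_smul]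
    exact inter_even ho.1 (hback c hc hpc hqc).1
  have hσπ : ∀ o : Finset GolayPt, (Equiv.swap p q * π) • o = Equiv.swap p q • π • o :=
    fun o => mul_smul _ _ _
  by_cases hall : ∀ o ∈ octads, p ∈ o → π • o ∈ supports (golayCode : Set (GolayPt → ZMod 2))
  · exact Or.inl (mem_M24_of_octads_through p hall)
  right
  push Not at hall
  obtain ⟨o₀, ho₀, hpo₀, hbad⟩ := hall
  have hq₀ : q ∉ o₀ := fun hqo => hbad (h o₀ ho₀ hpo₀ hqo).1
  refine mem_M24_of_octads_through p fun o ho hpo => ?_
  rw [hσπ]
  by_cases hqo : q ∈ o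
  · have hfix : Equiv.swap p q • π • o = π • o := by
      ext x
      rw [← Finset.inv_smul_mem_iff, Equiv.swap_inv, Equiv.Perm.smul_def]
      have hp' : p ∈ π • o := by simpa [hp] using Finset.smul_mem_smul_finset (a := π) hpo
      have hq' : q ∈ π • o := by simpa [hq] using Finset.smul_mem_smul_finset (a := π) hqo
      rw [Equiv.swap_apply_def]
      split_ifs with e1 e2
      · subst e1; simp [hp', hq']
      · subst e2; simp [hp', hq']
      · rfl
    rw [hfix]
    exact (h o ho hpo hqo).1
  · have hside : ∀ {o : Finset GolayPt}, p ∈ o → q ∉ o → p ∈ π • o ∧ q ∉ π • o := fun {o} a b =>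
      ⟨by simpa [hp] using Finset.smul_mem_smul_finset (a := π) a, fun e => b (by
        have := Finset.smul_mem_smul_finset (a := π⁻¹) e
        rwa [inv_smul_smul, Equiv.Perm.smul_def, Equiv.Perm.inv_eq_iff_eq.mpr hq.symm] at this)⟩
    obtain ⟨hp₀, hq₀'⟩ := hside hpo₀ hq₀
    have hz₀ := (mem_or_symmDiff_mem hpq (horth o₀ ho₀)).resolve_left hbad
    rcases mem_or_symmDiff_mem hpq (horth o ho) with hin | hin
    · exfalso
      have h1 : Even (π • o ∩ π • o₀).card := by
        rw [← Finset.smul_finset_inter, Finset.card_smul_finset]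
        exact inter_even ho.1 ho₀.1
      have h2 := inter_even hin hz₀
      obtain ⟨hp', hq'⟩ := hside hpo hqo
      have he : π • o ∩ symmDiff (π • o₀) {p, q} = (π • o ∩ π • o₀).erase p := by
        ext x
        simp only [Finset.mem_inter, Finset.mem_symmDiff, Finset.mem_insert, Finset.mem_singleton,
          Finset.mem_erase]
        by_cases hxp : x = p
        · subst hxp; simp [hp₀]
        · by_cases hxq : x = q
          · subst hxq; simp [hq']
          · simp [hxp, hxq]
      rw [he, Finset.card_erase_of_mem (Finset.mem_inter.mpr ⟨hp', hp₀⟩), Nat.even_iff] at h2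
      rw [Nat.even_iff] at h1
      have := Finset.card_pos.mpr ⟨p, Finset.mem_inter.mpr ⟨hp', hp₀⟩⟩
      omega
    · rwa [symmDiff_pair_eq_swap (hside hpo hqo).1 (hside hpo hqo).2] at hin

section

variable {α : Type*} [Fintype α] [DecidableEq α]

/-- The automorphism group of an S(3, 6, 22). -/
theorem aut22_main (hα : Fintype.card α = 22) {B : Set (Finset α)}
    (hB : IsSteinerSystem 3 6 B) :
    Nat.card (setSystemAut B) = 887040 ∧ IsMultiplyPretransitive (setSystemAut B) α 3 ∧
      ∃ H : Subgroup (setSystemAut B), H.index = 2 ∧ IsM22 H := by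
  classical
  obtain ⟨p, q, j, hpq, hj, hjr, hjB⟩ := exists_iso22 hα hB
  let D : Subgroup M24 := stabilizer M24 ({p, q} : Finset GolayPt)
  let k : α ≃ {x : GolayPt // x ≠ p ∧ x ≠ q} :=
    Equiv.ofBijective (fun a => ⟨j a, (hjr _).mp ⟨a, rfl⟩⟩)
      ⟨fun a b e => hj (congrArg Subtype.val e), fun x => by
        obtain ⟨a, ha⟩ := (hjr x.1).mpr x.2
        exact ⟨a, Subtype.ext ha⟩⟩
  have hset : ∀ g : ↥D, ∀ x, (((g : ↥M24) : Equiv.Perm GolayPt) x ≠ p ∧
      ((g : ↥M24) : Equiv.Perm GolayPt) x ≠ q) ↔ (x ≠ p ∧ x ≠ q) := by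
    intro g x
    have hg : ((g : ↥M24) : Equiv.Perm GolayPt) • ({p, q} : Finset GolayPt) = {p, q} := g.2
    have := Finset.smul_mem_smul_finset_iff (b := x) ((g : ↥M24) : Equiv.Perm GolayPt)
      (s := ({p, q} : Finset GolayPt))
    rw [hg, Equiv.Perm.smul_def] at this
    simp only [Finset.mem_insert, Finset.mem_singleton] at this
    tauto
  let φ : ↥D →* Equiv.Perm α :=
    { toFun := fun g => k.symm.permCongr (Equiv.Perm.subtypePerm ((g : ↥M24) : Equiv.Perm GolayPt)
        (hset g))
      map_one' := Equiv.ext fun a => by simp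
      map_mul' := fun g g' => Equiv.ext fun a => by simp }
  have hφ : ∀ g a, j (φ g a) = ((g : ↥M24) : Equiv.Perm GolayPt) (j a) := fun g a => by
    show (k (k.symm _)).1 = _
    rw [Equiv.apply_symm_apply]
    rfl
  have himg : ∀ (g : ↥D) (b : Finset α), insert p (insert q ((b.image (φ g)).image j)) =
      ((g : ↥M24) : Equiv.Perm GolayPt) • insert p (insert q (b.image j)) := by
    intro g b
    have hg : ((g : ↥M24) : Equiv.Perm GolayPt) • ({p, q} : Finset GolayPt) = {p, q} := g.2
    have e : ∀ s : Finset GolayPt, insert p (insert q s) = ({p, q} : Finset GolayPt) ∪ s := by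
      intro s; simp [Finset.insert_union]
    rw [e, e, Finset.smul_finset_union, hg, smul_eq_image, Finset.image_image, Finset.image_image]
    congr 1
    exact Finset.image_congr fun a _ => hφ g a
  have hφmem : ∀ g, φ g ∈ setSystemAut B := fun g => mem_setSystemAut_iff.mpr fun b hb => by
    rw [hjB, himg]
    exact smul_mem_octads (g : ↥M24).2 ((hjB b).mp hb)
  let ψ : ↥D →* ↥(setSystemAut B) := φ.codRestrict _ hφmem
  have hinj : Function.Injective ψ := by
    refine (injective_iff_map_eq_one ψ).mpr fun g hg => ?_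
    have hfix : ∀ x, x ≠ p → x ≠ q → ((g : ↥M24) : Equiv.Perm GolayPt) x = x := by
      intro x h1 h2
      obtain ⟨a, rfl⟩ := (hjr x).mpr ⟨h1, h2⟩
      rw [← hφ, show φ g = 1 from congrArg Subtype.val hg]
      rfl
    obtain ⟨t, htM, tp, tq⟩ := exists_map_two (a := pt 22) (b := pt 23) (by decide +kernel) hpq
    refine Subtype.ext (Subtype.ext ?_)
    have hu : isAut 0x321b52cacebae8a81e7163d2418820 = true := by decide +kernel
    have hv := validPerm_of_isAut hu
    have havoid : ∀ i : Fin 7, toPerm 0x321b52cacebae8a81e7163d2418820 (base i) ≠ pt 22 ∧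
        toPerm 0x321b52cacebae8a81e7163d2418820 (base i) ≠ pt 23 := by
      intro i
      rw [toPerm_apply hv]
      revert i
      decide +kernel
    refine eq_one_of_frame (g : ↥M24).2
      (x := fun i => (t * toPerm 0x321b52cacebae8a81e7163d2418820) (base i))
      (isFrame_smul (mul_mem htM (toPerm_mem_M24 hu)) isFrame_base) fun i => hfix _ ?_ ?_
    · exact fun e => (havoid i).1 (t.injective (e.trans tp.symm))
    · exact fun e => (havoid i).2 (t.injective (e.trans tq.symm))
  have hsurj : Function.Surjective ψ := by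
    rintro ⟨σ, hσ⟩
    let π : Equiv.Perm GolayPt := Equiv.Perm.ofSubtype (k.permCongr σ)
    have hout : ∀ x, ¬ (x ≠ p ∧ x ≠ q) → π x = x := fun x hx =>
      Equiv.Perm.ofSubtype_apply_of_not_mem _ hx
    have hπj : ∀ a, π (j a) = j (σ a) := fun a => by
      show Equiv.Perm.ofSubtype (k.permCongr σ) ((k a : {x : GolayPt // x ≠ p ∧ x ≠ q}) : GolayPt) = _
      rw [Equiv.Perm.ofSubtype_apply_coe]
      simp only [Equiv.permCongr_apply, Equiv.symm_apply_apply]
      rfl
    have hp : π p = p := hout p fun h => h.1 rfl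
    have hq : π q = q := hout q fun h => h.2 rfl
    have hoct : ∀ o ∈ octads, p ∈ o → q ∈ o → π • o ∈ octads := by
      intro o ho hpo hqo
      let b : Finset α := Finset.univ.filter fun a => j a ∈ o
      have hob : insert p (insert q (b.image j)) = o := by
        ext x
        simp only [Finset.mem_insert, Finset.mem_image, b, Finset.mem_filter, Finset.mem_univ,
          true_and]
        constructor
        · rintro (rfl | rfl | ⟨a, ha, rfl⟩) <;> assumption
        · intro hx
          by_cases h1 : x = p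
          · exact Or.inl h1
          · by_cases h2 : x = q
            · exact Or.inr (Or.inl h2)
            · obtain ⟨a, rfl⟩ := (hjr x).mpr ⟨h1, h2⟩
              exact Or.inr (Or.inr ⟨a, hx, rfl⟩)
      have hb : b ∈ B := (hjB b).mpr (by rwa [hob])
      have := (hjB _).mp (mem_setSystemAut_iff.mp hσ b hb)
      rw [← hob, smul_eq_image, Finset.image_insert, Finset.image_insert, hp, hq,
        Finset.image_image]
      convert this using 3
      rw [Finset.image_image]
      exact Finset.image_congr fun a _ => hπj a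
    have hfin : ∀ π' : Equiv.Perm GolayPt, ∀ h : π' ∈ M24, (π' • ({p, q} : Finset GolayPt) = {p, q}) →
        (∀ a, π' (j a) = j (σ a)) → ∃ g, ψ g = ⟨σ, hσ⟩ := by
      intro π' h hs hj'
      exact ⟨⟨⟨π', h⟩, hs⟩, Subtype.ext (Equiv.ext fun a => hj (by
        rw [show ((ψ ⟨⟨π', h⟩, hs⟩ : ↥(setSystemAut B)) : Equiv.Perm α) = φ ⟨⟨π', h⟩, hs⟩ from rfl,
          hφ]
        exact hj' a))⟩
    rcases mem_M24_or_swap_mul_mem hpq hp hq hoct with h | h
    · refine hfin π h ?_ hπj
      rw [smul_eq_image, Finset.image_insert, Finset.image_singleton, hp, hq]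
    · refine hfin _ h ?_ fun a => ?_
      · rw [smul_eq_image, Finset.image_insert, Finset.image_singleton, Equiv.Perm.mul_apply,
          Equiv.Perm.mul_apply, hp, hq, Equiv.swap_apply_left, Equiv.swap_apply_right,
          Finset.pair_comm]
      · have := (hjr (j (σ a))).mp ⟨_, rfl⟩
        rw [Equiv.Perm.mul_apply, hπj, Equiv.swap_apply_of_ne_of_ne this.1 this.2]
  let Φ : ↥D ≃* ↥(setSystemAut B) := MulEquiv.ofBijective ψ ⟨hinj, hsurj⟩
  have hD : Nat.card ↥D = 887040 :=
    natCard_stabilizer_eq _ (by rw [ncard_orbit_kset (by rw [Finset.card_pair hpq]; norm_num),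
      Finset.card_pair hpq]) (by norm_num [Nat.choose_two_right])
  have hcard : Nat.card (setSystemAut B) = 887040 := by rw [← Nat.card_congr Φ.toEquiv, hD]
  refine ⟨hcard, ⟨fun u v => ?_⟩, ?_⟩
  · obtain ⟨g, hg, hgm⟩ := exists_map_of_le_five (n := 5) le_rfl
      ⟨Fin.cons p (Fin.cons q fun i => j (u i)), by
        have h1 := fun i => (hjr (j (u i))).mp ⟨_, rfl⟩
        refine Fin.cons_injective_iff.mpr ⟨?_, Fin.cons_injective_iff.mpr ⟨?_, hj.comp u.injective⟩⟩
        · rintro ⟨i, hi⟩
          induction i using Fin.cases with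
          | zero => exact hpq (by simpa using hi.symm)
          | succ i => exact (h1 i).1 (by simpa using hi)
        · rintro ⟨i, hi⟩
          exact (h1 i).2 hi⟩
      ⟨Fin.cons p (Fin.cons q fun i => j (v i)), by
        have h1 := fun i => (hjr (j (v i))).mp ⟨_, rfl⟩
        refine Fin.cons_injective_iff.mpr ⟨?_, Fin.cons_injective_iff.mpr ⟨?_, hj.comp v.injective⟩⟩
        · rintro ⟨i, hi⟩
          induction i using Fin.cases with
          | zero => exact hpq (by simpa using hi.symm)
          | succ i => exact (h1 i).1 (by simpa using hi)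
        · rintro ⟨i, hi⟩
          exact (h1 i).2 hi⟩
    have gp : g p = p := hgm 0
    have gq : g q = q := hgm 1
    have hgD : (⟨g, hg⟩ : ↥M24) ∈ D := by
      show g • ({p, q} : Finset GolayPt) = {p, q}
      rw [smul_eq_image, Finset.image_insert, Finset.image_singleton, gp, gq]
    refine ⟨ψ ⟨_, hgD⟩, Function.Embedding.ext fun i => hj ?_⟩
    show j (φ ⟨_, hgD⟩ (u i)) = j (v i)
    rw [hφ]
    exact hgm i.succ.succ
  · let K : Subgroup ↥D := (stabilizer M24 p).subgroupOf D
    let H : Subgroup (setSystemAut B) := K.map Φ.toMonoidHom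
    have hKle : ∀ g : ↥M24, (g : Equiv.Perm GolayPt) p = p → g ∈ D →
        (g : Equiv.Perm GolayPt) q = q := by
      intro g hgp hg
      have hg' : (g : Equiv.Perm GolayPt) • ({p, q} : Finset GolayPt) = {p, q} := hg
      have := Finset.smul_mem_smul_finset (a := (g : Equiv.Perm GolayPt))
        (show q ∈ ({p, q} : Finset GolayPt) by simp)
      rw [hg', Equiv.Perm.smul_def, Finset.mem_insert, Finset.mem_singleton] at this
      rcases this with e | e
      · exact absurd ((g : Equiv.Perm GolayPt).injective (hgp.trans e.symm)) hpq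
      · exact e
    let e0 : ↥(M24 ⊓ stabilizer (Equiv.Perm GolayPt) p ⊓ stabilizer (Equiv.Perm GolayPt) q) ≃* ↥K :=
      { toFun := fun g => ⟨⟨⟨g.1, g.2.1.1⟩, by
          show g.1 • ({p, q} : Finset GolayPt) = {p, q}
          rw [smul_eq_image, Finset.image_insert, Finset.image_singleton,
            show g.1 p = p from g.2.1.2, show g.1 q = q from g.2.2]⟩, g.2.1.2⟩
        invFun := fun g => ⟨g.1.1.1, ⟨g.1.1.2, g.2⟩, hKle g.1.1 g.2 g.1.2⟩
        left_inv := fun g => rfl
        right_inv := fun g => rfl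
        map_mul' := fun g h => rfl }
    let e1 := e0.trans (K.equivMapOfInjective Φ.toMonoidHom Φ.injective)
    have hcH : Nat.card ↥H = 443520 := by
      rw [← Nat.card_congr e1.toEquiv, natCard_m22 hpq]
    refine ⟨H, ?_, ?_, hcH⟩
    · have := H.index_mul_card
      rw [hcH, hcard] at this
      omega
    · have := isSimpleGroup_m22 hpq
      have : Nontrivial ↥H := e1.toEquiv.nontrivial_congr.mp inferInstance
      exact IsSimpleGroup.isSimpleGroup_of_surjective e1.toMonoidHom e1.surjective

end

end Cfsg.Agent.Golay
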