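/-
Automorphisms of M24.

* `exists_eq_stabilizer_of_index` : a subgroup of index 24 is a point stabiliser
* `exists_conj_of_mulAut` : every automorphism is inner
-/
import Cfsg.Agent.Lib.Golay.Mathieu
import Cfsg.Agent.Lib.Golay.OctadStab
import Cfsg.Agent.Lib.Golay.Perm

set_option autoImplicit false
open scoped Pointwise
open Cfsg MulAction

namespace Cfsg.Agent.Golay

theorem natCard_stabilizer_point (a : GolayPt) : Nat.card (stabilizer M24 a) = 10200960 := by
  rw [← Nat.card_congr (infStabilizerEquiv a).toEquiv, natCard_m23]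

theorem natCard_fixed_of_prime_order {p : ℕ} [Fact p.Prime] {g : Equiv.Perm GolayPt}
    (hg : orderOf g = p) : (g.supportᶜ).card % p = 24 % p ∧ (g.supportᶜ).card < 24 := by
  constructor
  · have h := Equiv.Perm.card_compl_support_modEq (p := p) (n := 1) (σ := g)
      (by rw [pow_one, ← hg, pow_orderOf_eq_one])
    simpa [Nat.ModEq] using h
  · rw [Finset.card_compl, show Fintype.card GolayPt = 24 by simp]
    have : g.support.card ≠ 0 := fun h => by
      rw [Finset.card_eq_zero, Equiv.Perm.support_eq_empty_iff] at h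
      rw [h, orderOf_one] at hg
      exact (Fact.out : p.Prime).ne_one hg.symm
    omega

/-- A subgroup of order 425040 fixing a point does not exist. -/
theorem not_natCard_eq_of_fix {K : Subgroup M24} {a : GolayPt} (hK : K ≤ stabilizer M24 a)
    (hcard : Nat.card K = 425040) : False := by
  classical
  haveI : Fact (Nat.Prime 11) := ⟨by norm_num⟩
  have hp : 11 ∣ Nat.card K := by rw [hcard]; norm_num
  have hp2 : ¬ 11 ^ 2 ∣ Nat.card K := by rw [hcard]; norm_num
  obtain ⟨P⟩ : Nonempty (Sylow 11 K) := Sylow.nonempty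
  have hP := card_sylow_prime hp hp2 P
  obtain ⟨⟨x, hx⟩, hxo⟩ := exists_prime_orderOf_dvd_card' (G := (P : Subgroup K)) 11 (by rw [hP])
  set τ : Equiv.Perm GolayPt := ((x : M24) : Equiv.Perm GolayPt) with hτ
  have hτo : orderOf τ = 11 := by
    rw [← hxo, hτ, Subgroup.orderOf_coe, Subgroup.orderOf_coe, ← Subgroup.orderOf_coe (⟨x, hx⟩ : (P : Subgroup K))]
  obtain ⟨hmod, hlt⟩ := natCard_fixed_of_prime_order hτo
  have hfix : ∀ y, y ∈ τ.supportᶜ ↔ τ y = y := fun y => by simp
  have haF : a ∈ τ.supportᶜ := (hfix a).2 (hK x.2)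
  have hpow11 : ∀ u : K, u ∈ (P : Subgroup K) → (((u : M24) : Equiv.Perm GolayPt)) ^ 11 = 1 := by
    intro u hu
    have h : (⟨u, hu⟩ : (P : Subgroup K)) ^ Nat.card (P : Subgroup K) = 1 := pow_card_eq_one'
    rw [hP] at h
    exact congrArg (fun w : (P : Subgroup K) => (((w : K) : M24) : Equiv.Perm GolayPt)) h
  have hF2 : (τ.supportᶜ).card = 2 := by
    by_contra hne
    obtain ⟨s, hsF, hs⟩ := Finset.exists_subset_card_eq (show 3 ≤ (τ.supportᶜ).card by omega)
    obtain ⟨u, v, w, huv, huw, hvw, rfl⟩ := Finset.card_eq_three.1 hs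
    have h1 := eq_one_of_pow_eleven (x : M24).2 (hpow11 x hx) huv huw hvw
      ((hfix u).1 (hsF (by simp))) ((hfix v).1 (hsF (by simp))) ((hfix w).1 (hsF (by simp)))
    rw [hτ, h1, orderOf_one] at hτo
    norm_num at hτo
  obtain ⟨b, hbF, hba⟩ : ∃ b ∈ τ.supportᶜ, b ≠ a :=
    Finset.exists_mem_ne (by rw [hF2]; norm_num) a
  have hF : ∀ y, τ y = y → y = a ∨ y = b := fun y hy => by
    have heq : ({a, b} : Finset GolayPt) = τ.supportᶜ :=
      Finset.eq_of_subset_of_card_le (by simp [Finset.insert_subset_iff, haF, hbF])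
        (by rw [hF2, Finset.card_pair hba.symm])
    have := (hfix y).2 hy
    rw [← heq] at this
    simpa using this
  have hcentb : ∀ c ∈ Subgroup.centralizer ((P : Subgroup K) : Set K), c • b = b := by
    intro c hc
    have hcomm : x * c = c * x := Subgroup.mem_centralizer_iff.1 hc x hx
    have h1 : τ (((c : M24) : Equiv.Perm GolayPt) b) = ((c : M24) : Equiv.Perm GolayPt) b := by
      have := congrArg (fun w : K => ((w : M24) : Equiv.Perm GolayPt) b) hcomm
      simp only [Subgroup.coe_mul, Equiv.Perm.mul_apply] at this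
      rw [hτ, this]
      exact congrArg _ ((hfix b).1 hbF)
    rcases hF _ h1 with h | h
    · exact absurd (((c : M24) : Equiv.Perm GolayPt).injective (h.trans (hK c.2).symm)) hba
    · exact h
  let H2 : Subgroup K := stabilizer K b
  have hPH : (P : Subgroup K) ≤ H2 := fun u hu => hcentb u (by
    haveI : IsCyclic (P : Subgroup K) := isCyclic_of_prime_card hP
    refine Subgroup.mem_centralizer_iff.2 fun y hy => ?_
    exact congrArg Subtype.val ((IsCyclic.isMulCommutative (α := (P : Subgroup K))).is_comm.comm ⟨y, hy⟩ ⟨u, hu⟩))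
  let X : SubMulAction H2 GolayPt :=
    { carrier := {y | y ≠ a ∧ y ≠ b}
      smul_mem' := fun g y hy =>
        ⟨fun h => hy.1 (((g.1 : M24) : Equiv.Perm GolayPt).injective (h.trans (hK g.1.2).symm)),
          fun h => hy.2 (((g.1 : M24) : Equiv.Perm GolayPt).injective (h.trans g.2.symm))⟩ }
  have hX : Nat.card X = 2 * 11 := by
    show Nat.card ↥{y : GolayPt | y ≠ a ∧ y ≠ b} = 22
    have : {y : GolayPt | y ≠ a ∧ y ≠ b} = ((({a, b} : Finset GolayPt)ᶜ : Finset GolayPt) : Set GolayPt) := by
      ext y; simp [and_comm]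
    rw [this, Nat.card_coe_set_eq, Set.ncard_coe_finset, Finset.card_compl, Finset.card_pair hba.symm]
    simp
  haveI : FaithfulSMul H2 X := ⟨fun {g h} e => by
    refine Subtype.ext (Subtype.ext (Subtype.ext (Equiv.ext fun y => ?_)))
    by_cases hya : y = a
    · rw [hya]; exact (hK g.1.2).trans (hK h.1.2).symm
    by_cases hyb : y = b
    · rw [hyb]; exact g.2.trans h.2.symm
    exact congrArg Subtype.val (e ⟨y, hya, hyb⟩)⟩
  let P2 : Sylow 11 H2 := P.subtype hPH
  have hfree : ∀ u ∈ (P2 : Subgroup H2), ∀ y : X, u • y = y → u = 1 := fun u hu y hy =>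
    Subtype.ext (Subtype.ext (Subtype.ext (eq_one_of_pow_eleven (u.1 : M24).2 (hpow11 u.1 hu)
      hba.symm y.2.1.symm y.2.2.symm (hK u.1.2) u.2 (congrArg Subtype.val hy))))
  have hp' : 11 ∣ Nat.card H2 := hP ▸ Subgroup.card_dvd_of_le hPH
  have hp2' : ¬ 11 ^ 2 ∣ Nat.card H2 := fun h => hp2 (h.trans (Subgroup.card_subgroup_dvd_card H2))
  have hC2 := card_centralizer_le_of_two_orbits (X := X) hX hp2' hp' P2 hfree
  have hC : Nat.card (Subgroup.centralizer ((P : Subgroup K) : Set K)) ≤ 22 := by
    refine le_trans (Nat.card_le_card_of_injective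
      (fun c => (⟨⟨c.1, hcentb c.1 c.2⟩, Subgroup.mem_centralizer_iff.2 fun y hy => Subtype.ext ?_⟩ :
        Subgroup.centralizer ((P2 : Subgroup H2) : Set H2))) ?_) hC2
    · exact Subgroup.mem_centralizer_iff.1 c.2 y.1 hy
    · intro c d h
      exact Subtype.ext (congrArg (fun w : Subgroup.centralizer ((P2 : Subgroup H2) : Set H2) =>
        ((w : H2) : K)) h)
  obtain ⟨j, hj, hjmod⟩ := normalizer_card_split hp hp2 P
  have hdvd : Nat.card (Subgroup.normalizer (P : Set K)) ∣
      Nat.card (Subgroup.centralizer ((P : Subgroup K) : Set K)) * (11 - 1) :=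
    card_normalizer_dvd hp hp2 P
  have hle : (P : Subgroup K) ≤ Subgroup.centralizer ((P : Subgroup K) : Set K) := by
    haveI : IsCyclic (P : Subgroup K) := isCyclic_of_prime_card hP
    exact fun u hu => Subgroup.mem_centralizer_iff.2 fun y hy =>
      congrArg Subtype.val ((IsCyclic.isMulCommutative (α := (P : Subgroup K))).is_comm.comm ⟨y, hy⟩ ⟨u, hu⟩)
  obtain ⟨c, hc⟩ := Subgroup.card_dvd_of_le hle
  rw [hP] at hc
  rw [hc] at hC hdvd
  rw [hj, mul_assoc] at hdvd
  have hjd : j ∣ c * 10 := (Nat.mul_dvd_mul_iff_left (by norm_num)).1 hdvd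
  have hc0 : 0 < c := by
    have h0 : 0 < Nat.card (Subgroup.centralizer ((P : Subgroup K) : Set K)) := Nat.card_pos
    rw [hc] at h0
    omega
  rw [hcard] at hjmod
  exact (by decide +kernel : ∀ c < 3, ∀ j < 21, j ∣ c * 10 → 0 < c → ¬ 425040 / 11 % 11 = j % 11)
    c (by omega) j (by have := Nat.le_of_dvd (by omega) hjd; omega) hjd hc0 hjmod

theorem exists_eq_stabilizer_of_index {H : Subgroup M24} (hH : H.index = 24) :
    ∃ a : GolayPt, H = stabilizer M24 a := by
  classical
  have hcard : Nat.card H = 10200960 := by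
    have := H.index_mul_card
    rw [hH, natCard_M24] at this
    omega
  haveI : Fact (Nat.Prime 23) := ⟨by norm_num⟩
  obtain ⟨x, hx⟩ := exists_prime_orderOf_dvd_card' (G := H) 23 (by rw [hcard]; norm_num)
  set σ : Equiv.Perm GolayPt := ((x : M24) : Equiv.Perm GolayPt) with hσ
  have hσo : orderOf σ = 23 := by rw [← hx, hσ, Subgroup.orderOf_coe, Subgroup.orderOf_coe]
  obtain ⟨hmod, hlt⟩ := natCard_fixed_of_prime_order hσo
  obtain ⟨a, ha⟩ := Finset.card_eq_one.1 (show (σ.supportᶜ).card = 1 by omega)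
  have hfix : ∀ y, σ y = y ↔ y = a := fun y => by
    have h := Finset.ext_iff.1 ha y
    simpa using h
  refine ⟨a, ?_⟩
  by_cases hHa : H ≤ stabilizer M24 a
  · exact Subgroup.eq_of_le_of_card_ge hHa (by rw [natCard_stabilizer_point, hcard])
  exfalso
  obtain ⟨h, hh, hha⟩ : ∃ h ∈ H, h • a ≠ a := by
    by_contra! hne
    exact hHa fun h hh => hne h hh
  -- the cycle of length 23
  have horb : ∀ y, y ≠ a → ∀ w, w ≠ a → w ∈ orbit H y := by
    intro y hy w hw
    let Z := Subgroup.zpowers x
    have hsub : orbit Z y ⊆ ((Finset.univ.erase a : Finset GolayPt) : Set GolayPt) := by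
      rintro _ ⟨g, rfl⟩
      refine Finset.mem_erase.2 ⟨fun he => ?_, Finset.mem_univ _⟩
      have hxa : x • a = a := (hfix a).2 rfl
      obtain ⟨n, hn⟩ := Subgroup.mem_zpowers_iff.1 g.2
      have hga : (g : H) • a = a := by
        rw [← hn]
        exact (stabilizer H a).zpow_mem hxa n
      exact hy (smul_left_cancel (g : H) ((show (g : H) • y = a from he).trans hga.symm))
    have hc : (orbit Z y).ncard = 23 := by
      rw [← index_stabilizer]
      have hZ : Nat.card Z = 23 := by rw [Nat.card_zpowers, hx]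
      rcases (Nat.Prime.eq_one_or_self_of_dvd (by norm_num)) _
        (hZ ▸ Subgroup.index_dvd_card (stabilizer Z y)) with e | e
      · exfalso
        rw [Subgroup.index_eq_one] at e
        exact hy ((hfix y).1 (show (⟨x, Subgroup.mem_zpowers x⟩ : Z) ∈ stabilizer Z y from e ▸ Subgroup.mem_top _))
      · exact e
    have heq := Set.eq_of_subset_of_ncard_le hsub
      (by rw [hc, Set.ncard_coe_finset]; simp) (Set.toFinite _)
    obtain ⟨g, hg⟩ : w ∈ orbit Z y := by rw [heq]; simp [hw]
    exact ⟨(g : H), hg⟩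
  haveI : IsPretransitive H GolayPt := by
    refine isPretransitive_iff_base a |>.2 fun y => ?_
    by_cases hy : y = a
    · exact ⟨1, by rw [one_smul, hy]⟩
    · obtain ⟨g, hg⟩ := horb _ hha y hy
      exact ⟨g * ⟨h, hh⟩, by rw [mul_smul]; exact hg⟩
  have hidx := index_stabilizer_of_transitive H a
  have hKc := (stabilizer H a).index_mul_card
  rw [hidx, hcard, show Nat.card GolayPt = 24 by simp] at hKc
  refine not_natCard_eq_of_fix (K := (stabilizer H a).map H.subtype) (a := a) ?_ ?_
  · rintro _ ⟨g, hg, rfl⟩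
    exact hg
  · rw [Subgroup.card_subtype]
    omega

/-- Every automorphism of M24 is inner. -/
theorem exists_conj_of_mulAut (α : MulAut M24) : ∃ g : M24, α = MulAut.conj g := by
  classical
  have hidx : ((stabilizer M24 (none : GolayPt)).map α.toMonoidHom).index = 24 := by
    have h := (stabilizer M24 (none : GolayPt)).index_mul_card
    rw [natCard_stabilizer_point, natCard_M24] at h
    have h' := ((stabilizer M24 (none : GolayPt)).map α.toMonoidHom).index_mul_card
    rw [← Nat.card_congr (Subgroup.equivMapOfInjective _ α.toMonoidHom α.injective).toEquiv,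
      natCard_stabilizer_point, natCard_M24] at h'
    omega
  obtain ⟨a, ha⟩ := exists_eq_stabilizer_of_index hidx
  obtain ⟨g0, hg0, hg0a⟩ := exists_map_one a none
  set β : MulAut M24 := MulAut.conj (⟨g0, hg0⟩ : M24) * α with hβ
  have hst : ∀ h : M24, β h • (none : GolayPt) = none ↔ h • (none : GolayPt) = none := by
    intro h
    have h1 : α h ∈ stabilizer M24 a ↔ h ∈ stabilizer M24 (none : GolayPt) := by
      rw [← ha]
      exact Subgroup.mem_map_iff_mem α.injective
    rw [mem_stabilizer_iff, mem_stabilizer_iff] at h1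
    rw [← h1, hβ, MulAut.mul_apply, MulAut.conj_apply, mul_smul, mul_smul]
    have hga : (⟨g0, hg0⟩ : M24) • a = (none : GolayPt) := hg0a
    rw [← hga, inv_smul_smul]
    exact smul_left_cancel_iff _
  have hex : ∀ p : GolayPt, ∃ g : M24, g • (none : GolayPt) = p := fun p => by
    obtain ⟨g, hg, h⟩ := exists_map_one none p
    exact ⟨⟨g, hg⟩, h⟩
  choose rep hrep using hex
  have hwd : ∀ g k : M24, β g • (none : GolayPt) = β k • none ↔ g • (none : GolayPt) = k • none := by
    intro g k
    rw [← inv_smul_eq_iff, ← mul_smul, ← map_inv, ← map_mul, hst, mul_smul, inv_smul_eq_iff]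
  let f : GolayPt → GolayPt := fun p => β (rep p) • (none : GolayPt)
  have hfinj : Function.Injective f := fun p q h => by
    rw [← hrep p, ← hrep q]; exact (hwd _ _).1 h
  let π : Equiv.Perm GolayPt := Equiv.ofBijective f (Finite.injective_iff_bijective.1 hfinj)
  have hπ : ∀ (g : M24) (p : GolayPt), π (g • p) = β g • π p := by
    intro g p
    show β (rep (g • p)) • (none : GolayPt) = β g • β (rep p) • none
    rw [← mul_smul, ← map_mul, hwd, mul_smul, hrep, hrep]
  have hoct : ∀ o ∈ octads, π • o ∈ octads := by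
    intro o ho
    set B := π • o with hB
    have hBc : B.card = 8 := by rw [hB, Finset.card_smul_finset]; exact ho.2
    obtain ⟨S, hSB, hS⟩ := Finset.exists_subset_card_eq (show 5 ≤ B.card by omega)
    obtain ⟨ho', hSo'⟩ := octadOf_spec hS
    suffices hBo : B ⊆ octadOf S by
      rw [Finset.eq_of_subset_of_card_le hBo (by rw [hBc, show (octadOf S).card = 8 from ho'.2])]
      exact ho'
    by_contra hsub
    obtain ⟨q, hqB, hqo⟩ := Finset.not_subset.1 hsub
    have hout : (octadOf S)ᶜ ⊆ B := by
      intro w hw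
      rw [Finset.mem_compl] at hw
      obtain ⟨g, hg, hgq⟩ := exists_octad_point ho' hqo hw
      obtain ⟨hgM, hgfix⟩ := mem_octadFix.1 hg
      set k : M24 := β.symm ⟨g, hgM⟩ with hk
      have hkg : β k = ⟨g, hgM⟩ := β.apply_symm_apply _
      -- `k` fixes five points of `o`
      have hko : (k : Equiv.Perm GolayPt) • o = o := by
        refine octad_eq_of_five (smul_mem_octads k.2 ho) ho ?_
        rw [← hS, ← Finset.card_smul_finset π⁻¹ S]
        refine Finset.card_le_card fun y hy => ?_
        rw [Finset.mem_inv_smul_finset_iff, Equiv.Perm.smul_def] at hy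
        have hyo : y ∈ o := by
          have := hSB hy
          rwa [hB, ← Equiv.Perm.smul_def, Finset.smul_mem_smul_finset_iff] at this
        have hky : k • y = y := π.injective (by rw [hπ, hkg]; exact hgfix _ (hSo' hy))
        refine Finset.mem_inter.2 ⟨?_, hyo⟩
        have h2 : (k : Equiv.Perm GolayPt) • y ∈ (k : Equiv.Perm GolayPt) • o :=
          Finset.smul_mem_smul_finset hyo
        rwa [show (k : Equiv.Perm GolayPt) • y = y from hky] at h2
      rw [hB, Finset.mem_smul_finset] at hqB
      obtain ⟨y, hy, rfl⟩ := hqB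
      have : g (π • y) = π (k • y) := by rw [hπ, hkg]; rfl
      rw [← hgq, this, hB]
      refine Finset.smul_mem_smul_finset (a := π) ?_
      rw [← hko]
      exact Finset.smul_mem_smul_finset hy
    have := Finset.card_le_card hout
    rw [Finset.card_compl, hBc, show (octadOf S).card = 8 from ho'.2] at this
    simp at this
  have hπM : π ∈ M24 := mem_M24_of_octads hoct
  have hβc : β = MulAut.conj (⟨π, hπM⟩ : M24) := by
    refine MulEquiv.ext fun g => Subtype.ext (Equiv.ext fun p => ?_)
    have h := hπ g (π.symm p)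
    rw [Equiv.apply_symm_apply] at h
    exact h.symm
  refine ⟨(⟨g0, hg0⟩ : M24)⁻¹ * ⟨π, hπM⟩, ?_⟩
  rw [map_mul, map_inv, ← hβc, hβ, inv_mul_cancel_left]

end Cfsg.Agent.Golay
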