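/-
Automorphisms of M23.

* `card_mod_of_invariant`, `natCard_fixed_order_seven`
* `exists_eq_stabilizer_M23` : a subgroup of order |M22| of M23 is a point stabiliser
* `exists_conj_of_mulAut_M23` : every automorphism is inner
-/
import Cfsg.Agent.Lib.Golay.M24Aut

set_option autoImplicit false
open scoped Pointwise symmDiff
open Cfsg MulAction

namespace Cfsg.Agent.Golay

theorem card_mod_of_invariant {p : ℕ} [Fact p.Prime] {σ : Equiv.Perm GolayPt} {O : Finset GolayPt}
    (hσ : σ ^ p = 1) (hO : ∀ y, σ y ∈ O ↔ y ∈ O) :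
    (O.filter fun y => σ y = y).card % p = O.card % p := by
  classical
  set τ : Equiv.Perm ↥O := σ.subtypePerm hO with hτ
  have hpow : τ ^ p ^ 1 = 1 := by
    ext y
    rw [pow_one, hτ, Equiv.Perm.subtypePerm_pow]
    simp [Equiv.Perm.subtypePerm, hσ]
  have h := Equiv.Perm.card_compl_support_modEq (p := p) hpow
  have hc : (τ.supportᶜ).card = (O.filter fun y => σ y = y).card := by
    rw [← Finset.card_map (Function.Embedding.subtype fun y => y ∈ O)]
    congr 1
    ext y
    simp only [Finset.mem_map, Finset.mem_compl, Equiv.Perm.mem_support, not_not,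
      Finset.mem_filter, Function.Embedding.coe_subtype]
    constructor
    · rintro ⟨z, hz, rfl⟩
      exact ⟨z.2, congrArg Subtype.val hz⟩
    · rintro ⟨hyO, hy⟩
      exact ⟨⟨y, hyO⟩, Subtype.ext hy, rfl⟩
  rw [hc, Fintype.card_coe] at h
  exact h

theorem natCard_fixed_order_seven {g : Equiv.Perm GolayPt} (hgM : g ∈ M24) (hg : orderOf g = 7) :
    (g.supportᶜ).card = 3 := by
  haveI : Fact (Nat.Prime 7) := ⟨by norm_num⟩
  obtain ⟨hmod, hlt⟩ := natCard_fixed_of_prime_order hg
  by_contra hne
  obtain ⟨S, hSF, hS⟩ := Finset.exists_subset_card_eq (show 5 ≤ (g.supportᶜ).card by omega)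
  obtain ⟨ho, hSo⟩ := octadOf_spec hS
  set o := octadOf S with hodef
  have hfix : ∀ y ∈ S, g y = y := fun y hy => by simpa using hSF hy
  have hgo : g • o = o := by
    refine octad_eq_of_five (smul_mem_octads hgM ho) ho ?_
    rw [← hS]
    refine Finset.card_le_card fun y hy => Finset.mem_inter.2 ⟨?_, hSo hy⟩
    have h2 : g • y ∈ g • o := Finset.smul_mem_smul_finset (hSo hy)
    rwa [Equiv.Perm.smul_def, hfix y hy] at h2
  have hinv : ∀ y, g y ∈ o ↔ y ∈ o := fun y => by
    conv_lhs => rw [← hgo, ← Equiv.Perm.smul_def, Finset.smul_mem_smul_finset_iff]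
  have hm := card_mod_of_invariant (p := 7) (by rw [← hg, pow_orderOf_eq_one]) hinv
  rw [show o.card = 8 from ho.2] at hm
  have h5 : 5 ≤ (o.filter fun y => g y = y).card := by
    rw [← hS]
    exact Finset.card_le_card fun y hy => Finset.mem_filter.2 ⟨hSo hy, hfix y hy⟩
  have h8 : o.filter (fun y => g y = y) = o := by
    refine Finset.eq_of_subset_of_card_le (Finset.filter_subset _ _) ?_
    have hle := Finset.card_filter_le o fun y => g y = y
    rw [show o.card = 8 from ho.2] at hle ⊢
    omega
  obtain ⟨e, heF, heo⟩ := Finset.exists_mem_notMem_of_card_lt_card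
    (show o.card < (g.supportᶜ).card by rw [show o.card = 8 from ho.2]; omega)
  have h1 := eq_one_of_octad_point ho hgM
    (fun p hp => (Finset.mem_filter.1 (h8.symm ▸ hp : p ∈ o.filter fun y => g y = y)).2) heo
    (by simpa using heF)
  rw [h1, orderOf_one] at hg
  norm_num at hg

/-- A subgroup of order `|M22|` of M23 is a point stabiliser. -/
theorem exists_eq_stabilizer_M23 {H : Subgroup ↥Spor.M23} (hcard : Nat.card H = 443520) :
    ∃ a : GolayPt, a ≠ none ∧ H = stabilizer Spor.M23 a := by
  classical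
  haveI : Fact (Nat.Prime 11) := ⟨by norm_num⟩
  haveI : Fact (Nat.Prime 7) := ⟨by norm_num⟩
  obtain ⟨x, hx⟩ := exists_prime_orderOf_dvd_card' (G := H) 11 (by rw [hcard]; norm_num)
  obtain ⟨z, hz⟩ := exists_prime_orderOf_dvd_card' (G := H) 7 (by rw [hcard]; norm_num)
  set σ : Equiv.Perm GolayPt := ((x : Spor.M23) : Equiv.Perm GolayPt) with hσ
  set η : Equiv.Perm GolayPt := ((z : Spor.M23) : Equiv.Perm GolayPt) with hη
  have hσo : orderOf σ = 11 := by rw [← hx, hσ, Subgroup.orderOf_coe, Subgroup.orderOf_coe]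
  have hηo : orderOf η = 7 := by rw [← hz, hη, Subgroup.orderOf_coe, Subgroup.orderOf_coe]
  obtain ⟨hmod, hlt⟩ := natCard_fixed_of_prime_order hσo
  have hσn : σ none = none := (x : Spor.M23).2.2
  have hfix : ∀ y, y ∈ σ.supportᶜ ↔ σ y = y := fun y => by simp
  have hnF : (none : GolayPt) ∈ σ.supportᶜ := (hfix _).2 hσn
  have hF2 : (σ.supportᶜ).card = 2 := by
    by_contra hne
    obtain ⟨s, hsF, hs⟩ := Finset.exists_subset_card_eq (show 3 ≤ (σ.supportᶜ).card by omega)
    obtain ⟨u, v, w, huv, huw, hvw, rfl⟩ := Finset.card_eq_three.1 hs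
    have h1 := eq_one_of_pow_eleven (x : Spor.M23).2.1
      (by rw [← hσo]; exact pow_orderOf_eq_one σ) huv huw hvw
      ((hfix u).1 (hsF (by simp))) ((hfix v).1 (hsF (by simp))) ((hfix w).1 (hsF (by simp)))
    rw [hσ, h1, orderOf_one] at hσo
    norm_num at hσo
  obtain ⟨b, hbF, hbn⟩ : ∃ b ∈ σ.supportᶜ, b ≠ none :=
    Finset.exists_mem_ne (by rw [hF2]; norm_num) none
  have hF : σ.supportᶜ = {none, b} :=
    (Finset.eq_of_subset_of_card_le (by simp [Finset.insert_subset_iff, hnF, hbF, -Finset.mem_compl])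
      (by rw [hF2, Finset.card_pair hbn.symm])).symm
  refine ⟨b, hbn, Subgroup.eq_of_le_of_card_ge ?_ ?_⟩
  swap
  · rw [hcard, ← natCard_m22 hbn.symm]
    exact le_of_eq (Nat.card_congr
      { toFun := fun g => ⟨((g.1 : Spor.M23) : Equiv.Perm GolayPt), g.1.2, g.2⟩
        invFun := fun g => ⟨⟨g.1, g.2.1⟩, g.2.2⟩
        left_inv := fun _ => rfl
        right_inv := fun _ => rfl })
  intro h hh
  by_contra hhb
  let O : Finset GolayPt := (orbit H b).toFinite.toFinset
  have hO : ∀ y, y ∈ O ↔ y ∈ orbit H b := fun y => Set.Finite.mem_toFinset _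
  have hinv : ∀ (g : H) (y : GolayPt), ((g : Spor.M23) : Equiv.Perm GolayPt) y ∈ O ↔ y ∈ O := by
    intro g y
    rw [hO, hO]
    constructor
    · rintro ⟨k, hk⟩
      exact ⟨g⁻¹ * k, (mul_smul g⁻¹ k b).trans ((congrArg (g⁻¹ • ·) hk).trans (inv_smul_smul g y))⟩
    · rintro ⟨k, hk⟩
      exact ⟨g * k, (mul_smul g k b).trans (congrArg (g • ·) hk)⟩
  have hnO : (none : GolayPt) ∉ O := by
    rw [hO]
    rintro ⟨g, hg⟩
    exact hbn (((g : Spor.M23) : Equiv.Perm GolayPt).injective (hg.trans (g : Spor.M23).2.2.symm))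
  have h11 := card_mod_of_invariant (p := 11) (by rw [← hσo]; exact pow_orderOf_eq_one σ) (hinv x)
  rw [show (O.filter fun y => σ y = y) = {b} by
    ext y
    rw [Finset.mem_filter, Finset.mem_singleton, ← hfix, hF, Finset.mem_insert, Finset.mem_singleton]
    constructor
    · rintro ⟨hy, rfl | rfl⟩
      · exact absurd hy hnO
      · rfl
    · rintro rfl
      exact ⟨(hO _).2 (mem_orbit_self _), Or.inr rfl⟩, Finset.card_singleton] at h11
  have hO23 : O.card ≤ 23 := by
    refine (Finset.card_le_card (t := Finset.univ.erase none) fun y hy =>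
      Finset.mem_erase.2 ⟨fun e => hnO (e ▸ hy), Finset.mem_univ _⟩).trans ?_
    simp
  have hO1 : 1 < O.card := by
    refine Finset.one_lt_card.2 ⟨b, (hO b).2 (mem_orbit_self b), _,
      (hO _).2 ⟨(⟨h, hh⟩ : H), rfl⟩, fun e => hhb ?_⟩
    exact e.symm
  have hdvd : O.card ∣ 443520 := by
    rw [show O.card = (orbit H b).ncard from (Set.ncard_eq_toFinset_card _ _).symm,
      ← index_stabilizer, ← hcard]
    exact Subgroup.index_dvd_card _
  have h23 : O.card ≠ 23 := fun e => by rw [e] at hdvd; norm_num at hdvd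
  have h7 := card_mod_of_invariant (p := 7) (σ := η) (by rw [← hηo]; exact pow_orderOf_eq_one η) (hinv z)
  have hle : (O.filter fun y => η y = y).card ≤ 2 := by
    have hnη : (none : GolayPt) ∈ η.supportᶜ := by simpa using (z : Spor.M23).2.2
    refine (Finset.card_le_card (t := (η.supportᶜ).erase none) fun y hy => ?_).trans
      (by rw [Finset.card_erase_of_mem hnη, natCard_fixed_order_seven (z : Spor.M23).2.1 hηo])
    rw [Finset.mem_filter] at hy
    exact Finset.mem_erase.2 ⟨fun e => hnO (e ▸ hy.1), by simpa using hy.2⟩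
  omega

theorem exists_conj_of_mulAut_M23 (α : MulAut ↥Spor.M23) : ∃ g : ↥Spor.M23, α = MulAut.conj g := by
  classical
  let c : GolayPt := some 0
  have hcn : c ≠ none := Option.some_ne_none _
  have hM : Nat.card (stabilizer Spor.M23 c) = 443520 := by
    rw [← natCard_m22 hcn.symm]
    exact Nat.card_congr
      { toFun := fun g => ⟨((g.1 : Spor.M23) : Equiv.Perm GolayPt), g.1.2, g.2⟩
        invFun := fun g => ⟨⟨g.1, g.2.1⟩, g.2.2⟩
        left_inv := fun _ => rfl
        right_inv := fun _ => rfl }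
  obtain ⟨a, han, ha⟩ := exists_eq_stabilizer_M23 (H := (stabilizer Spor.M23 c).map α.toMonoidHom)
    (by rw [← Nat.card_congr (Subgroup.equivMapOfInjective _ α.toMonoidHom α.injective).toEquiv, hM])
  obtain ⟨g0, hg0, hg0n, hg0a⟩ := exists_map_two han.symm hcn.symm
  let gg : Spor.M23 := ⟨g0, hg0, hg0n⟩
  set β : MulAut ↥Spor.M23 := MulAut.conj gg * α with hβ
  have hst : ∀ h : Spor.M23, β h • c = c ↔ h • c = c := by
    intro h
    have h1 : α h ∈ stabilizer Spor.M23 a ↔ h ∈ stabilizer Spor.M23 c := by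
      rw [← ha]
      exact Subgroup.mem_map_iff_mem α.injective
    rw [mem_stabilizer_iff, mem_stabilizer_iff] at h1
    rw [← h1, hβ, MulAut.mul_apply, MulAut.conj_apply, mul_smul, mul_smul]
    have hga : gg • a = c := hg0a
    rw [← hga, inv_smul_smul]
    exact smul_left_cancel_iff _
  have hex : ∀ p : GolayPt, ∃ g : Spor.M23, p ≠ none → g • c = p := fun p => by
    by_cases hp : p = none
    · exact ⟨1, fun h => absurd hp h⟩
    · obtain ⟨g, hg, hn, h⟩ := exists_map_two hcn.symm (Ne.symm hp)
      exact ⟨⟨g, hg, hn⟩, fun _ => h⟩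
  choose rep hrep using hex
  have hwd : ∀ g k : Spor.M23, β g • c = β k • c ↔ g • c = k • c := by
    intro g k
    rw [← inv_smul_eq_iff, ← mul_smul, ← map_inv, ← map_mul, hst, mul_smul, inv_smul_eq_iff]
  have hfixn : ∀ g : Spor.M23, g • (none : GolayPt) = none := fun g => g.2.2
  let f : GolayPt → GolayPt := fun p => if p = none then none else β (rep p) • c
  have hfne : ∀ g : Spor.M23, g • c ≠ none := fun g e =>
    hcn (smul_left_cancel g (e.trans (hfixn g).symm))
  have hfinj : Function.Injective f := fun p q h => by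
    by_cases hp : p = none
    · by_cases hq : q = none
      · rw [hp, hq]
      · simp only [f, if_pos hp, if_neg hq] at h
        exact absurd h.symm (hfne _)
    · by_cases hq : q = none
      · simp only [f, if_pos hq, if_neg hp] at h
        exact absurd h (hfne _)
      · simp only [f, if_neg hp, if_neg hq] at h
        rw [← hrep p hp, ← hrep q hq]
        exact (hwd _ _).1 h
  let π : Equiv.Perm GolayPt := Equiv.ofBijective f (Finite.injective_iff_bijective.1 hfinj)
  have hπn : π none = none := by simp [π, f]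
  have hπ : ∀ (g : Spor.M23) (p : GolayPt), π (g • p) = β g • π p := by
    intro g p
    by_cases hp : p = none
    · rw [hp, hfixn, hπn, hfixn]
    have hgp : g • p ≠ none := fun e => hp (smul_left_cancel g (e.trans (hfixn g).symm))
    show f (g • p) = β g • f p
    simp only [f, if_neg hp, if_neg hgp]
    rw [← mul_smul, ← map_mul, hwd, mul_smul, hrep _ hgp, hrep _ hp]
  have hoct1 : ∀ o ∈ octads, (none : GolayPt) ∈ o → π • o ∈ octads := by
    intro o ho hno
    set B := π • o with hB
    have hBc : B.card = 8 := by rw [hB, Finset.card_smul_finset]; exact ho.2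
    have hnB : (none : GolayPt) ∈ B := by
      have h2 : π • (none : GolayPt) ∈ π • o := Finset.smul_mem_smul_finset hno
      rwa [Equiv.Perm.smul_def, hπn] at h2
    obtain ⟨S, hnS, hSB, hS⟩ := Finset.exists_subsuperset_card_eq (n := 5)
      (Finset.singleton_subset_iff.2 hnB) (by simp) (by omega)
    rw [Finset.singleton_subset_iff] at hnS
    obtain ⟨ho', hSo'⟩ := octadOf_spec hS
    suffices hBo : B ⊆ octadOf S by
      rw [Finset.eq_of_subset_of_card_le hBo (by rw [hBc, show (octadOf S).card = 8 from ho'.2])]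
      exact ho'
    by_contra hsub
    obtain ⟨q, hqB, hqo⟩ := Finset.not_subset.1 hsub
    have hout : (octadOf S)ᶜ ⊆ B := by
      intro w hw
      rw [Finset.mem_compl] at hw
      obtain ⟨g, hg, hgq⟩ := exists_octad_point ho' hqo hw
      obtain ⟨hgM, hgfix⟩ := mem_octadFix.1 hg
      let gM : Spor.M23 := ⟨g, hgM, hgfix _ (hSo' hnS)⟩
      set k : Spor.M23 := β.symm gM with hk
      have hkg : β k = gM := β.apply_symm_apply _
      have hko : (k : Equiv.Perm GolayPt) • o = o := by
        refine octad_eq_of_five (smul_mem_octads k.2.1 ho) ho ?_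
        rw [← hS, ← Finset.card_smul_finset π⁻¹ S]
        refine Finset.card_le_card fun y hy => ?_
        rw [Finset.mem_inv_smul_finset_iff, Equiv.Perm.smul_def] at hy
        have hyo : y ∈ o := by
          have := hSB hy
          rwa [hB, ← Equiv.Perm.smul_def, Finset.smul_mem_smul_finset_iff] at this
        have hky : k • y = y := π.injective (by rw [hπ, hkg]; exact hgfix _ (hSo' hy))
        refine Finset.mem_inter.2 ⟨?_, hyo⟩
        have h2 : (k : Equiv.Perm GolayPt) • y ∈ (k : Equiv.Perm GolayPt) • o :=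
          Finset.smul_mem_smul_finset hyo
        rwa [show (k : Equiv.Perm GolayPt) • y = y from hky] at h2
      rw [hB, Finset.mem_smul_finset] at hqB
      obtain ⟨y, hy, rfl⟩ := hqB
      have : g (π • y) = π (k • y) := by rw [hπ, hkg]; rfl
      rw [← hgq, this, hB]
      refine Finset.smul_mem_smul_finset (a := π) ?_
      rw [← hko]
      exact Finset.smul_mem_smul_finset hy
    have := Finset.card_le_card hout
    rw [Finset.card_compl, hBc, show (octadOf S).card = 8 from ho'.2] at this
    simp at this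
  have hoct : ∀ o ∈ octads, π • o ∈ octads := by
    intro o ho
    by_cases hno : (none : GolayPt) ∈ o
    · exact hoct1 o ho hno
    have hoc : o.card = 8 := ho.2
    obtain ⟨T, hTo, hT⟩ := Finset.exists_subset_card_eq (show 4 ≤ o.card by omega)
    have hnT : (none : GolayPt) ∉ T := fun h => hno (hTo h)
    obtain ⟨ho1, hTo1⟩ := octadOf_spec (s := insert none T) (by rw [Finset.card_insert_of_notMem hnT, hT])
    set o1 := octadOf (insert none T)
    have hno1 : (none : GolayPt) ∈ o1 := hTo1 (Finset.mem_insert_self _ _)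
    have h4 : 4 ≤ (o1 ∩ o).card := hT ▸ Finset.card_le_card
      (Finset.subset_inter ((Finset.subset_insert _ _).trans hTo1) hTo)
    have he4 : (o1 ∩ o).card = 4 := by
      rcases octad_inter_octad ho1 ho with h | h | h | h
      · omega
      · omega
      · exact h
      · exact absurd (h ▸ hno1) hno
    have ho2 : o1 ∆ o ∈ octads := by
      refine ⟨symmDiff_mem ho1.1 ho.1, ?_⟩
      have h2 := card_symmDiff_add o1 o
      rw [he4, hoc, show o1.card = 8 from ho1.2] at h2
      show (o1 ∆ o).card = 8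
      omega
    have hp1 := hoct1 o1 ho1 hno1
    have hp2 := hoct1 _ ho2 (Finset.mem_symmDiff.2 (Or.inl ⟨hno1, hno⟩))
    refine ⟨?_, by rw [Finset.card_smul_finset]; exact hoc⟩
    have := symmDiff_mem hp1.1 hp2.1
    rwa [← smul_symmDiff, symmDiff_symmDiff_cancel_left] at this
  have hπM : π ∈ M24 := mem_M24_of_octads hoct
  let p0 : Spor.M23 := ⟨π, hπM, hπn⟩
  have hβc : β = MulAut.conj p0 := by
    refine MulEquiv.ext fun g => Subtype.ext (Equiv.ext fun p => ?_)
    have h := hπ g (π.symm p)
    rw [Equiv.apply_symm_apply] at h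
    exact h.symm
  refine ⟨gg⁻¹ * p0, ?_⟩
  rw [map_mul, map_inv, ← hβc, hβ, inv_mul_cancel_left]

end Cfsg.Agent.Golay
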