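/-
Automorphisms of M22.

* `card_fixed_lt_nine` : an element of prime order `≠ 3` of M24 fixes fewer than 9 points
* `exists_eq_stabilizer_M22` : a subgroup of order 20160 of M22 is a point stabiliser
* `exists_perm_of_mulAut_M22` : automorphisms of M22 come from M24
* `natCard_out_M22`
-/
import Cfsg.Agent.Lib.Golay.M23Aut

set_option autoImplicit false
open scoped Pointwise symmDiff
open Cfsg MulAction

namespace Cfsg.Agent.Golay

/-- the first deleted point -/
local notation "pa" => (none : GolayPt)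
/-- the second deleted point -/
local notation "pb" => (some 0 : GolayPt)

theorem fix_octad_of_five {p : ℕ} [Fact p.Prime] (hp3 : p ≠ 3) {g : Equiv.Perm GolayPt}
    (hgM : g ∈ M24) (hpow : g ^ p = 1) {o : Finset GolayPt} (ho : o ∈ octads) (hgo : g • o = o)
    (h5 : 5 ≤ (o.filter fun y => g y = y).card) : ∀ y ∈ o, g y = y := by
  classical
  have hp : p.Prime := Fact.out
  have hoc : o.card = 8 := ho.2
  have hinv : ∀ y, g y ∈ o ↔ y ∈ o := fun y => mem_iff_of_mem_octadStab ⟨hgM, hgo⟩ y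
  have hle := Finset.card_filter_le o fun y => g y = y
  have hm := card_mod_of_invariant hpow hinv
  have hdvd : p ∣ o.card - (o.filter fun y => g y = y).card := (Nat.modEq_iff_dvd' hle).1 hm
  by_contra! hne
  obtain ⟨y, hyo, hy⟩ := hne
  have hlt : (o.filter fun y => g y = y).card < o.card :=
    Finset.card_lt_card ⟨Finset.filter_subset _ _, fun h => hy (Finset.mem_filter.1 (h hyo)).2⟩
  have hpd := Nat.le_of_dvd (by omega) hdvd
  have hp2 : p = 2 := by
    have := hp.two_le
    omega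
  subst hp2
  have h6 : (o.filter fun y => g y = y).card = 6 := by omega
  let G : ↥(octadStab o) := ⟨g, hgM, hgo⟩
  have hsign : Equiv.Perm.sign (octadRes o G) = 1 :=
    Equiv.Perm.mem_alternatingGroup.1 (range_octadRes ho ▸ ⟨G, rfl⟩)
  have hsupp : (octadRes o G).support.card = 2 := by
    have : (octadRes o G).support.map (Function.Embedding.subtype fun y => y ∈ o) =
        o \ o.filter fun y => g y = y := by
      ext z
      simp only [Finset.mem_map, Equiv.Perm.mem_support, Function.Embedding.coe_subtype,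
        Finset.mem_sdiff, Finset.mem_filter, not_and]
      constructor
      · rintro ⟨w, hw, rfl⟩
        exact ⟨w.2, fun _ h => hw (Subtype.ext h)⟩
      · rintro ⟨hz, h⟩
        exact ⟨⟨z, hz⟩, fun e => h hz (congrArg Subtype.val e), rfl⟩
    rw [← Finset.card_map (Function.Embedding.subtype fun y => y ∈ o), this,
      Finset.card_sdiff_of_subset (Finset.filter_subset _ _), h6, hoc]
  rw [(Equiv.Perm.card_support_eq_two.1 hsupp).sign_eq] at hsign
  exact absurd hsign (by decide)

theorem card_fixed_lt_nine {p : ℕ} [Fact p.Prime] (hp3 : p ≠ 3) {g : Equiv.Perm GolayPt}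
    (hgM : g ∈ M24) (hg : orderOf g = p) : (g.supportᶜ).card < 9 := by
  classical
  by_contra hne
  obtain ⟨S, hSF, hS⟩ := Finset.exists_subset_card_eq (show 5 ≤ (g.supportᶜ).card by omega)
  obtain ⟨ho, hSo⟩ := octadOf_spec hS
  have hfix : ∀ y ∈ S, g y = y := fun y hy => by simpa using hSF hy
  have hgo : g • octadOf S = octadOf S := by
    refine octad_eq_of_five (smul_mem_octads hgM ho) ho ?_
    rw [← hS]
    refine Finset.card_le_card fun y hy => Finset.mem_inter.2 ⟨?_, hSo hy⟩
    have h2 : g • y ∈ g • octadOf S := Finset.smul_mem_smul_finset (hSo hy)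
    rwa [Equiv.Perm.smul_def, hfix y hy] at h2
  have hall := fix_octad_of_five hp3 hgM (by rw [← hg, pow_orderOf_eq_one]) ho hgo
    (by rw [← hS]; exact Finset.card_le_card fun y hy => Finset.mem_filter.2 ⟨hSo hy, hfix y hy⟩)
  obtain ⟨e, heF, heo⟩ := Finset.exists_mem_notMem_of_card_lt_card
    (show (octadOf S).card < (g.supportᶜ).card by rw [show (octadOf S).card = 8 from ho.2]; omega)
  have h1 := eq_one_of_octad_point ho hgM hall heo (by simpa using heF)
  rw [h1, orderOf_one] at hg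
  exact (Fact.out : p.Prime).ne_one hg.symm

theorem apply_M22 (g : ↥Spor.M22) :
    (g : Equiv.Perm GolayPt) pa = pa ∧ (g : Equiv.Perm GolayPt) pb = pb ∧
      (g : Equiv.Perm GolayPt) ∈ M24 := ⟨g.2.1.2, g.2.2, g.2.1.1⟩

theorem exists_map_M22 {c d : GolayPt} (hca : c ≠ pa) (hcb : c ≠ pb) (hda : d ≠ pa) (hdb : d ≠ pb) :
    ∃ g : ↥Spor.M22, g • c = d := by
  obtain ⟨g, hg, ha, hb, h⟩ := exists_map_three (a := pa) (b := pb) (a' := pa) (b' := pb)
    (by simp) hca.symm hcb.symm (by simp) hda.symm hdb.symm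
  exact ⟨⟨g, ⟨hg, ha⟩, hb⟩, h⟩

theorem natCard_stabilizer_M22 {c : GolayPt} (hca : c ≠ pa) (hcb : c ≠ pb) :
    Nat.card (stabilizer Spor.M22 c) = 20160 := by
  have horb : orbit Spor.M22 c = (({pa, pb} : Finset GolayPt)ᶜ : Finset GolayPt) := by
    ext d
    rw [Finset.mem_coe, Finset.mem_compl, Finset.mem_insert, Finset.mem_singleton, not_or]
    constructor
    · rintro ⟨g, rfl⟩
      obtain ⟨ha, hb, -⟩ := apply_M22 g
      exact ⟨fun e => hca ((g : Equiv.Perm GolayPt).injective (e.trans ha.symm)),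
        fun e => hcb ((g : Equiv.Perm GolayPt).injective (e.trans hb.symm))⟩
    · rintro ⟨hda, hdb⟩
      exact exists_map_M22 hca hcb hda hdb
  have h := (stabilizer Spor.M22 c).index_mul_card
  rw [index_stabilizer, horb, Set.ncard_coe_finset, Finset.card_compl, Finset.card_pair (by simp),
    show Nat.card ↥Spor.M22 = 443520 from natCard_m22 (a := pa) (b := pb) (by simp)] at h
  rw [show Fintype.card GolayPt = 24 by simp] at h
  omega

/-- A subgroup of order 20160 of M22 is a point stabiliser. -/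
theorem exists_eq_stabilizer_M22 {H : Subgroup ↥Spor.M22} (hcard : Nat.card H = 20160) :
    ∃ c : GolayPt, c ≠ pa ∧ c ≠ pb ∧ H = stabilizer Spor.M22 c := by
  classical
  haveI : Fact (Nat.Prime 7) := ⟨by norm_num⟩
  haveI : Fact (Nat.Prime 5) := ⟨by norm_num⟩
  obtain ⟨z, hz⟩ := exists_prime_orderOf_dvd_card' (G := H) 7 (by rw [hcard]; norm_num)
  obtain ⟨w, hw⟩ := exists_prime_orderOf_dvd_card' (G := H) 5 (by rw [hcard]; norm_num)
  set η : Equiv.Perm GolayPt := ((z : Spor.M22) : Equiv.Perm GolayPt) with hη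
  set ε : Equiv.Perm GolayPt := ((w : Spor.M22) : Equiv.Perm GolayPt) with hε
  have hηo : orderOf η = 7 := by rw [← hz, hη, Subgroup.orderOf_coe, Subgroup.orderOf_coe]
  have hεo : orderOf ε = 5 := by rw [← hw, hε, Subgroup.orderOf_coe, Subgroup.orderOf_coe]
  obtain ⟨haη, hbη, hηM⟩ : η pa = pa ∧ η pb = pb ∧ η ∈ M24 := apply_M22 (z : Spor.M22)
  obtain ⟨haε, hbε, hεM⟩ : ε pa = pa ∧ ε pb = pb ∧ ε ∈ M24 := apply_M22 (w : Spor.M22)
  have hF3 := natCard_fixed_order_seven hηM hηo
  have hab : ({pa, pb} : Finset GolayPt).card = 2 := Finset.card_pair (by simp)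
  obtain ⟨c, hcF, hcab⟩ := Finset.exists_mem_notMem_of_card_lt_card
    (show ({pa, pb} : Finset GolayPt).card < (η.supportᶜ).card by omega)
  rw [Finset.mem_insert, Finset.mem_singleton, not_or] at hcab
  obtain ⟨hca, hcb⟩ := hcab
  have hF : ∀ y, η y = y → y = pa ∨ y = pb ∨ y = c := by
    intro y hy
    have heq : ({pa, pb, c} : Finset GolayPt) = η.supportᶜ := by
      refine Finset.eq_of_subset_of_card_le
        (by simp [Finset.insert_subset_iff, haη, hbη, show η c = c by simpa using hcF]) ?_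
      rw [hF3, Finset.card_insert_of_notMem (by simp [Ne.symm hca]),
        Finset.card_pair (Ne.symm hcb)]
    have : y ∈ η.supportᶜ := by simpa using hy
    rw [← heq] at this
    simpa using this
  refine ⟨c, hca, hcb, Subgroup.eq_of_le_of_card_ge ?_
    (by rw [hcard, natCard_stabilizer_M22 hca hcb])⟩
  intro h hh
  by_contra hhc
  let O : Finset GolayPt := (orbit H c).toFinite.toFinset
  have hO : ∀ y, y ∈ O ↔ y ∈ orbit H c := fun y => Set.Finite.mem_toFinset _
  have hinv : ∀ (g : H) (y : GolayPt), ((g : Spor.M22) : Equiv.Perm GolayPt) y ∈ O ↔ y ∈ O := by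
    intro g y
    rw [hO, hO]
    constructor
    · rintro ⟨k, hk⟩
      exact ⟨g⁻¹ * k, (mul_smul g⁻¹ k c).trans ((congrArg (g⁻¹ • ·) hk).trans (inv_smul_smul g y))⟩
    · rintro ⟨k, hk⟩
      exact ⟨g * k, (mul_smul g k c).trans (congrArg (g • ·) hk)⟩
  have haO : pa ∉ O := by
    rw [hO]
    rintro ⟨g, hg⟩
    exact hca (((g : Spor.M22) : Equiv.Perm GolayPt).injective (hg.trans (apply_M22 g.1).1.symm))
  have hbO : pb ∉ O := by
    rw [hO]
    rintro ⟨g, hg⟩
    exact hcb (((g : Spor.M22) : Equiv.Perm GolayPt).injective (hg.trans (apply_M22 g.1).2.1.symm))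
  have hOsub : O ⊆ ({pa, pb} : Finset GolayPt)ᶜ := fun y hy => by
    rw [Finset.mem_compl, Finset.mem_insert, Finset.mem_singleton]
    rintro (rfl | rfl)
    exacts [haO hy, hbO hy]
  have hO22 : O.card ≤ 22 := (Finset.card_le_card hOsub).trans (by rw [Finset.card_compl, hab]; simp)
  have h7 := card_mod_of_invariant (p := 7) (σ := η) (by rw [← hηo]; exact pow_orderOf_eq_one η)
    (hinv z)
  rw [show (O.filter fun y => η y = y) = {c} by
    ext y
    rw [Finset.mem_filter, Finset.mem_singleton]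
    constructor
    · rintro ⟨hy, hy'⟩
      rcases hF y hy' with rfl | rfl | rfl
      exacts [absurd hy haO, absurd hy hbO, rfl]
    · rintro rfl
      exact ⟨(hO _).2 (mem_orbit_self _), by simpa using hcF⟩, Finset.card_singleton] at h7
  have hO1 : 1 < O.card := Finset.one_lt_card.2 ⟨c, (hO c).2 (mem_orbit_self c), _,
    (hO _).2 ⟨(⟨h, hh⟩ : H), rfl⟩, fun e => hhc e.symm⟩
  have hdvd : O.card ∣ 20160 := by
    rw [show O.card = (orbit H c).ncard from (Set.ncard_eq_toFinset_card _ _).symm,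
      ← index_stabilizer, ← hcard]
    exact Subgroup.index_dvd_card _
  have h22 : O.card ≠ 22 := fun e => by rw [e] at hdvd; norm_num at hdvd
  obtain ⟨hmε, -⟩ := natCard_fixed_of_prime_order hεo
  have hlε := card_fixed_lt_nine (by norm_num) hεM hεo
  have hε2 : (O.filter fun y => ε y = y).card ≤ 2 := by
    refine (Finset.card_le_card (t := ε.supportᶜ \ {pa, pb}) fun y hy => ?_).trans ?_
    · rw [Finset.mem_filter] at hy
      rw [Finset.mem_sdiff]
      exact ⟨by simpa using hy.2, Finset.mem_compl.1 (hOsub hy.1)⟩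
    · rw [Finset.card_sdiff_of_subset (by
        simp [Finset.insert_subset_iff, haε, hbε]), hab]
      omega
  have h5 := card_mod_of_invariant (p := 5) (σ := ε) (by rw [← hεo]; exact pow_orderOf_eq_one ε)
    (hinv w)
  have hO15 : O.card = 15 := by omega
  let D : Finset GolayPt := ({pa, pb} ∪ O)ᶜ
  have hDc : D.card = 7 := by
    show ({pa, pb} ∪ O)ᶜ.card = 7
    rw [Finset.card_compl, Finset.card_union_of_disjoint
      (Finset.disjoint_left.2 fun y hy hyO => Finset.mem_compl.1 (hOsub hyO) hy), hab, hO15]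
    simp
  have hDinv : ∀ (g : H) (y : GolayPt), ((g : Spor.M22) : Equiv.Perm GolayPt) y ∈ D ↔ y ∈ D := by
    intro g y
    simp only [D, Finset.mem_compl, Finset.mem_union, Finset.mem_insert, Finset.mem_singleton,
      hinv g y]
    obtain ⟨ha, hb, -⟩ := apply_M22 g.1
    have e1 : ((g : Spor.M22) : Equiv.Perm GolayPt) y = pa ↔ y = pa :=
      ⟨fun e => Equiv.injective _ (e.trans ha.symm), fun e => e ▸ ha⟩
    have e2 : ((g : Spor.M22) : Equiv.Perm GolayPt) y = pb ↔ y = pb :=
      ⟨fun e => Equiv.injective _ (e.trans hb.symm), fun e => e ▸ hb⟩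
    rw [e1, e2]
  let φ : H →* Equiv.Perm ↥D :=
    { toFun := fun g => ((g : Spor.M22) : Equiv.Perm GolayPt).subtypePerm (hDinv g)
      map_one' := Equiv.ext fun _ => rfl
      map_mul' := fun _ _ => Equiv.ext fun _ => rfl }
  have hk := φ.ker.index_mul_card
  rw [Subgroup.index_ker, hcard] at hk
  have hr : Nat.card φ.range ∣ 5040 := by
    have := Subgroup.card_subgroup_dvd_card φ.range
    rwa [Nat.card_eq_fintype_card (α := Equiv.Perm ↥D), Fintype.card_perm, Fintype.card_coe, hDc,
      show Nat.factorial 7 = 5040 from rfl] at this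
  have h2k : 2 ∣ Nat.card φ.ker := by
    obtain ⟨e, he⟩ := hr
    refine ⟨2 * e, Nat.eq_of_mul_eq_mul_left (Nat.card_pos (α := φ.range)) ?_⟩
    rw [hk, show Nat.card φ.range * (2 * (2 * e)) = 4 * (Nat.card φ.range * e) by ring, ← he]
  haveI : Fact (Nat.Prime 2) := ⟨Nat.prime_two⟩
  obtain ⟨g, hg⟩ := exists_prime_orderOf_dvd_card' (G := φ.ker) 2 h2k
  set γ : Equiv.Perm GolayPt := (((g : H) : Spor.M22) : Equiv.Perm GolayPt) with hγ
  have hγo : orderOf γ = 2 := by
    rw [← hg, hγ, Subgroup.orderOf_coe, Subgroup.orderOf_coe, Subgroup.orderOf_coe]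
  obtain ⟨haγ, hbγ, hγM⟩ : γ pa = pa ∧ γ pb = pb ∧ γ ∈ M24 := apply_M22 (g : H).1
  have h9 := card_fixed_lt_nine (by norm_num) hγM hγo
  have hsub : ({pa, pb} : Finset GolayPt) ∪ D ⊆ γ.supportᶜ := by
    intro y hy
    rw [Finset.mem_compl, Equiv.Perm.notMem_support]
    rw [Finset.mem_union, Finset.mem_insert, Finset.mem_singleton] at hy
    rcases hy with (rfl | rfl) | hy
    · exact haγ
    · exact hbγ
    · exact congrArg Subtype.val (Equiv.Perm.ext_iff.1 (MonoidHom.mem_ker.1 g.2) ⟨y, hy⟩)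
  have := Finset.card_le_card hsub
  rw [Finset.card_union_of_disjoint (Finset.disjoint_left.2 fun y hy hyD => by
    simp only [D, Finset.mem_compl, Finset.mem_union] at hyD
    exact hyD (Or.inl hy)), hab, hDc] at this
  omega

/-- `o` contains both or none of the deleted points. -/
def Even22 (o : Finset GolayPt) : Prop := pa ∈ o ↔ pb ∈ o

theorem symmDiff_pair_eq {A : Finset GolayPt} (hA : ¬ Even22 A) :
    (A ∩ {pa, pb}).card = 1 := by
  unfold Even22 at hA
  by_cases h : pa ∈ A
  · have : A ∩ {pa, pb} = {pa} := by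
      ext y; simp only [Finset.mem_inter, Finset.mem_insert, Finset.mem_singleton]
      exact ⟨fun ⟨hy, e⟩ => e.resolve_right fun e => hA (by simp [h, ← e, hy]),
        fun e => ⟨e ▸ h, Or.inl e⟩⟩
    rw [this, Finset.card_singleton]
  · have hb : pb ∈ A := by tauto
    have : A ∩ {pa, pb} = {pb} := by
      ext y; simp only [Finset.mem_inter, Finset.mem_insert, Finset.mem_singleton]
      exact ⟨fun ⟨hy, e⟩ => e.resolve_left fun e => h (e ▸ hy), fun e => ⟨e ▸ hb, Or.inr e⟩⟩
    rw [this, Finset.card_singleton]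

theorem mem_iff_pi {π : Equiv.Perm GolayPt} (hπ : π pa = pa) (o : Finset GolayPt) :
    pa ∈ π • o ↔ pa ∈ o := by
  conv_lhs => rw [← hπ, ← Equiv.Perm.smul_def, Finset.smul_mem_smul_finset_iff]

theorem mem_iff_pi' {π : Equiv.Perm GolayPt} (hπ : π pb = pb) (o : Finset GolayPt) :
    pb ∈ π • o ↔ pb ∈ o := by
  conv_lhs => rw [← hπ, ← Equiv.Perm.smul_def, Finset.smul_mem_smul_finset_iff]

theorem eq_or_symmDiff_of_sdiff_eq {A C : Finset GolayPt} (hA : ¬ Even22 A) (hC : ¬ Even22 C)
    (h : A \ {pa, pb} = C \ {pa, pb}) : A = C ∨ A = C ∆ {pa, pb} := by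
  unfold Even22 at hA hC
  have key : ∀ y, y ≠ pa → y ≠ pb → (y ∈ A ↔ y ∈ C) := fun y h1 h2 => by
    have := Finset.ext_iff.1 h y
    simpa [h1, h2] using this
  by_cases hAC : (pa ∈ A ↔ pa ∈ C)
  · refine Or.inl (Finset.ext fun y => ?_)
    by_cases h1 : y = pa
    · exact h1 ▸ hAC
    by_cases h2 : y = pb
    · subst h2; tauto
    exact key y h1 h2
  · refine Or.inr (Finset.ext fun y => ?_)
    rw [Finset.mem_symmDiff, Finset.mem_insert, Finset.mem_singleton]
    by_cases h1 : y = pa
    · subst h1; tauto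
    by_cases h2 : y = pb
    · subst h2; tauto
    have := key y h1 h2
    tauto

/-- An octad meeting the deleted pair once goes, up to that pair, to an octad. -/
theorem smul_or_symmDiff_mem {π : Equiv.Perm GolayPt} (ha : π pa = pa) (hb : π pb = pb)
    (heven : ∀ o ∈ octads, Even22 o → π • o ∈ octads) {o : Finset GolayPt} (ho : o ∈ octads)
    (hodd : ¬ Even22 o) : π • o ∈ octads ∨ (π • o) ∆ {pa, pb} ∈ octads := by
  classical
  have hev : ∀ s, Even22 (π • s) ↔ Even22 s := fun s => by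
    unfold Even22; rw [mem_iff_pi ha, mem_iff_pi' hb]
  -- surjectivity on the even octads
  have hsurj : ∀ o' ∈ octads, Even22 o' → ∃ o'' ∈ octads, Even22 o'' ∧ π • o'' = o' := by
    intro o' ho' he'
    let T := {s : Finset GolayPt // s ∈ octads ∧ Even22 s}
    let F : T → T := fun s => ⟨π • s.1, heven _ s.2.1 s.2.2, (hev _).2 s.2.2⟩
    have hF : Function.Injective F := fun s t h =>
      Subtype.ext (smul_left_cancel π (congrArg Subtype.val h))
    obtain ⟨⟨s, hs, hes⟩, e⟩ := Finite.surjective_of_injective hF ⟨o', ho', he'⟩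
    exact ⟨s, hs, hes, congrArg Subtype.val e⟩
  set B := (π • o) \ {pa, pb} with hB
  have hne : ¬ Even22 (π • o) := fun h => hodd ((hev o).1 h)
  have hoc : (π • o).card = 8 := by rw [Finset.card_smul_finset]; exact ho.2
  have hBc : B.card = 7 := by
    have h := Finset.card_sdiff_add_card_inter (π • o) {pa, pb}
    rw [symmDiff_pair_eq hne, hoc] at h
    rw [hB]
    omega
  have hfive : ∀ S ⊆ B, S.card = 5 → ¬ Even22 (octadOf S) := by
    intro S hS hSc he
    obtain ⟨ho', hSo'⟩ := octadOf_spec hSc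
    obtain ⟨o'', ho'', he'', e⟩ := hsurj _ ho' he
    have : o'' = o := by
      refine octad_eq_of_five ho'' ho ?_
      rw [← Finset.card_smul_finset π (o'' ∩ o), Finset.smul_finset_inter, e, ← hSc]
      exact Finset.card_le_card (Finset.subset_inter hSo' (hS.trans Finset.sdiff_subset))
    exact hodd (this ▸ he'')
  obtain ⟨S, hSB, hS⟩ := Finset.exists_subset_card_eq (show 5 ≤ B.card by omega)
  obtain ⟨ho', hSo'⟩ := octadOf_spec hS
  have hoS := hfive S hSB hS
  have hBsub : B ⊆ octadOf S := by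
    by_contra hsub
    obtain ⟨q, hqB, hqo⟩ := Finset.not_subset.1 hsub
    have hqS : q ∉ S := fun h => hqo (hSo' h)
    obtain ⟨s1, hs1, s2, hs2, hs12⟩ := Finset.one_lt_card.1 (show 1 < S.card by omega)
    have key : ∀ s ∈ S, (insert q (S.erase s)).card = 5 ∧ insert q (S.erase s) ⊆ B := by
      intro s hs
      refine ⟨?_, Finset.insert_subset hqB ((Finset.erase_subset _ _).trans hSB)⟩
      rw [Finset.card_insert_of_notMem (fun h => hqS (Finset.mem_of_mem_erase h)),
        Finset.card_erase_of_mem hs, hS]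
    have hpt : ∀ s ∈ S, ∀ w ∈ ({pa, pb} : Finset GolayPt),
        w ∈ octadOf (insert q (S.erase s)) → w ∉ octadOf S := by
      intro s hs w hw hwT hwS
      obtain ⟨hoT, hT⟩ := octadOf_spec (key s hs).1
      refine hqo ((octad_eq_of_five hoT ho' ?_) ▸ hT (Finset.mem_insert_self _ _))
      have hwS' : w ∉ S.erase s := fun h =>
        (Finset.mem_sdiff.1 (hSB (Finset.mem_of_mem_erase h))).2 hw
      calc 5 = (insert w (S.erase s)).card := by
            rw [Finset.card_insert_of_notMem hwS', Finset.card_erase_of_mem hs, hS]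
        _ ≤ _ := Finset.card_le_card (Finset.insert_subset (Finset.mem_inter.2 ⟨hwT, hwS⟩)
            (Finset.subset_inter ((Finset.subset_insert _ _).trans hT)
              ((Finset.erase_subset _ _).trans hSo')))
    have hw1 : ∀ s ∈ S, ∃ w ∈ ({pa, pb} : Finset GolayPt), w ∈ octadOf (insert q (S.erase s)) ∧
        w ∉ octadOf S := by
      intro s hs
      have hne' := hfive _ (key s hs).2 (key s hs).1
      have := symmDiff_pair_eq hne'
      obtain ⟨w, hw⟩ := Finset.card_pos.1 (by omega :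
        0 < (octadOf (insert q (S.erase s)) ∩ ({pa, pb} : Finset GolayPt)).card)
      rw [Finset.mem_inter] at hw
      exact ⟨w, hw.2, hw.1, hpt s hs w hw.2 hw.1⟩
    have hw1' := hw1
    obtain ⟨w, hw, hw1, hwS⟩ := hw1 s1 hs1
    obtain ⟨w', hw', hw2, hw'S⟩ := hw1' s2 hs2
    have hww : w = w' := by
      by_contra hne'
      have heq : ({w, w'} : Finset GolayPt) = {pa, pb} :=
        Finset.eq_of_subset_of_card_le (Finset.insert_subset hw (Finset.singleton_subset_iff.2 hw'))
          (by rw [Finset.card_pair hne', Finset.card_pair (by simp)])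
      have h1 := symmDiff_pair_eq hoS
      rw [← heq, Finset.inter_comm, Finset.card_eq_one] at h1
      obtain ⟨v, hv⟩ := h1
      have hvm := Finset.mem_singleton_self v
      rw [← hv, Finset.mem_inter, Finset.mem_insert, Finset.mem_singleton] at hvm
      obtain ⟨rfl | rfl, hvS⟩ := hvm
      exacts [hwS hvS, hw'S hvS]
    subst hww
    obtain ⟨hoT1, hT1⟩ := octadOf_spec (key s1 hs1).1
    obtain ⟨hoT2, hT2⟩ := octadOf_spec (key s2 hs2).1
    have hT : octadOf (insert q (S.erase s1)) = octadOf (insert q (S.erase s2)) := by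
      refine octad_eq_of_five hoT1 hoT2 ?_
      have hR : (S.erase s1).erase s2 ⊆ S := (Finset.erase_subset _ _).trans (Finset.erase_subset _ _)
      have hwR : w ∉ insert q ((S.erase s1).erase s2) := fun h =>
        (Finset.mem_sdiff.1 (((Finset.insert_subset hqB (hR.trans hSB)) h))).2 hw
      calc 5 = (insert w (insert q ((S.erase s1).erase s2))).card := by
            rw [Finset.card_insert_of_notMem hwR,
              Finset.card_insert_of_notMem (fun h => hqS (hR h)),
              Finset.card_erase_of_mem (Finset.mem_erase.2 ⟨hs12.symm, hs2⟩),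
              Finset.card_erase_of_mem hs1, hS]
        _ ≤ _ := by
          refine Finset.card_le_card (Finset.insert_subset (Finset.mem_inter.2 ⟨hw1, hw2⟩)
            (Finset.insert_subset (Finset.mem_inter.2 ⟨hT1 (Finset.mem_insert_self _ _),
              hT2 (Finset.mem_insert_self _ _)⟩) ?_))
          intro y hy
          obtain ⟨hy2, hy1, hyS⟩ : y ≠ s2 ∧ y ≠ s1 ∧ y ∈ S := by simpa using hy
          exact Finset.mem_inter.2 ⟨hT1 (by simp [hy1, hyS]), hT2 (by simp [hy2, hyS])⟩
    refine hqo ((octad_eq_of_five hoT1 ho' ?_) ▸ hT1 (Finset.mem_insert_self _ _))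
    rw [← hS]
    refine Finset.card_le_card fun y hy => Finset.mem_inter.2 ⟨?_, hSo' hy⟩
    by_cases hy1 : y = s1
    · rw [hT]
      exact hT2 (Finset.mem_insert_of_mem (Finset.mem_erase.2 ⟨hy1 ▸ hs12, hy⟩))
    · exact hT1 (Finset.mem_insert_of_mem (Finset.mem_erase.2 ⟨hy1, hy⟩))
  have hdiff : octadOf S \ {pa, pb} = B := by
    refine (Finset.eq_of_subset_of_card_le (fun y hy => Finset.mem_sdiff.2
      ⟨hBsub hy, (Finset.mem_sdiff.1 hy).2⟩) ?_).symm
    have h := Finset.card_sdiff_add_card_inter (octadOf S) {pa, pb}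
    rw [symmDiff_pair_eq hoS, show (octadOf S).card = 8 from ho'.2] at h
    omega
  rcases eq_or_symmDiff_of_sdiff_eq hoS hne hdiff with e | e
  · exact Or.inl (e ▸ ho')
  · exact Or.inr (e ▸ ho')

/-- Complementary parity: a set meeting the deleted pair once and the same set with the pair
switched cannot both meet a given such set evenly. -/
theorem odd_inter_symmDiff {A C : Finset GolayPt} (hA : ¬ Even22 A)
    (h1 : Even (A ∩ C).card) : ¬ Even (A ∩ (C ∆ {pa, pb})).card := by
  have hd : A ∩ (C ∆ {pa, pb}) = (A ∩ C) ∆ (A ∩ {pa, pb}) := by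
    ext y
    simp only [Finset.mem_inter, Finset.mem_symmDiff]
    tauto
  have h2 := card_symmDiff_add (A ∩ C) (A ∩ {pa, pb})
  rw [symmDiff_pair_eq hA, ← hd] at h2
  rw [Nat.even_iff] at h1 ⊢
  omega

theorem exists_perm_of_fix {β : MulAut ↥Spor.M22} {c : GolayPt} (hca : c ≠ pa) (hcb : c ≠ pb)
    (hst : ∀ h : ↥Spor.M22, β h • c = c ↔ h • c = c) :
    ∃ π ∈ M24, ((π pa = pa ∧ π pb = pb) ∨ (π pa = pb ∧ π pb = pa)) ∧
      ∀ g : ↥Spor.M22, (β g : Equiv.Perm GolayPt) = π * g * π⁻¹ := by
  classical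
  have hex : ∀ p : GolayPt, ∃ g : ↥Spor.M22, p ≠ pa → p ≠ pb → g • c = p := fun p => by
    by_cases hpa : p = pa
    · exact ⟨1, fun h => absurd hpa h⟩
    by_cases hpb : p = pb
    · exact ⟨1, fun _ h => absurd hpb h⟩
    obtain ⟨g, hg⟩ := exists_map_M22 hca hcb hpa hpb
    exact ⟨g, fun _ _ => hg⟩
  choose rep hrep using hex
  have hwd : ∀ g k : ↥Spor.M22, β g • c = β k • c ↔ g • c = k • c := by
    intro g k
    rw [← inv_smul_eq_iff, ← mul_smul, ← map_inv, ← map_mul, hst, mul_smul, inv_smul_eq_iff]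
  have hga : ∀ g : ↥Spor.M22, g • pa = pa := fun g => (apply_M22 g).1
  have hgb : ∀ g : ↥Spor.M22, g • pb = pb := fun g => (apply_M22 g).2.1
  let f : GolayPt → GolayPt := fun p =>
    if p = pa then pa else if p = pb then pb else β (rep p) • c
  have hnea : ∀ g : ↥Spor.M22, g • c ≠ pa := fun g e =>
    hca (smul_left_cancel g (e.trans (hga g).symm))
  have hneb : ∀ g : ↥Spor.M22, g • c ≠ pb := fun g e =>
    hcb (smul_left_cancel g (e.trans (hgb g).symm))
  have hab : pa ≠ pb := by simp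
  have hfa : f pa = pa := if_pos rfl
  have hfb : f pb = pb := by simp [f]
  have hfo : ∀ p, p ≠ pa → p ≠ pb → f p = β (rep p) • c := fun p h1 h2 => by simp [f, h1, h2]
  have hfinj : Function.Injective f := by
    intro p q h
    by_cases hp1 : p = pa
    · subst hp1
      rw [hfa] at h
      by_contra hq
      by_cases hq2 : q = pb
      · subst hq2; rw [hfb] at h; exact hab h
      · rw [hfo q (Ne.symm hq) hq2] at h; exact hnea _ h.symm
    by_cases hp2 : p = pb
    · subst hp2
      rw [hfb] at h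
      by_contra hq
      by_cases hq1 : q = pa
      · subst hq1; rw [hfa] at h; exact hab h.symm
      · rw [hfo q hq1 (Ne.symm hq)] at h; exact hneb _ h.symm
    rw [hfo p hp1 hp2] at h
    by_cases hq1 : q = pa
    · subst hq1; rw [hfa] at h; exact absurd h (hnea _)
    by_cases hq2 : q = pb
    · subst hq2; rw [hfb] at h; exact absurd h (hneb _)
    rw [hfo q hq1 hq2] at h
    rw [← hrep p hp1 hp2, ← hrep q hq1 hq2]
    exact (hwd _ _).1 h
  let π : Equiv.Perm GolayPt := Equiv.ofBijective f (Finite.injective_iff_bijective.1 hfinj)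
  have hπa : π pa = pa := hfa
  have hπb : π pb = pb := hfb
  have hπ : ∀ (g : ↥Spor.M22) (p : GolayPt), π (g • p) = β g • π p := by
    intro g p
    by_cases hp1 : p = pa
    · rw [hp1, hga, hπa, hga]
    by_cases hp2 : p = pb
    · rw [hp2, hgb, hπb, hgb]
    have h1 : g • p ≠ pa := fun e => hp1 (smul_left_cancel g (e.trans (hga g).symm))
    have h2 : g • p ≠ pb := fun e => hp2 (smul_left_cancel g (e.trans (hgb g).symm))
    show f (g • p) = β g • f p
    rw [hfo _ h1 h2, hfo _ hp1 hp2, ← mul_smul, ← map_mul, hwd, mul_smul, hrep _ h1 h2,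
      hrep _ hp1 hp2]
  -- octads through both points
  have hboth : ∀ o ∈ octads, pa ∈ o → pb ∈ o → π • o ∈ octads := by
    intro o ho hao hbo
    set B := π • o with hB
    have hBc : B.card = 8 := by rw [hB, Finset.card_smul_finset]; exact ho.2
    obtain ⟨S, hPS, hSB, hS⟩ := Finset.exists_subsuperset_card_eq (n := 5)
      (Finset.insert_subset ((mem_iff_pi hπa o).2 hao)
        (Finset.singleton_subset_iff.2 ((mem_iff_pi' hπb o).2 hbo)) : ({pa, pb} : Finset _) ⊆ B)
      (by rw [Finset.card_pair hab]; norm_num) (by omega)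
    have haS : pa ∈ S := hPS (by simp)
    have hbS : pb ∈ S := hPS (by simp)
    obtain ⟨ho', hSo'⟩ := octadOf_spec hS
    suffices hBo : B ⊆ octadOf S by
      rw [Finset.eq_of_subset_of_card_le hBo (by rw [hBc, show (octadOf S).card = 8 from ho'.2])]
      exact ho'
    by_contra hsub
    obtain ⟨q, hqB, hqo⟩ := Finset.not_subset.1 hsub
    have hout : (octadOf S)ᶜ ⊆ B := by
      intro w hw
      rw [Finset.mem_compl] at hw
      obtain ⟨g, hg, hgq⟩ := exists_octad_point ho' hqo hw
      obtain ⟨hgM, hgfix⟩ := mem_octadFix.1 hg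
      let gM : ↥Spor.M22 := ⟨g, ⟨hgM, hgfix _ (hSo' haS)⟩, hgfix _ (hSo' hbS)⟩
      set k : ↥Spor.M22 := β.symm gM with hk
      have hkg : β k = gM := β.apply_symm_apply _
      have hko : (k : Equiv.Perm GolayPt) • o = o := by
        refine octad_eq_of_five (smul_mem_octads (apply_M22 k).2.2 ho) ho ?_
        rw [← hS, ← Finset.card_smul_finset π⁻¹ S]
        refine Finset.card_le_card fun y hy => ?_
        rw [Finset.mem_inv_smul_finset_iff, Equiv.Perm.smul_def] at hy
        have hyo : y ∈ o := by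
          have := hSB hy
          rwa [hB, ← Equiv.Perm.smul_def, Finset.smul_mem_smul_finset_iff] at this
        have hky : k • y = y := π.injective (by rw [hπ, hkg]; exact hgfix _ (hSo' hy))
        refine Finset.mem_inter.2 ⟨?_, hyo⟩
        have h2 : (k : Equiv.Perm GolayPt) • y ∈ (k : Equiv.Perm GolayPt) • o :=
          Finset.smul_mem_smul_finset hyo
        rwa [show (k : Equiv.Perm GolayPt) • y = y from hky] at h2
      rw [hB, Finset.mem_smul_finset] at hqB
      obtain ⟨y, hy, rfl⟩ := hqB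
      have : g (π • y) = π (k • y) := by rw [hπ, hkg]; rfl
      rw [← hgq, this, hB]
      refine Finset.smul_mem_smul_finset (a := π) ?_
      rw [← hko]
      exact Finset.smul_mem_smul_finset hy
    have := Finset.card_le_card hout
    rw [Finset.card_compl, hBc, show (octadOf S).card = 8 from ho'.2] at this
    simp at this
  have heven : ∀ o ∈ octads, Even22 o → π • o ∈ octads := by
    intro o ho he
    by_cases hao : pa ∈ o
    · exact hboth o ho hao (he.1 hao)
    have hbo : pb ∉ o := fun h => hao (he.2 h)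
    have hoc : o.card = 8 := ho.2
    obtain ⟨T, hTo, hT⟩ := Finset.exists_subset_card_eq (show 3 ≤ o.card by omega)
    obtain ⟨ho1, hTo1⟩ := octadOf_spec (s := insert pa (insert pb T)) (by
      rw [Finset.card_insert_of_notMem (by simp [show pa ∉ T from fun h => hao (hTo h)]),
        Finset.card_insert_of_notMem (fun h => hbo (hTo h)), hT])
    set o1 := octadOf (insert pa (insert pb T))
    have h3 : 3 ≤ (o1 ∩ o).card := hT ▸ Finset.card_le_card (Finset.subset_inter
      (((Finset.subset_insert _ _).trans (Finset.subset_insert _ _)).trans hTo1) hTo)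
    have ha1 : pa ∈ o1 := hTo1 (by simp)
    have hb1 : pb ∈ o1 := hTo1 (by simp)
    have he4 : (o1 ∩ o).card = 4 := by
      rcases octad_inter_octad ho1 ho with h | h | h | h
      · omega
      · omega
      · exact h
      · exact absurd (h ▸ ha1) hao
    have ho2 : o1 ∆ o ∈ octads := by
      refine ⟨symmDiff_mem ho1.1 ho.1, ?_⟩
      have h2 := card_symmDiff_add o1 o
      rw [he4, hoc, show o1.card = 8 from ho1.2] at h2
      show (o1 ∆ o).card = 8
      omega
    have hp1 := hboth o1 ho1 ha1 hb1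
    have hp2 := hboth _ ho2 (Finset.mem_symmDiff.2 (Or.inl ⟨ha1, hao⟩))
      (Finset.mem_symmDiff.2 (Or.inl ⟨hb1, hbo⟩))
    refine ⟨?_, by rw [Finset.card_smul_finset]; exact hoc⟩
    have := symmDiff_mem hp1.1 hp2.1
    rwa [← smul_symmDiff, symmDiff_symmDiff_cancel_left] at this
  -- choice of the extension
  set σ : Equiv.Perm GolayPt := Equiv.swap pa pb with hσ
  have hswap : ∀ Y : Finset GolayPt, σ • Y = if Even22 Y then Y else Y ∆ {pa, pb} := by
    intro Y
    ext y
    rw [show σ = σ⁻¹ by rw [hσ, Equiv.swap_inv], Finset.mem_inv_smul_finset_iff, Equiv.Perm.smul_def, hσ]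
    unfold Even22
    by_cases hya : y = pa
    · subst hya
      rw [Equiv.swap_apply_left]
      split_ifs with h <;> simp [Finset.mem_symmDiff, h] <;> tauto
    by_cases hyb : y = pb
    · subst hyb
      rw [Equiv.swap_apply_right]
      split_ifs with h <;> simp [Finset.mem_symmDiff, h] <;> tauto
    rw [Equiv.swap_apply_of_ne_of_ne hya hyb]
    split_ifs with h <;> simp [Finset.mem_symmDiff, hya, hyb]
  have hcomm : ∀ (g : ↥Spor.M22) (y : GolayPt), σ (g • y) = g • σ y := by
    intro g y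
    have := Equiv.swap_apply_apply (g : Equiv.Perm GolayPt) pa pb
    rw [show (g : Equiv.Perm GolayPt) pa = pa from hga g,
      show (g : Equiv.Perm GolayPt) pb = pb from hgb g] at this
    show σ ((g : Equiv.Perm GolayPt) y) = (g : Equiv.Perm GolayPt) (σ y)
    rw [hσ]
    conv_lhs => rw [this]
    simp
  obtain ⟨g0, hg0, hga0, hgb0⟩ : ∃ o ∈ octads, pa ∈ o ∧ pb ∉ o := by
    obtain ⟨o, ho⟩ : octads.Nonempty := Set.nonempty_of_ncard_ne_zero (by rw [ncard_octads]; norm_num)
    have hoc : o.card = 8 := ho.2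
    obtain ⟨x, hx⟩ := Finset.card_pos.1 (show 0 < o.card by omega)
    obtain ⟨y, -, hy⟩ := Finset.exists_mem_notMem_of_card_lt_card
      (show o.card < (Finset.univ : Finset GolayPt).card by simp [hoc])
    obtain ⟨t, ht, htx, hty⟩ := exists_map_two (a := x) (b := y) (fun e => hy (e ▸ hx)) hab
    refine ⟨t • o, smul_mem_octads ht ho, htx ▸ Finset.smul_mem_smul_finset hx, ?_⟩
    rw [← hty, ← Equiv.Perm.smul_def, Finset.smul_mem_smul_finset_iff]
    exact hy
  have hodd0 : ¬ Even22 g0 := fun h => hgb0 (h.1 hga0)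
  have hev : ∀ s, Even22 (π • s) ↔ Even22 s := fun s => by
    unfold Even22; rw [mem_iff_pi hπa, mem_iff_pi' hπb]
  obtain ⟨π', hπ'0, hπ'1, hπ'2, hπ'3⟩ : ∃ π' : Equiv.Perm GolayPt, π' • g0 ∈ octads ∧
      ((π' pa = pa ∧ π' pb = pb) ∨ (π' pa = pb ∧ π' pb = pa)) ∧
      (∀ (g : ↥Spor.M22) (p : GolayPt), π' (g • p) = β g • π' p) ∧
      (∀ o, Even22 o → π' • o = π • o) ∧ (∀ o, ¬ Even22 o →
        (π' • o = π • o ∨ π' • o = (π • o) ∆ {pa, pb})) := by
    rcases smul_or_symmDiff_mem hπa hπb heven hg0 hodd0 with h | h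
    · exact ⟨π, h, Or.inl ⟨hπa, hπb⟩, hπ, fun _ _ => rfl, fun _ _ => Or.inl rfl⟩
    · refine ⟨σ * π, ?_, Or.inr ⟨?_, ?_⟩, fun g p => ?_, fun o he => ?_, fun o he => ?_⟩
      · rw [mul_smul, hswap, if_neg (fun e => hodd0 ((hev g0).1 e))]
        exact h
      · rw [Equiv.Perm.mul_apply, hπa, hσ, Equiv.swap_apply_left]
      · rw [Equiv.Perm.mul_apply, hπb, hσ, Equiv.swap_apply_right]
      · rw [Equiv.Perm.mul_apply, hπ, hcomm]; rfl
      · rw [mul_smul, hswap, if_pos ((hev o).2 he)]
      · exact Or.inr (by rw [mul_smul, hswap, if_neg (fun e => he ((hev o).1 e))])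
  obtain ⟨hπ'3, hπ'4⟩ := hπ'3
  have hoct : ∀ o ∈ octads, π' • o ∈ octads := by
    intro o ho
    by_cases he : Even22 o
    · rw [hπ'3 o he]; exact heven o ho he
    by_contra hnot
    have hwrong : (π' • o) ∆ {pa, pb} ∈ octads := by
      rcases smul_or_symmDiff_mem hπa hπb heven ho he with h | h <;>
        rcases hπ'4 o he with e | e
      · exact absurd (e ▸ h) hnot
      · rw [e, symmDiff_symmDiff_cancel_right]; exact h
      · rw [e]; exact h
      · exact absurd (e ▸ h) hnot
    have hA : ¬ Even22 (π' • g0) := by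
      rcases hπ'4 g0 hodd0 with e | e <;> rw [e]
      · exact fun h => hodd0 ((hev g0).1 h)
      · intro h
        apply hodd0
        rw [← hev g0]
        unfold Even22 at h ⊢
        simp only [Finset.mem_symmDiff, Finset.mem_insert, Finset.mem_singleton] at h
        tauto
    refine odd_inter_symmDiff (C := π' • o) hA ?_ (inter_even hπ'0.1 hwrong.1)
    rw [← Finset.smul_finset_inter, Finset.card_smul_finset]
    exact inter_even hg0.1 ho.1
  refine ⟨π', mem_M24_of_octads hoct, hπ'1, fun g => Equiv.ext fun p => ?_⟩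
  have h := hπ'2 g (π'⁻¹ p)
  rw [Equiv.Perm.coe_inv, Equiv.apply_symm_apply] at h
  exact h.symm

theorem exists_perm_of_mulAut_M22 (α : MulAut ↥Spor.M22) :
    ∃ π ∈ M24, ((π pa = pa ∧ π pb = pb) ∨ (π pa = pb ∧ π pb = pa)) ∧
      ∀ g : ↥Spor.M22, (α g : Equiv.Perm GolayPt) = π * g * π⁻¹ := by
  obtain ⟨c, hc⟩ : ∃ c : GolayPt, c ≠ pa ∧ c ≠ pb :=
    ⟨some 1, by simp, fun h => absurd (Option.some.inj h) (by decide)⟩
  obtain ⟨d, hda, hdb, hd⟩ := exists_eq_stabilizer_M22
    (H := (stabilizer Spor.M22 c).map α.toMonoidHom)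
    (by rw [← Nat.card_congr (Subgroup.equivMapOfInjective _ α.toMonoidHom α.injective).toEquiv,
      natCard_stabilizer_M22 hc.1 hc.2])
  obtain ⟨gg, hgg⟩ := exists_map_M22 hda hdb hc.1 hc.2
  obtain ⟨π, hπM, hπ, hπβ⟩ := exists_perm_of_fix (β := MulAut.conj gg * α) hc.1 hc.2 (fun h => by
    have h1 : α h ∈ stabilizer Spor.M22 d ↔ h ∈ stabilizer Spor.M22 c := by
      rw [← hd]
      exact Subgroup.mem_map_iff_mem α.injective
    rw [mem_stabilizer_iff, mem_stabilizer_iff] at h1
    rw [← h1, MulAut.mul_apply, MulAut.conj_apply, mul_smul, mul_smul, ← hgg, inv_smul_smul]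
    exact smul_left_cancel_iff _)
  obtain ⟨ha, hb, hM⟩ := apply_M22 gg⁻¹
  refine ⟨(gg⁻¹ : ↥Spor.M22) * π, mul_mem hM hπM, ?_, fun g => ?_⟩
  · rcases hπ with ⟨h1, h2⟩ | ⟨h1, h2⟩
    · exact Or.inl ⟨by rw [Equiv.Perm.mul_apply, h1, ha], by rw [Equiv.Perm.mul_apply, h2, hb]⟩
    · exact Or.inr ⟨by rw [Equiv.Perm.mul_apply, h1, hb], by rw [Equiv.Perm.mul_apply, h2, ha]⟩
  · have h := hπβ g
    rw [MulAut.mul_apply, MulAut.conj_apply, Subgroup.coe_mul, Subgroup.coe_mul,
      Subgroup.coe_inv] at h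
    rw [Subgroup.coe_inv, mul_inv_rev, inv_inv]
    calc (α g : Equiv.Perm GolayPt) = (gg : Equiv.Perm GolayPt)⁻¹ *
          ((gg : Equiv.Perm GolayPt) * (α g : Equiv.Perm GolayPt) * (gg : Equiv.Perm GolayPt)⁻¹) *
            (gg : Equiv.Perm GolayPt) := by group
      _ = _ := by rw [h]; group

theorem mem_M22_of_fix {g : Equiv.Perm GolayPt} (hg : g ∈ M24) (ha : g pa = pa) (hb : g pb = pb) :
    g ∈ Spor.M22 := ⟨⟨hg, ha⟩, hb⟩

/-- A permutation in M24 swapping the deleted points does not act as an inner automorphism. -/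
theorem not_inner_of_swap {π : Equiv.Perm GolayPt} (hπ : π ∈ M24) (ha : π pa = pb) (hb : π pb = pa)
    (k : ↥Spor.M22) : ¬ ∀ g : ↥Spor.M22,
      π * (g : Equiv.Perm GolayPt) * π⁻¹ = (k : Equiv.Perm GolayPt) * g * (k : Equiv.Perm GolayPt)⁻¹ := by
  classical
  intro h
  obtain ⟨hka, hkb, hkM⟩ := apply_M22 k
  set z : Equiv.Perm GolayPt := (k : Equiv.Perm GolayPt)⁻¹ * π with hz
  have hzM : z ∈ M24 := mul_mem (inv_mem hkM) hπ
  have hza : z pa = pb := by
    rw [hz, Equiv.Perm.mul_apply, ha, Equiv.Perm.inv_eq_iff_eq, hkb]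
  have hzb : z pb = pa := by
    rw [hz, Equiv.Perm.mul_apply, hb, Equiv.Perm.inv_eq_iff_eq, hka]
  have hc : ∀ (g : ↥Spor.M22) (y : GolayPt), z ((g : Equiv.Perm GolayPt) y) = (g : Equiv.Perm GolayPt) (z y) := by
    intro g y
    have e : z * (g : Equiv.Perm GolayPt) = (g : Equiv.Perm GolayPt) * z := by
      calc z * (g : Equiv.Perm GolayPt) = (k : Equiv.Perm GolayPt)⁻¹ *
            (π * (g : Equiv.Perm GolayPt) * π⁻¹) * π := by rw [hz]; group
        _ = _ := by rw [h g, hz]; group
    exact Equiv.Perm.ext_iff.1 e y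
  have hfix : ∀ d, d ≠ pa → d ≠ pb → z d = d := by
    intro d hda hdb
    by_contra hne
    have hea : z d ≠ pa := fun e => hdb (z.injective (e.trans hzb.symm))
    have heb : z d ≠ pb := fun e => hda (z.injective (e.trans hza.symm))
    obtain ⟨f, -, hf⟩ := Finset.exists_mem_notMem_of_card_lt_card
      (show ({pa, pb, d, z d} : Finset GolayPt).card < (Finset.univ : Finset GolayPt).card by
        refine lt_of_le_of_lt Finset.card_le_four ?_
        simp)
    simp only [Finset.mem_insert, Finset.mem_singleton, not_or] at hf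
    obtain ⟨g, hg, g1, g2, g3, g4⟩ := exists_map_four (a := pa) (b := pb) (c := d) (d := z d)
      (a' := pa) (b' := pb) (c' := d) (d' := f)
      (by simp [hda.symm, hdb.symm, hea.symm, heb.symm, Ne.symm hne])
      (by simp [hda.symm, hdb.symm, Ne.symm hf.1, Ne.symm hf.2.1, Ne.symm hf.2.2.1])
    have := hc ⟨g, mem_M22_of_fix hg g1 g2⟩ d
    simp only [g3, g4] at this
    exact hf.2.2.2 this.symm
  have hzs : z = Equiv.swap pa pb := by
    ext y
    by_cases hya : y = pa
    · rw [hya, hza, Equiv.swap_apply_left]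
    by_cases hyb : y = pb
    · rw [hyb, hzb, Equiv.swap_apply_right]
    rw [hfix y hya hyb, Equiv.swap_apply_of_ne_of_ne hya hyb]
  haveI : Fact (Nat.Prime 2) := ⟨Nat.prime_two⟩
  have ho : orderOf z = 2 := orderOf_eq_prime (by rw [hzs, sq, Equiv.swap_mul_self])
    (fun e => by rw [e] at hza; simp at hza)
  have h9 := card_fixed_lt_nine (by norm_num) hzM ho
  rw [hzs, Finset.card_compl, Equiv.Perm.support_swap (by simp), Finset.card_pair (by simp)] at h9
  simp at h9

/-- Conjugation by an element of M24 normalising M22. -/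
theorem natCard_out_M22 : Nat.card (Cfsg.Out ↥Spor.M22) = 2 := by
  classical
  rw [← Subgroup.index_eq_card, Subgroup.index_eq_two_iff]
  obtain ⟨t, htM, hta, htb⟩ := exists_map_two (a := pa) (b := pb) (c := pb) (d := pa) (by simp) (by simp)
  have hmem : ∀ g : ↥Spor.M22, t * (g : Equiv.Perm GolayPt) * t⁻¹ ∈ Spor.M22 := fun g => by
    obtain ⟨ga, gb, gM⟩ := apply_M22 g
    refine mem_M22_of_fix (mul_mem (mul_mem htM gM) (inv_mem htM)) ?_ ?_
    · rw [Equiv.Perm.mul_apply, Equiv.Perm.mul_apply, show t⁻¹ pa = pb from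
        Equiv.Perm.inv_eq_iff_eq.2 htb.symm, gb, htb]
    · rw [Equiv.Perm.mul_apply, Equiv.Perm.mul_apply, show t⁻¹ pb = pa from
        Equiv.Perm.inv_eq_iff_eq.2 hta.symm, ga, hta]
  have hmem' : ∀ g : ↥Spor.M22, t⁻¹ * (g : Equiv.Perm GolayPt) * t ∈ Spor.M22 := fun g => by
    obtain ⟨ga, gb, gM⟩ := apply_M22 g
    refine mem_M22_of_fix (mul_mem (mul_mem (inv_mem htM) gM) htM) ?_ ?_
    · rw [Equiv.Perm.mul_apply, Equiv.Perm.mul_apply, hta, gb, Equiv.Perm.inv_eq_iff_eq]
      exact hta.symm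
    · rw [Equiv.Perm.mul_apply, Equiv.Perm.mul_apply, htb, ga, Equiv.Perm.inv_eq_iff_eq]
      exact htb.symm
  let τ : MulAut ↥Spor.M22 :=
    { toFun := fun g => ⟨_, hmem g⟩
      invFun := fun g => ⟨_, hmem' g⟩
      left_inv := fun g => Subtype.ext (by show t⁻¹ * (t * g * t⁻¹) * t = _; group)
      right_inv := fun g => Subtype.ext (by show t * (t⁻¹ * g * t) * t⁻¹ = _; group)
      map_mul' := fun g h => Subtype.ext (by
        show t * ((g : Equiv.Perm GolayPt) * h) * t⁻¹ = t * g * t⁻¹ * (t * h * t⁻¹); group) }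
  have hinn : ∀ (α : MulAut ↥Spor.M22) (π : Equiv.Perm GolayPt), π ∈ M24 →
      (∀ g : ↥Spor.M22, (α g : Equiv.Perm GolayPt) = π * g * π⁻¹) →
      (π pa = pa ∧ π pb = pb → α ∈ Inn ↥Spor.M22) ∧
      (π pa = pb ∧ π pb = pa → α ∉ Inn ↥Spor.M22) := by
    intro α π hπ hα
    refine ⟨fun h => ⟨⟨π, mem_M22_of_fix hπ h.1 h.2⟩, ?_⟩, fun h => ?_⟩
    · refine MulEquiv.ext fun g => Subtype.ext ?_
      rw [hα g]
      rfl
    · rintro ⟨k, rfl⟩
      exact not_inner_of_swap hπ h.1 h.2 k fun g => (hα g).symm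
  refine ⟨τ, fun α => ?_⟩
  obtain ⟨π, hπ, hcase, hα⟩ := exists_perm_of_mulAut_M22 α
  have hατ : ∀ g : ↥Spor.M22, ((α * τ) g : Equiv.Perm GolayPt) = (π * t) * g * (π * t)⁻¹ := by
    intro g
    rw [MulAut.mul_apply, hα]
    show π * (t * g * t⁻¹) * π⁻¹ = _
    group
  rcases hcase with ⟨h1, h2⟩ | ⟨h1, h2⟩
  · exact Or.inr ⟨(hinn α π hπ hα).1 ⟨h1, h2⟩, (hinn _ _ (mul_mem hπ htM) hατ).2
      ⟨by rw [Equiv.Perm.mul_apply, hta, h2], by rw [Equiv.Perm.mul_apply, htb, h1]⟩⟩
  · exact Or.inl ⟨(hinn _ _ (mul_mem hπ htM) hατ).1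
      ⟨by rw [Equiv.Perm.mul_apply, hta, h2], by rw [Equiv.Perm.mul_apply, htb, h1]⟩,
      (hinn α π hπ hα).2 ⟨h1, h2⟩⟩

end Cfsg.Agent.Golay
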