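import Cfsg.Statements.S1058
import Cfsg.Agent.S1060
import Cfsg.Agent.Lib.Chev.Matrix

set_option autoImplicit false

namespace Cfsg.Agent.Golay.B2Two

open Cfsg.Lie Matrix
open Cfsg.Lie.ChevalleyDatum

abbrev I := chevB2.Idx
abbrev M2 := Matrix I I (ZMod 2)

def mkV (h : List (ZMod 2)) (l : List (ZMod 2)) : I → ZMod 2 :=
  Sum.elim (fun i => h.getD i.val 0) (fun u => l.getD u.val 0)

def w : I → ZMod 2 := mkV [1, 0] []

/-- six vectors whose classes modulo `w` are permuted by B₂(2). -/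
def v : Fin 6 → I → ZMod 2 :=
  ![mkV [0, 1] [0, 0, 1, 0, 0, 1, 0, 0], mkV [0, 1] [0, 1, 1, 0, 0, 1, 0, 0],
    mkV [0, 1] [0, 1, 0, 0, 0, 0, 1, 0], mkV [0, 1] [0, 1, 1, 0, 0, 0, 1, 0],
    mkV [0, 1] [0, 1, 0, 0, 0, 1, 1, 0], mkV [0, 1] [0, 0, 1, 0, 0, 1, 1, 0]]

theorem v_inj : ∀ i j : Fin 6, ∀ c d : ZMod 2, v i + c • w = v j + d • w → i = j := by
  decide +kernel

def Moves (M : M2) (π : Fin 6 → Fin 6) : Prop :=
  M *ᵥ w = w ∧ ∀ i, ∃ c : ZMod 2, M *ᵥ v i = v (π i) + c • w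

theorem Moves.uniq {M : M2} {π ρ : Fin 6 → Fin 6} (h : Moves M π) (h' : Moves M ρ) : π = ρ := by
  funext i
  obtain ⟨c, hc⟩ := h.2 i
  obtain ⟨d, hd⟩ := h'.2 i
  exact v_inj _ _ c d (hc.symm.trans hd)

theorem Moves.one : Moves 1 id :=
  ⟨Matrix.one_mulVec _, fun i => ⟨0, by rw [Matrix.one_mulVec, zero_smul, add_zero]; rfl⟩⟩

theorem Moves.mul {M N : M2} {π ρ : Fin 6 → Fin 6} (hM : Moves M π) (hN : Moves N ρ) :
    Moves (M * N) (π ∘ ρ) := by
  refine ⟨by rw [← Matrix.mulVec_mulVec, hN.1, hM.1], fun i => ?_⟩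
  obtain ⟨c, hc⟩ := hN.2 i
  obtain ⟨d, hd⟩ := hM.2 (ρ i)
  refine ⟨d + c, ?_⟩
  rw [← Matrix.mulVec_mulVec, hc, Matrix.mulVec_add, Matrix.mulVec_smul, hd, hM.1, add_smul,
    Function.comp_apply, add_assoc]

def piR (r : Fin 8) : Fin 6 → Fin 6 :=
  ![![1, 0, 3, 2, 5, 4], ![1, 0, 2, 3, 4, 5], ![0, 1, 3, 2, 4, 5], ![1, 0, 4, 5, 2, 3],
    ![5, 4, 3, 2, 1, 0], ![0, 1, 4, 3, 2, 5], ![5, 1, 2, 3, 4, 0], ![5, 3, 4, 1, 2, 0]] r

theorem moves_gen : ∀ r : Fin 8, ∀ t : ZMod 2,
    (chevB2.xMat (ZMod 2) r t *ᵥ w = w) ∧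
      ∀ i : Fin 6, ∃ c : ZMod 2,
        chevB2.xMat (ZMod 2) r t *ᵥ v i = v (if t = 0 then i else piR r i) + c • w := by
  decide +kernel

theorem moves_gen' (r : Fin 8) (t : ZMod 2) :
    Moves (chevB2.xMat (ZMod 2) r t) (fun i => if t = 0 then i else piR r i) := moves_gen r t

theorem exists_moves {g : GL I (ZMod 2)} (hg : g ∈ chevB2.group (ZMod 2)) :
    ∃ π, Moves (g : M2) π := by
  have hm : g ∈ (chevB2.group (ZMod 2)).toSubmonoid := hg
  rw [ChevalleyDatum.group, Subgroup.closure_toSubmonoid_of_finite] at hm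
  clear hg
  induction hm using Submonoid.closure_induction with
  | mem x hx => obtain ⟨r, t, ht⟩ := hx; exact ⟨_, ht ▸ moves_gen' r t⟩
  | one => exact ⟨_, Moves.one⟩
  | mul a b _ _ ha hb => obtain ⟨π, h⟩ := ha; obtain ⟨ρ, h'⟩ := hb; exact ⟨_, h.mul h'⟩

noncomputable def act (g : chevB2.group (ZMod 2)) : Fin 6 → Fin 6 := (exists_moves g.2).choose

theorem act_spec (g : chevB2.group (ZMod 2)) : Moves ((g : GL I (ZMod 2)) : M2) (act g) :=
  (exists_moves g.2).choose_spec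

noncomputable instance : MulAction (chevB2.group (ZMod 2)) (Fin 6) where
  smul g i := act g i
  one_smul i := congrFun ((act_spec 1).uniq Moves.one) i
  mul_smul g h i := congrFun ((act_spec (g * h)).uniq ((act_spec g).mul (act_spec h))) i

noncomputable def phi : chevB2.group (ZMod 2) →* Equiv.Perm (Fin 6) := MulAction.toPermHom _ _

theorem phi_apply {g : chevB2.group (ZMod 2)} {π : Fin 6 → Fin 6}
    (h : Moves ((g : GL I (ZMod 2)) : M2) π) (i : Fin 6) : phi g i = π i :=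
  congrFun ((act_spec g).uniq h) i

theorem card_two : Nat.card (chevB2.group (ZMod 2)) = 720 := by
  have h := Cfsg.Agent.S1060.result (F := ZMod 2) (q := 2) (ZMod.card 2)
  simpa using h

/-- the root element `x_r(1)`. -/
noncomputable def gen (r : Fin 8) : chevB2.group (ZMod 2) :=
  if h : ∃ g : GL I (ZMod 2), (g : M2) = chevB2.xMat (ZMod 2) r 1 then
    ⟨h.choose, Subgroup.subset_closure ⟨r, 1, h.choose_spec⟩⟩
  else 1

theorem xMat_sq : ∀ r : Fin 8, chevB2.xMat (ZMod 2) r 1 * chevB2.xMat (ZMod 2) r 1 = 1 := by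
  decide +kernel

theorem phi_gen (r : Fin 8) (i : Fin 6) : phi (gen r) i = piR r i := by
  have h : ∃ g : GL I (ZMod 2), (g : M2) = chevB2.xMat (ZMod 2) r 1 :=
    ⟨⟨_, _, xMat_sq r, xMat_sq r⟩, rfl⟩
  have h' : ((gen r : GL I (ZMod 2)) : M2) = chevB2.xMat (ZMod 2) r 1 := by
    rw [gen, dif_pos h]; exact h.choose_spec
  have := phi_apply (g := gen r) (π := fun j => if (1 : ZMod 2) = 0 then j else piR r j)
    (h' ▸ moves_gen' r 1) i
  simpa using this

def permR (r : Fin 8) : Equiv.Perm (Fin 6) :=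
  ⟨piR r, piR r, fun i => by revert r i; decide, fun i => by revert r i; decide⟩

theorem phi_gen' (r : Fin 8) : phi (gen r) = permR r := Equiv.ext (phi_gen r)

theorem phi_bijective : Function.Bijective phi := by
  have hs : Function.Surjective phi := by
    rw [← MonoidHom.range_eq_top]
    have hm : ∀ r, permR r ∈ phi.range := fun r => ⟨gen r, phi_gen' r⟩
    -- product of the transpositions along the path 1-0-5-4-2-3
    let σ : Equiv.Perm (Fin 6) :=
      permR 1 * permR 6 * (permR 0 * permR 1 * permR 2) * permR 5 * permR 2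
    have hσ : σ.IsCycle :=
      ⟨0, by decide +kernel, fun y _ => ⟨((List.range 6).find? fun k => decide ((σ ^ k) 0 = y)).getD 0, by
        rw [zpow_natCast]; revert y; decide +kernel⟩⟩
    have hsupp : σ.support = Finset.univ := by decide +kernel
    have hsw : (Equiv.swap (1 : Fin 6) 0) = permR 1 := by decide +kernel
    have hσ1 : σ 1 = 0 := by decide +kernel
    have hσm : σ ∈ phi.range :=
      mul_mem (mul_mem (mul_mem (mul_mem (hm 1) (hm 6)) (mul_mem (mul_mem (hm 0) (hm 1)) (hm 2))) (hm 5)) (hm 2)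
    apply top_unique
    rw [← Equiv.Perm.closure_cycle_adjacent_swap hσ hsupp 1, Subgroup.closure_le, hσ1, hsw]
    rintro x (rfl | rfl)
    · exact hσm
    · exact hm 1
  have : Finite (chevB2.group (ZMod 2)) := inferInstance
  refine (Nat.bijective_iff_surjective_and_card _).2 ⟨hs, ?_⟩
  rw [card_two, Nat.card_eq_fintype_card, Fintype.card_perm]
  rfl

theorem group_map {R S : Type*} [Field R] [Field S] (e : R ≃+* S) :
    Nonempty (chevB2.group R ≃* chevB2.group S) := by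
  let E : GL I R ≃* GL I S := Units.mapEquiv e.mapMatrix.toMulEquiv
  have hx : ∀ (r : Fin chevB2.nroots) (t : R), (chevB2.xMat R r t).map e = chevB2.xMat S r (e t) := by
    intro r t
    have hr : r.val < chevB2.nroots := r.isLt
    have h1 := Cfsg.Agent.Chev.x_eq_xR chevB2 hr t
    have h2 := Cfsg.Agent.Chev.x_eq_xR chevB2 hr (e t)
    simp only [ChevalleyDatum.x, dif_pos hr] at h1 h2
    rw [h1, h2]
    exact Cfsg.Agent.Chev.xR_map chevB2 (e : R →+* S) r.val t
  have heq : (chevB2.group R).map E.toMonoidHom = chevB2.group S := by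
    rw [ChevalleyDatum.group, ChevalleyDatum.group, MonoidHom.map_closure]
    congr 1
    ext g
    constructor
    · rintro ⟨a, ⟨r, t, ht⟩, rfl⟩
      refine ⟨r, e t, ?_⟩
      rw [← hx r t, ← ht]; rfl
    · rintro ⟨r, t, ht⟩
      refine ⟨E.symm g, ⟨r, e.symm t, ?_⟩, E.apply_symm_apply g⟩
      apply (Matrix.map_injective e.injective)
      show ((E.symm g : GL I R) : Matrix I I R).map e = (chevB2.xMat R r (e.symm t)).map e
      rw [hx, e.apply_symm_apply, ← ht]
      exact congrArg Units.val (E.apply_symm_apply g)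
  exact ⟨(E.subgroupMap _).trans (MulEquiv.subgroupCongr heq)⟩

theorem main {F : Type*} [Field F] [Fintype F] (hF : Fintype.card F = 2) :
    Nonempty (↥(chevB2.group F) ≃* Equiv.Perm (Fin 6)) := by
  obtain ⟨e⟩ := group_map (ZMod.ringEquivOfPrime F Nat.prime_two hF).symm
  exact ⟨e.trans (MulEquiv.ofBijective phi phi_bijective)⟩

end Cfsg.Agent.Golay.B2Two
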