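/-
Golay library, part 15: sextets and trios.

Main results: `sextetOf`, `sextetOf_mem`, `eq_sextetOf`, `existsUnique_sextet`, `ncard_sextets`,
`sextet_disjoint`, `smul_mem_sextets`, `compl_union_octad`, `trio_third`, `ncard_trios`,
`smul_mem_trios`, `smul_sextetOf`.
-/
import Cfsg.Agent.Lib.Golay.Perm
import Cfsg.Agent.Lib.Golay.Steiner

set_option autoImplicit false
open scoped Pointwise symmDiff
open Cfsg

namespace Cfsg.Agent.Golay

open SteinerCount (blocks mem_blocks)

/-- The five octads through a tetrad. -/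
noncomputable def octadsThrough (t : Finset GolayPt) : Finset (Finset GolayPt) :=
  (blocks octads).filter (t ⊆ ·)

theorem mem_octadsThrough {t o : Finset GolayPt} :
    o ∈ octadsThrough t ↔ o ∈ octads ∧ t ⊆ o := by
  simp [octadsThrough, mem_blocks]

theorem card_octadsThrough {t : Finset GolayPt} (ht : t.card = 4) : (octadsThrough t).card = 5 :=
  Design.card_through octads_steiner (by omega) (by norm_num) (by rw [ht]; decide +kernel)

/-- The sextet containing a tetrad. -/
noncomputable def sextetOf (t : Finset GolayPt) : Finset (Finset GolayPt) :=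
  insert t ((octadsThrough t).image (· \ t))

theorem inter_eq_of_through {t o o' : Finset GolayPt} (ht : t.card = 4) (ho : o ∈ octadsThrough t)
    (ho' : o' ∈ octadsThrough t) (hne : o ≠ o') : o ∩ o' = t := by
  rw [mem_octadsThrough] at ho ho'
  refine (Finset.eq_of_subset_of_card_le (Finset.subset_inter ho.2 ho'.2) ?_).symm
  rcases octad_inter_octad ho.1 ho'.1 with h | h | h | h
  · omega
  · omega
  · omega
  · exact absurd h hne

theorem card_sdiff_tetrad {t o : Finset GolayPt} (ht : t.card = 4) (ho : o ∈ octadsThrough t) :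
    (o \ t).card = 4 := by
  rw [mem_octadsThrough] at ho
  rw [Finset.card_sdiff_of_subset ho.2, show o.card = 8 from ho.1.2, ht]

theorem sdiff_ne_tetrad {t o : Finset GolayPt} (ht : t.card = 4) : o \ t ≠ t := by
  intro h
  obtain ⟨x, hx⟩ := Finset.card_pos.mp (by omega : 0 < t.card)
  exact (Finset.mem_sdiff.mp (h.symm ▸ hx)).2 hx

theorem sextetOf_mem {t : Finset GolayPt} (ht : t.card = 4) : sextetOf t ∈ sextets := by
  have hinj : Set.InjOn (· \ t) (octadsThrough t : Set (Finset GolayPt)) := by
    intro a ha b hb h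
    rw [Finset.mem_coe, mem_octadsThrough] at ha hb
    rw [← Finset.union_sdiff_of_subset ha.2, ← Finset.union_sdiff_of_subset hb.2]
    exact congrArg (t ∪ ·) h
  refine ⟨?_, ?_, ?_⟩
  · rw [sextetOf, Finset.card_insert_of_notMem, Finset.card_image_of_injOn hinj,
      card_octadsThrough ht]
    intro h
    obtain ⟨o, -, he⟩ := Finset.mem_image.mp h
    exact sdiff_ne_tetrad ht he
  · intro u hu
    rcases Finset.mem_insert.mp hu with rfl | hu
    · exact ht
    · obtain ⟨o, ho, rfl⟩ := Finset.mem_image.mp hu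
      exact card_sdiff_tetrad ht ho
  · have hone : ∀ o ∈ octadsThrough t, t ∪ o \ t ∈ octads := by
      intro o ho
      rw [mem_octadsThrough] at ho
      rw [Finset.union_sdiff_of_subset ho.2]
      exact ho.1
    intro u hu v hv hne
    rcases Finset.mem_insert.mp hu with rfl | hu <;> rcases Finset.mem_insert.mp hv with rfl | hv
    · exact absurd rfl hne
    · obtain ⟨o, ho, rfl⟩ := Finset.mem_image.mp hv
      exact hone o ho
    · obtain ⟨o, ho, rfl⟩ := Finset.mem_image.mp hu
      rw [Finset.union_comm]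
      exact hone o ho
    · obtain ⟨o, ho, rfl⟩ := Finset.mem_image.mp hu
      obtain ⟨o', ho', rfl⟩ := Finset.mem_image.mp hv
      have hoo : o ≠ o' := fun h => hne (by rw [h])
      have hi := inter_eq_of_through ht ho ho' hoo
      rw [mem_octadsThrough] at ho ho'
      have he : o \ t ∪ o' \ t = symmDiff o o' := by
        ext x
        have hx := Finset.ext_iff.mp hi x
        simp only [Finset.mem_inter] at hx
        simp only [Finset.mem_union, Finset.mem_sdiff, Finset.mem_symmDiff]
        tauto
      rw [he]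
      refine ⟨symmDiff_mem ho.1.1 ho'.1.1, ?_⟩
      have h := card_symmDiff_add o o'
      rw [hi, ht, show o.card = 8 from ho.1.2, show o'.card = 8 from ho'.1.2] at h
      omega

theorem sextet_disjoint {S : Finset (Finset GolayPt)} (hS : S ∈ sextets) {t u : Finset GolayPt}
    (ht : t ∈ S) (hu : u ∈ S) (hne : t ≠ u) : Disjoint t u := by
  have h : (t ∪ u).card = 8 := (hS.2.2 t ht u hu hne).2
  rw [← Finset.card_union_eq_card_add_card, h, hS.2.1 t ht, hS.2.1 u hu]

theorem eq_sextetOf {S : Finset (Finset GolayPt)} (hS : S ∈ sextets) {t : Finset GolayPt}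
    (ht : t ∈ S) : S = sextetOf t := by
  have ht4 := hS.2.1 t ht
  refine Finset.eq_of_subset_of_card_le (fun u hu => ?_) ?_
  · by_cases hne : t = u
    · exact hne ▸ Finset.mem_insert_self _ _
    · refine Finset.mem_insert_of_mem (Finset.mem_image.mpr
        ⟨t ∪ u, mem_octadsThrough.mpr ⟨hS.2.2 t ht u hu hne, Finset.subset_union_left⟩, ?_⟩)
      exact Finset.union_sdiff_cancel_left (sextet_disjoint hS ht hu hne)
  · rw [(sextetOf_mem ht4).1, hS.1]

theorem existsUnique_sextet {t : Finset GolayPt} (ht : t.card = 4) :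
    ∃! S : Finset (Finset GolayPt), S ∈ sextets ∧ t ∈ S :=
  ⟨sextetOf t, ⟨sextetOf_mem ht, Finset.mem_insert_self _ _⟩, fun _ h => eq_sextetOf h.1 h.2⟩

theorem ncard_sextets : sextets.ncard = 1771 := by
  classical
  have hfin : sextets.Finite := Set.toFinite _
  have hcard : ((Finset.univ : Finset GolayPt).powersetCard 4).card = 10626 := by
    rw [Finset.card_powersetCard, Finset.card_univ, show Fintype.card GolayPt = 24 from rfl]
    decide +kernel
  have hmaps : ∀ t ∈ (Finset.univ : Finset GolayPt).powersetCard 4,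
      sextetOf t ∈ hfin.toFinset := fun t ht =>
    (Set.Finite.mem_toFinset _).mpr (sextetOf_mem (Finset.mem_powersetCard.mp ht).2)
  have h6 : ∀ S ∈ hfin.toFinset,
      (((Finset.univ : Finset GolayPt).powersetCard 4).filter fun t => sextetOf t = S).card = 6 := by
    intro S hS
    rw [Set.Finite.mem_toFinset] at hS
    rw [← hS.1]
    congr 1
    ext t
    simp only [Finset.mem_filter, Finset.mem_powersetCard, Finset.subset_univ, true_and]
    constructor
    · rintro ⟨-, rfl⟩
      exact Finset.mem_insert_self _ _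
    · exact fun h => ⟨hS.2.1 t h, (eq_sextetOf hS h).symm⟩
  have hsum := Finset.card_eq_sum_card_fiberwise hmaps
  rw [hcard, Finset.sum_congr rfl h6, Finset.sum_const, smul_eq_mul,
    ← Set.ncard_eq_toFinset_card _ hfin] at hsum
  omega

theorem smul_mem_sextets {g : Equiv.Perm GolayPt} (hg : g ∈ M24) {S : Finset (Finset GolayPt)}
    (hS : S ∈ sextets) : g • S ∈ sextets := by
  refine ⟨by rw [Finset.card_smul_finset, hS.1], fun t ht => ?_, fun t ht u hu hne => ?_⟩
  · obtain ⟨t', ht', rfl⟩ := Finset.mem_smul_finset.mp ht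
    rw [Finset.card_smul_finset, hS.2.1 t' ht']
  · obtain ⟨t', ht', rfl⟩ := Finset.mem_smul_finset.mp ht
    obtain ⟨u', hu', rfl⟩ := Finset.mem_smul_finset.mp hu
    rw [← Finset.smul_finset_union]
    exact smul_mem_octads hg (hS.2.2 t' ht' u' hu' fun h => hne (by rw [h]))

theorem smul_sextetOf {g : Equiv.Perm GolayPt} (hg : g ∈ M24) {t : Finset GolayPt}
    (ht : t.card = 4) : g • sextetOf t = sextetOf (g • t) :=
  eq_sextetOf (smul_mem_sextets hg (sextetOf_mem ht))
    (Finset.smul_mem_smul_finset (Finset.mem_insert_self _ _))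

/-! ### Trios -/

theorem compl_union_octad {o o' : Finset GolayPt} (ho : o ∈ octads) (ho' : o' ∈ octads)
    (hd : Disjoint o o') : (o ∪ o')ᶜ ∈ octads := by
  have he : o ∪ o' = symmDiff o o' := by
    rw [symmDiff_eq_sup_sdiff_inf, Finset.sup_eq_union, Finset.inf_eq_inter,
      Finset.disjoint_iff_inter_eq_empty.mp hd, Finset.sdiff_empty]
  refine ⟨compl_mem (he ▸ symmDiff_mem ho.1 ho'.1), ?_⟩
  rw [Finset.card_compl, Finset.card_union_of_disjoint hd, show o.card = 8 from ho.2,
    show o'.card = 8 from ho'.2]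
  rfl

/-- The trio through two disjoint octads. -/
noncomputable def trioOf (o o' : Finset GolayPt) : Finset (Finset GolayPt) := {o, o', (o ∪ o')ᶜ}

theorem ne_of_disjoint_octads {o o' : Finset GolayPt} (ho : o ∈ octads) (hd : Disjoint o o') :
    o ≠ o' := by
  rintro rfl
  have h8 : o.card = 8 := ho.2
  rw [disjoint_self.mp hd] at h8
  simp at h8

theorem trioOf_mem {o o' : Finset GolayPt} (ho : o ∈ octads) (ho' : o' ∈ octads)
    (hd : Disjoint o o') : trioOf o o' ∈ trios := by
  have hz := compl_union_octad ho ho' hd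
  have h1 : Disjoint o (o ∪ o')ᶜ := disjoint_compl_right.mono_left Finset.subset_union_left
  have h2 : Disjoint o' (o ∪ o')ᶜ := disjoint_compl_right.mono_left Finset.subset_union_right
  refine ⟨Finset.card_eq_three.mpr ⟨o, o', _, ne_of_disjoint_octads ho hd,
    ne_of_disjoint_octads ho h1, ne_of_disjoint_octads ho' h2, rfl⟩, ?_, ?_⟩
  · intro x hx
    simp only [trioOf, Finset.mem_insert, Finset.mem_singleton] at hx
    rcases hx with rfl | rfl | rfl <;> assumption
  · intro x hx y hy hne
    simp only [trioOf, Finset.mem_insert, Finset.mem_singleton] at hx hy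
    rcases hx with rfl | rfl | rfl <;> rcases hy with rfl | rfl | rfl <;>
      first
        | exact absurd rfl hne
        | assumption
        | exact Disjoint.symm (by assumption)

theorem trio_third {T : Finset (Finset GolayPt)} (hT : T ∈ trios) {o o' : Finset GolayPt}
    (ho : o ∈ T) (ho' : o' ∈ T) (hne : o ≠ o') : T = trioOf o o' := by
  obtain ⟨z, hzT, hzo⟩ : ∃ z ∈ T, z ∉ ({o, o'} : Finset (Finset GolayPt)) :=
    Finset.exists_mem_notMem_of_card_lt_card (by rw [hT.1, Finset.card_pair hne]; norm_num)
  simp only [Finset.mem_insert, Finset.mem_singleton, not_or] at hzo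
  have h1 : Disjoint o o' := hT.2.2 o ho o' ho' hne
  have hz : z = (o ∪ o')ᶜ := by
    refine Finset.eq_of_subset_of_card_le (fun x hx => Finset.mem_compl.mpr fun h => ?_) ?_
    · rcases Finset.mem_union.mp h with h | h
      · exact Finset.disjoint_left.mp (hT.2.2 z hzT o ho hzo.1) hx h
      · exact Finset.disjoint_left.mp (hT.2.2 z hzT o' ho' hzo.2) hx h
    · rw [(compl_union_octad (hT.2.1 o ho) (hT.2.1 o' ho') h1).2,
        show z.card = 8 from (hT.2.1 z hzT).2]
  refine (Finset.eq_of_subset_of_card_le (fun x hx => ?_) ?_).symm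
  · simp only [trioOf, Finset.mem_insert, Finset.mem_singleton] at hx
    rcases hx with rfl | rfl | rfl
    · exact ho
    · exact ho'
    · exact hz ▸ hzT
  · rw [(trioOf_mem (hT.2.1 o ho) (hT.2.1 o' ho') h1).1, hT.1]

theorem card_disjoint_octads {o : Finset GolayPt} (ho : o ∈ octads) :
    ((blocks octads).filter fun c => (c ∩ o).card = 0).card = 30 := by
  have hB := octads_steiner
  have hα : Fintype.card GolayPt = 24 := rfl
  have m0 := Design.moment hB (by norm_num) o (i := 0) (lam := 759) (by norm_num)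
    (by rw [hα]; decide +kernel)
  have m1 := Design.moment hB (by norm_num) o (i := 1) (lam := 253) (by norm_num)
    (by rw [hα]; decide +kernel)
  have m2 := Design.moment hB (by norm_num) o (i := 2) (lam := 77) (by norm_num)
    (by rw [hα]; decide +kernel)
  have m3 := Design.moment hB (by norm_num) o (i := 3) (lam := 21) (by norm_num)
    (by rw [hα]; decide +kernel)
  have m4 := Design.moment hB (by norm_num) o (i := 4) (lam := 5) (by norm_num)
    (by rw [hα]; decide +kernel)
  have z5 := Design.cnt_zero hB ho (j := 5) le_rfl (by norm_num)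
  have z6 := Design.cnt_zero hB ho (j := 6) (by norm_num) (by norm_num)
  have z7 := Design.cnt_zero hB ho (j := 7) (by norm_num) (by norm_num)
  have self := Design.cnt_self hB (by norm_num) ho
  simp only [show o.card = 8 from ho.2, Finset.sum_range_succ, Finset.sum_range_zero,
    Nat.choose_zero_right, Nat.reduceAdd, z5, z6, z7, self] at m0 m1 m2 m3 m4
  norm_num [Nat.choose] at m0 m1 m2 m3 m4
  change Design.cnt octads o 0 = 30
  omega

theorem ncard_trios : trios.ncard = 3795 := by
  classical
  have hfin : trios.Finite := Set.toFinite _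
  let P : Finset (Finset GolayPt × Finset GolayPt) :=
    (blocks octads).biUnion fun o =>
      ((blocks octads).filter fun c => (c ∩ o).card = 0).image fun c => (o, c)
  have hP : ∀ q, q ∈ P ↔ q.1 ∈ octads ∧ q.2 ∈ octads ∧ Disjoint q.1 q.2 := by
    rintro ⟨a, b⟩
    simp only [P, Finset.mem_biUnion, Finset.mem_image, Finset.mem_filter, mem_blocks,
      Prod.mk.injEq, Finset.card_eq_zero, Finset.disjoint_iff_inter_eq_empty]
    constructor
    · rintro ⟨o, ho, c, ⟨hc, hi⟩, rfl, rfl⟩
      exact ⟨ho, hc, by rw [Finset.inter_comm]; exact hi⟩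
    · rintro ⟨ha, hb, hi⟩
      exact ⟨a, ha, b, ⟨hb, by rw [Finset.inter_comm]; exact hi⟩, rfl, rfl⟩
  have hPcard : P.card = 22770 := by
    rw [Finset.card_biUnion]
    · rw [Finset.sum_congr rfl (g := fun _ => 30) fun o ho => by
        rw [Finset.card_image_of_injective _ (fun a b h => (Prod.mk.inj h).2)]
        exact card_disjoint_octads (mem_blocks.mp ho), Finset.sum_const, smul_eq_mul]
      rw [SteinerCount.blocks, ← Set.ncard_eq_toFinset_card, ncard_octads]
    · intro a _ b _ hab
      simp only [Function.onFun, Finset.disjoint_left, Finset.mem_image]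
      rintro _ ⟨c, -, rfl⟩ ⟨d, -, h⟩
      exact hab (Prod.mk.inj h).1.symm
  have hmaps : ∀ q ∈ P, trioOf q.1 q.2 ∈ hfin.toFinset := fun q hq => by
    obtain ⟨h1, h2, h3⟩ := (hP q).mp hq
    exact (Set.Finite.mem_toFinset _).mpr (trioOf_mem h1 h2 h3)
  have h6 : ∀ T ∈ hfin.toFinset, (P.filter fun q => trioOf q.1 q.2 = T).card = 6 := by
    intro T hT
    rw [Set.Finite.mem_toFinset] at hT
    have : (P.filter fun q => trioOf q.1 q.2 = T) = T.offDiag := by
      ext ⟨a, b⟩
      simp only [Finset.mem_filter, hP, Finset.mem_offDiag]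
      constructor
      · rintro ⟨⟨ha, hb, hd⟩, rfl⟩
        exact ⟨by simp [trioOf], by simp [trioOf], ne_of_disjoint_octads ha hd⟩
      · rintro ⟨ha, hb, hne⟩
        exact ⟨⟨hT.2.1 a ha, hT.2.1 b hb, hT.2.2 a ha b hb hne⟩, (trio_third hT ha hb hne).symm⟩
    rw [this, Finset.offDiag_card, hT.1]
  have hsum := Finset.card_eq_sum_card_fiberwise hmaps
  rw [hPcard, Finset.sum_congr rfl h6, Finset.sum_const, smul_eq_mul,
    ← Set.ncard_eq_toFinset_card _ hfin] at hsum
  omega

theorem smul_mem_trios {g : Equiv.Perm GolayPt} (hg : g ∈ M24) {T : Finset (Finset GolayPt)}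
    (hT : T ∈ trios) : g • T ∈ trios := by
  refine ⟨by rw [Finset.card_smul_finset, hT.1], fun o ho => ?_, fun o ho o' ho' hne => ?_⟩
  · obtain ⟨a, ha, rfl⟩ := Finset.mem_smul_finset.mp ho
    exact smul_mem_octads hg (hT.2.1 a ha)
  · obtain ⟨a, ha, rfl⟩ := Finset.mem_smul_finset.mp ho
    obtain ⟨b, hb, rfl⟩ := Finset.mem_smul_finset.mp ho'
    have h := hT.2.2 a ha b hb fun h => hne (by rw [h])
    rw [Finset.disjoint_iff_inter_eq_empty] at h ⊢
    rw [← Finset.smul_finset_inter, h, Finset.smul_finset_empty]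

end Cfsg.Agent.Golay
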