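/-
Golay library, part 6: data for the dodecad of squares: permutations fixing it and one of its points,
forming transversals for three points of the complementary dodecad.
-/
import Cfsg.Agent.EqLemmas

set_option autoImplicit false

namespace Cfsg.Agent.Golay

/-- The mask of the dodecad of squares. -/
def dodecad0 : ℕ := 0x5335f

/-- Three points outside the dodecad of squares. -/
def outsideIdx : List ℕ := [5, 7, 10]

/-- Transversals fixing the dodecad of squares and the point `0`. -/
def m11Table : List (List ℕ) :=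
  [[0xbdab49ca307b9ac5a928398a418820,
    0xabacb50e708dd2da3c922a0ec30820,
    0xad2eb3b0ad8da5073c899994340820,
    0x794eab0eadbc5889d1307496620820,
    0x8aa6fa22f2a96093ac8db31c618820,
    0x5d9d49a2292d4ccb9e12535e320820,
    0x752cb3a4a455cd0acdac7ca2818820,
    0xbda8e7a0ed2d4925c46c5267030820,
    0x51cb3acaec73c868adb0b228348820,
    0x89e65a496873d3055c66b32ad20820,
    0x2ce27bb6b25a9267d20c70ec440820,
    0x2bd47b11c65c5929d209aa2ed18820],
   [0xbdab49ca307b9ac5a928398a418820,
    0xbae957b6289ba44b1cd0524ac18820,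
    0x55e93ac0e87b9a28d8925b0a349820,
    0xb2cf17b6a39a924bd190748a640440,
    0x8d8eaa31d2adc905cd2d798a810460,
    0xb2e8e991437d4cdb9e508b0a940820,
    0x8ad47a91cda5d88b3cd29a4b010460,
    0xbd9477b1d09c4925d4c8a24ad18440,
    0xbacea991c87c58db5130a98b218440,
    0x3aa8ea9aec9bc525c60db24a341020,
    0xb2deea90e2a4d288aa12bb0a668c20],
   [0xbdab49ca307b9ac5a928398a418820,
    0xbc66ea8ec97d18d52e08388a491820,
    0x5aa77b1a818d60c7b9a3388a992080,
    0x5d2d59c94d8dd9073c233a0a930880,
    0xb5dd4799509d4895c5833c8ad40820,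
    0x755778a1497d02db4c83398b090980,
    0x73ed1bc949acc305d182398ad40c80,
    0x7bacb50ae4a4c2c8d6123a0ad30d20,
    0x8de8e78969acc90559b238cac41820,
    0x5c5d3a994da3d89b5c823a0b090c20]]

end Cfsg.Agent.Golay
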