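/-
Golay library, part 23: the stabiliser of a dodecad on the dodecads, and the maximality of the
stabiliser of a dodecad and its complement.

Main results: `dodecad_inter_dodecad`, `exists_map_dodecad_inter`, `isCoatom_dodecad_pair`.
-/
import Cfsg.Agent.Lib.Golay.Maximal
import Cfsg.Agent.Lib.Golay.Dodecad
import Cfsg.Agent.Lib.GolayOrbits.Basic
import Cfsg.Agent.Lib.Golay.DodecadPairData

set_option autoImplicit false
set_option maxRecDepth 40000
open scoped Pointwise symmDiff
open Cfsg MulAction

namespace Cfsg.Agent.Golay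

theorem dd6_cert : GolayOrbits.codeCert [dodecad0] ddGens dd6Rep dd6Steps dd6Set
    (fun m => popcount m == 12 && popcount (m &&& dodecad0) == 6) = true := by
  decide +kernel

theorem dd8_cert : GolayOrbits.codeCert [dodecad0] ddGens dd8Rep dd8Steps dd8Set
    (fun m => popcount m == 12 && popcount (m &&& dodecad0) == 8) = true := by
  decide +kernel

theorem dd_values : allSpan (fun m => !(popcount m == 12) ||
    [0, 4, 6, 8, 12].contains (popcount (m &&& dodecad0))) rows 0 = true := by
  decide +kernel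

/-- Dodecads meet in 0, 4, 6, 8 or 12 points. -/
theorem dodecad_inter_dodecad {d d' : Finset GolayPt} (hd : d ∈ dodecads) (hd' : d' ∈ dodecads) :
    (d ∩ d').card ∈ ({0, 4, 6, 8, 12} : Finset ℕ) := by
  obtain ⟨t, ht, hto⟩ := exists_map_dodecad hd dodecad0_mem
  have h' := smul_mem_dodecads ht hd'
  have h := supports_forall dd_values h'.1
  rw [popcount_maskOf, h'.2, popcount_maskOf_and, ← hto, ← Finset.smul_finset_inter,
    Finset.card_smul_finset, Finset.inter_comm] at h
  simpa using h

theorem card_inter_compl {d d' : Finset GolayPt} (hd : d ∈ dodecads) :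
    (d ∩ d'ᶜ).card = 12 - (d ∩ d').card := by
  have := Finset.card_sdiff_add_card_inter d d'
  rw [← Finset.sdiff_eq_inter_compl]
  have h12 : d.card = 12 := hd.2
  omega

theorem smul_compl' (g : Equiv.Perm GolayPt) (a : Finset GolayPt) : g • aᶜ = (g • a)ᶜ := by
  rw [Finset.compl_eq_univ_sdiff, Finset.compl_eq_univ_sdiff, Finset.smul_finset_sdiff,
    Finset.smul_finset_univ]

theorem mem_supports_of_isCode {m : ℕ} (hm : isCode m = true) :
    pts m ∈ supports (golayCode : Set (GolayPt → ZMod 2)) := by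
  obtain ⟨x, hx, rfl⟩ := isCode_iff.mp hm
  exact mem_supports_iff_exists.mpr ⟨x, hx, rfl⟩

/-- The stabiliser of a dodecad has one orbit on the dodecads meeting it in a given number of
points. -/
theorem exists_map_dodecad_inter {d d' d'' : Finset GolayPt} (hd : d ∈ dodecads)
    (hd' : d' ∈ dodecads) (hd'' : d'' ∈ dodecads) (h : (d ∩ d').card = (d ∩ d'').card) :
    ∃ g ∈ M24, g • d = d ∧ g • d' = d'' := by
  obtain ⟨t, ht, hto⟩ := exists_map_dodecad hd dodecad0_mem
  have hcard : ∀ s : Finset GolayPt, (d ∩ s).card = (t • s ∩ pts dodecad0).card := fun s => by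
    rw [← hto, ← Finset.smul_finset_inter, Finset.card_smul_finset, Finset.inter_comm]
  have main : ∀ k, k = 6 ∨ k = 8 → ∀ a b : Finset GolayPt, a ∈ dodecads → b ∈ dodecads →
      (d ∩ a).card = k → (d ∩ b).card = k → ∃ g ∈ M24, g • d = d ∧ g • a = b := by
    intro k hk a b ha hb hka hkb
    rw [hcard] at hka hkb
    have ha' := smul_mem_dodecads ht ha
    have hb' := smul_mem_dodecads ht hb
    obtain ⟨g, hg, hgab⟩ : ∃ g ∈ GolayOrbits.Fix [dodecad0], g • t • a = t • b := by
      rcases hk with rfl | rfl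
      · exact GolayOrbits.orbit_codeword dd6_cert ha'.1
          (by simp [popcount_maskOf, popcount_maskOf_and, ha'.2, hka]) hb'.1
          (by simp [popcount_maskOf, popcount_maskOf_and, hb'.2, hkb])
      · exact GolayOrbits.orbit_codeword dd8_cert ha'.1
          (by simp [popcount_maskOf, popcount_maskOf_and, ha'.2, hka]) hb'.1
          (by simp [popcount_maskOf, popcount_maskOf_and, hb'.2, hkb])
    refine ⟨t⁻¹ * g * t, mul_mem (mul_mem (inv_mem ht) hg.1) ht, ?_, ?_⟩
    · rw [mul_smul, mul_smul, hto, hg.2 _ (List.mem_singleton_self _), ← hto, inv_smul_smul]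
    · rw [mul_smul, mul_smul, hgab, inv_smul_smul]
  have hv := dodecad_inter_dodecad hd hd'
  simp only [Finset.mem_insert, Finset.mem_singleton] at hv
  have h12 : ∀ {a : Finset GolayPt}, a ∈ dodecads → a.card = 12 := fun ha => ha.2
  rcases hv with hk | hk | hk | hk | hk
  · have e : ∀ {a : Finset GolayPt}, a ∈ dodecads → (d ∩ a).card = 0 → a = dᶜ := fun ha hka => by
      refine Finset.eq_of_subset_of_card_le ?_ (by rw [h12 (compl_mem_dodecads hd), h12 ha])
      intro x hx
      rw [Finset.mem_compl]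
      intro hxd
      have := Finset.card_pos.mpr ⟨x, Finset.mem_inter.mpr ⟨hxd, hx⟩⟩
      omega
    exact ⟨1, one_mem _, one_smul _ _, by rw [one_smul, e hd' hk, e hd'' (h ▸ hk)]⟩
  · obtain ⟨g, hg, hgd, hga⟩ := main 8 (Or.inr rfl) d'ᶜ d''ᶜ (compl_mem_dodecads hd')
      (compl_mem_dodecads hd'') (by rw [card_inter_compl hd, hk])
      (by rw [card_inter_compl hd, ← h, hk])
    refine ⟨g, hg, hgd, compl_injective ?_⟩
    rw [← hga, smul_compl']
  · exact main 6 (Or.inl rfl) d' d'' hd' hd'' hk (h ▸ hk)
  · exact main 8 (Or.inr rfl) d' d'' hd' hd'' hk (h ▸ hk)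
  · have e : ∀ {a : Finset GolayPt}, a ∈ dodecads → (d ∩ a).card = 12 → a = d := fun {a} ha hka => by
      have e1 : d ∩ a = d :=
        Finset.eq_of_subset_of_card_le Finset.inter_subset_left (by rw [hka, h12 hd])
      have e2 : d ∩ a = a :=
        Finset.eq_of_subset_of_card_le Finset.inter_subset_right (by rw [hka, h12 ha])
      exact e2.symm.trans e1
    exact ⟨1, one_mem _, one_smul _ _, by rw [one_smul, e hd' hk, e hd'' (h ▸ hk)]⟩

/-- A pair of complementary dodecads. -/
def ddPair (a : Finset GolayPt) : Finset (Finset GolayPt) := {a, aᶜ}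

theorem smul_ddPair (g : Equiv.Perm GolayPt) (a : Finset GolayPt) :
    g • ddPair a = ddPair (g • a) := by
  rw [ddPair, ddPair, Finset.smul_finset_insert, Finset.smul_finset_singleton,
    smul_compl']

theorem ddPair_compl (a : Finset GolayPt) : ddPair aᶜ = ddPair a := by
  rw [ddPair, ddPair, compl_compl, Finset.pair_comm]

theorem mem_orbit_ddPair {d : Finset GolayPt} (hd : d ∈ dodecads)
    {y : Finset (Finset GolayPt)} :
    y ∈ orbit M24 (ddPair d) ↔ ∃ a ∈ dodecads, y = ddPair a := by
  constructor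
  · rintro ⟨g, rfl⟩
    exact ⟨_, smul_mem_dodecads g.2 hd, smul_ddPair _ _⟩
  · rintro ⟨a, ha, rfl⟩
    obtain ⟨g, hg, h⟩ := exists_map_dodecad hd ha
    exact ⟨⟨g, hg⟩, h ▸ smul_ddPair g d⟩

theorem ncard_pairs_count : ∀ q ∈ [(0, 1), (4, 495), (6, 792)],
    countSpan (fun m => popcount m == 12 && m.testBit 0 &&
      min (popcount (m &&& dodecad0)) (12 - popcount (m &&& dodecad0)) == (q : ℕ × ℕ).1) rows 0 =
        q.2 := by
  decide +kernel

/-- The stabiliser of a dodecad and its complement is maximal. -/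
theorem isCoatom_dodecad_pair {d : Finset GolayPt} (hd : d ∈ dodecads) :
    IsCoatom (stabilizer M24 (ddPair d)) := by
  classical
  obtain ⟨t, ht, hto⟩ := exists_map_dodecad dodecad0_mem hd
  let φ : Finset (Finset GolayPt) → ℕ := fun y =>
    y.sup fun a => min (d ∩ a).card (12 - (d ∩ a).card)
  have hφ : ∀ {a}, a ∈ dodecads →
      φ (ddPair a) = min (d ∩ a).card (12 - (d ∩ a).card) := by
    intro a ha
    have hle : (d ∩ a).card ≤ 12 := by
      rw [← show d.card = 12 from hd.2]
      exact Finset.card_le_card Finset.inter_subset_left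
    simp only [φ, ddPair, Finset.sup_insert, Finset.sup_singleton, card_inter_compl hd]
    omega
  have hval : ∀ {a}, a ∈ dodecads → φ (ddPair a) ∈ ({0, 4, 6} : Finset ℕ) := by
    intro a ha
    have h := dodecad_inter_dodecad hd ha
    rw [hφ ha]
    simp only [Finset.mem_insert, Finset.mem_singleton] at h ⊢
    omega
  have hsize : ∀ c, {y | y ∈ orbit M24 (ddPair d) ∧ φ y = c}.ncard =
      countSpan (fun m => popcount m == 12 && m.testBit 0 &&
        min (popcount (m &&& dodecad0)) (12 - popcount (m &&& dodecad0)) == c) rows 0 := by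
    intro c
    let p : GolayPt := t (pt 0)
    have hbij : {y | y ∈ orbit M24 (ddPair d) ∧ φ y = c}.ncard =
        {a | a ∈ dodecads ∧ p ∈ a ∧ min (d ∩ a).card (12 - (d ∩ a).card) = c}.ncard := by
      symm
      refine Set.ncard_congr (fun a _ => ddPair a) ?_ ?_ ?_
      · rintro a ⟨ha, -, hc⟩
        exact ⟨(mem_orbit_ddPair hd).mpr ⟨a, ha, rfl⟩, by rw [hφ ha, hc]⟩
      · rintro a b ⟨-, hpa, -⟩ ⟨-, hpb, -⟩ h
        have : a ∈ ddPair b := h ▸ Finset.mem_insert_self _ _
        simp only [ddPair, Finset.mem_insert, Finset.mem_singleton] at this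
        rcases this with e | e
        · exact e
        · rw [e, Finset.mem_compl] at hpa
          exact absurd hpb hpa
      · rintro y ⟨hy, hc⟩
        obtain ⟨a, ha, rfl⟩ := (mem_orbit_ddPair hd).mp hy
        rw [hφ ha] at hc
        by_cases hp : p ∈ a
        · exact ⟨a, ⟨ha, hp, hc⟩, rfl⟩
        · refine ⟨aᶜ, ⟨compl_mem_dodecads ha, Finset.mem_compl.mpr hp, ?_⟩, ddPair_compl a⟩
          rw [card_inter_compl hd]
          have : (d ∩ a).card ≤ 12 := by
            rw [← show d.card = 12 from hd.2]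
            exact Finset.card_le_card Finset.inter_subset_left
          omega
    rw [hbij, GolayOrbits.ncard_smul_congr t
      (P := fun a => a ∈ dodecads ∧ p ∈ a ∧ min (d ∩ a).card (12 - (d ∩ a).card) = c)
      (Q := fun a => a ∈ dodecads ∧ pt 0 ∈ a ∧
        min (pts dodecad0 ∩ a).card (12 - (pts dodecad0 ∩ a).card) = c)]
    · refine GolayOrbits.ncard_eq_countSpan (fun a ha => ha.1.1) fun m hm => ?_
      have hmem := mem_pts (m := m) (p := pt 0)
      rw [idx_pt (by norm_num : 0 < 24)] at hmem
      simp only [Bool.and_eq_true, beq_iff_eq, hmem, ← card_pts, pts_and,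
        Finset.inter_comm (pts m)]
      constructor
      · rintro ⟨h1, h2, h3⟩
        exact ⟨⟨h1.2, h2⟩, h3⟩
      · rintro ⟨⟨h1, h2⟩, h3⟩
        exact ⟨⟨mem_supports_of_isCode hm, h1⟩, h2, h3⟩
    · intro s
      rw [GolayOrbits.smul_mem_dodecads_iff ht, ← hto, GolayOrbits.card_smul_inter,
        GolayOrbits.apply_mem_smul_iff]
  refine isCoatom_stabilizer_of_suborbits (ddPair d) φ {0, 4, 6}
    (fun c => if c = 0 then 1 else if c = 4 then 495 else 792)
    (fun y hy => ?_) (fun y hy z hz h => ?_)
    (fun c hc => ?_) (by rw [hφ hd, Finset.inter_self, show d.card = 12 from hd.2]; decide +kernel)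
    (by rw [hφ hd, Finset.inter_self, show d.card = 12 from hd.2]; decide +kernel) ?_
  · obtain ⟨a, ha, rfl⟩ := (mem_orbit_ddPair hd).mp hy
    exact hval ha
  · obtain ⟨a, ha, rfl⟩ := (mem_orbit_ddPair hd).mp hy
    obtain ⟨b, hb, rfl⟩ := (mem_orbit_ddPair hd).mp hz
    rw [hφ ha, hφ hb] at h
    have hla : (d ∩ a).card ≤ 12 := by
      rw [← show d.card = 12 from hd.2]
      exact Finset.card_le_card Finset.inter_subset_left
    have hlb : (d ∩ b).card ≤ 12 := by
      rw [← show d.card = 12 from hd.2]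
      exact Finset.card_le_card Finset.inter_subset_left
    have : (d ∩ a).card = (d ∩ b).card ∨ (d ∩ a).card = (d ∩ bᶜ).card := by
      rw [card_inter_compl hd]
      omega
    rcases this with e | e
    · obtain ⟨g, hg, hgd, hga⟩ := exists_map_dodecad_inter hd ha hb e
      refine ⟨⟨g, hg⟩, mem_stabilizer_iff.mpr ?_, ?_⟩
      · show g • ddPair d = ddPair d
        rw [smul_ddPair, hgd]
      · show g • ddPair a = ddPair b
        rw [smul_ddPair, hga]
    · obtain ⟨g, hg, hgd, hga⟩ := exists_map_dodecad_inter hd ha (compl_mem_dodecads hb) e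
      refine ⟨⟨g, hg⟩, mem_stabilizer_iff.mpr ?_, ?_⟩
      · show g • ddPair d = ddPair d
        rw [smul_ddPair, hgd]
      · show g • ddPair a = ddPair b
        rw [smul_ddPair, hga, ddPair_compl]
  · rw [hsize]
    simp only [Finset.mem_insert, Finset.mem_singleton] at hc
    rcases hc with rfl | rfl | rfl
    · exact ncard_pairs_count (0, 1) (by simp)
    · exact ncard_pairs_count (4, 495) (by simp)
    · exact ncard_pairs_count (6, 792) (by simp)
  · intro e
    have h1 : (orbit M24 (ddPair d)).ncard = 1 := by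
      rw [← index_stabilizer, e, Subgroup.index_top]
    have h2 : (495 : ℕ) ≤ (orbit M24 (ddPair d)).ncard := by
      refine le_of_eq_of_le ((hsize 4).trans (ncard_pairs_count (4, 495) (by simp))).symm ?_
      exact Set.ncard_le_ncard (fun y hy => hy.1)
    omega

end Cfsg.Agent.Golay
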