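/-
Golay library, part 29: the stabiliser of a sextet.

Main results: `exists_map_sextet`, `stabPerm_sextet_surjective`, `natCard_sextet_fix`,
`sextetInvol`, `exists_sextet_orbits`, `isCoatom_sextet`.
-/
import Cfsg.Agent.Lib.Golay.Sextet
import Cfsg.Agent.Lib.Golay.BlockTools
import Cfsg.Agent.Lib.Golay.Triads
import Cfsg.Agent.Lib.Golay.Maximal
import Cfsg.Agent.Lib.Golay.SextetData

set_option autoImplicit false
set_option maxRecDepth 40000
open scoped Pointwise
open Cfsg MulAction

namespace Cfsg.Agent.Golay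

/-- The check that a list of masks codes a sextet. -/
def sextetOk (L : List ℕ) : Bool :=
  L.length == 6 && L.all (fun a => popcount a == 4) &&
    L.all fun a => L.all fun b => a == b ||
      (isCode (a ||| b) && popcount (a ||| b) == 8)

theorem toFinS_mem_sextets {L : List ℕ} (h : sextetOk L = true)
    (hc : (toFinS L).card = 6) : toFinS L ∈ sextets := by
  simp only [sextetOk, Bool.and_eq_true, List.all_eq_true, beq_iff_eq, Bool.or_eq_true] at h
  refine ⟨hc, fun t ht => ?_, fun t ht u hu hne => ?_⟩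
  · obtain ⟨a, ha, rfl⟩ := mem_toFinS.mp ht
    rw [card_pts]
    exact h.1.2 a ha
  · obtain ⟨a, ha, rfl⟩ := mem_toFinS.mp ht
    obtain ⟨b, hb, rfl⟩ := mem_toFinS.mp hu
    rcases h.2 a ha b hb with e | ⟨e1, e2⟩
    · exact absurd (e ▸ rfl) hne
    · rw [← pts_or]
      obtain ⟨x, hx, he⟩ := isCode_iff.mp e1
      exact ⟨mem_supports_iff_exists.mpr ⟨x, hx, by rw [he]⟩, by rw [card_pts, e2]⟩

theorem sextet0_card : (toFinS sextet0).card = 6 := by decide +kernel

theorem sextet0_mem : toFinS sextet0 ∈ sextets :=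
  toFinS_mem_sextets (by decide +kernel) sextet0_card

/-- `M24` is transitive on sextets. -/
theorem exists_map_sextet {S S' : Finset (Finset GolayPt)} (hS : S ∈ sextets) (hS' : S' ∈ sextets) :
    ∃ g ∈ M24, g • S = S' := by
  obtain ⟨t, ht⟩ := Finset.card_pos.mp (by rw [hS.1]; norm_num : 0 < S.card)
  obtain ⟨u, hu⟩ := Finset.card_pos.mp (by rw [hS'.1]; norm_num : 0 < S'.card)
  obtain ⟨g, hg, h1, -⟩ := exists_map_venn (s := t) (t := ∅) (s' := u) (t' := ∅)
    (by simp [hS.2.1 t ht, hS'.2.1 u hu]) (by simp) (by simp)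
    (by simp [hS.2.1 t ht])
  exact ⟨g, hg, by rw [eq_sextetOf hS ht, eq_sextetOf hS' hu, smul_sextetOf hg (hS.2.1 t ht), h1]⟩

theorem orbit_sextet {S : Finset (Finset GolayPt)} (hS : S ∈ sextets) : orbit M24 S = sextets := by
  ext X
  refine ⟨?_, fun hX => ?_⟩
  · rintro ⟨g, rfl⟩
    exact smul_mem_sextets g.2 hS
  · obtain ⟨g, hg, h⟩ := exists_map_sextet hS hX
    exact ⟨⟨g, hg⟩, h⟩

theorem natCard_stabilizer_sextet {S : Finset (Finset GolayPt)} (hS : S ∈ sextets) :
    Nat.card (stabilizer M24 S) = 138240 :=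
  natCard_stabilizer_eq S (by rw [orbit_sextet hS, ncard_sextets]) (by norm_num)

/-- The tetrads of the standard sextet by number. -/
def tetrad0 (i : Fin 6) : Finset GolayPt := pts (sextet0.getD i.val 0)

theorem tetrad0_bij : Function.Injective tetrad0 ∧ ∀ t ∈ toFinS sextet0, ∃ i, tetrad0 i = t := by
  refine ⟨fun i j h => ?_, fun t ht => ?_⟩
  · have hlt : ∀ i : Fin 6, sextet0.getD i.val 0 < 2 ^ 24 := by decide +kernel
    have hinj : ∀ i j : Fin 6, sextet0.getD i.val 0 = sextet0.getD j.val 0 → i = j := by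
      decide +kernel
    exact hinj i j (pts_injOn (hlt i) (hlt j) h)
  · obtain ⟨m, hm, rfl⟩ := mem_toFinS.mp ht
    have hex : ∀ m ∈ sextet0, ∃ i : Fin 6, sextet0.getD i.val 0 = m := by decide +kernel
    obtain ⟨i, hi⟩ := hex m hm
    exact ⟨i, by rw [tetrad0, hi]⟩

theorem tetrad0_mem (i : Fin 6) : tetrad0 i ∈ toFinS sextet0 := by
  have h : ∀ i : Fin 6, sextet0.getD i.val 0 ∈ sextet0 := by decide +kernel
  exact mem_toFinS.mpr ⟨_, h i, rfl⟩

/-- Some element of `M24` moves the tetrads as `σ` says. -/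
def Induced (σ : Equiv.Perm (Fin 6)) : Prop :=
  ∃ g ∈ M24, ∀ i, g • tetrad0 i = tetrad0 (σ i)

theorem swaps_cert : (List.range 5).all (fun j =>
    stabOk sextet0 (sextetSwaps.getD j 0) && (List.range 6).all fun i =>
      imgMask (sextetSwaps.getD j 0) (sextet0.getD i 0) ==
        sextet0.getD (if i == j then j + 1 else if i == j + 1 then j else i) 0) = true := by
  decide +kernel

theorem induced_all (σ : Equiv.Perm (Fin 6)) : Induced σ := by
  let M : Submonoid (Equiv.Perm (Fin 6)) :=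
    { carrier := {σ | Induced σ}
      one_mem' := ⟨1, one_mem _, fun i => one_smul _ _⟩
      mul_mem' := by
        rintro a b ⟨g, hg, ha⟩ ⟨h, hh, hb⟩
        exact ⟨g * h, mul_mem hg hh, fun i => by rw [mul_smul, hb, ha]; rfl⟩ }
  have hle : Submonoid.closure
      (Set.range fun i : Fin 5 => Equiv.swap i.castSucc i.succ) ≤ M := by
    rw [Submonoid.closure_le]
    rintro _ ⟨j, rfl⟩
    have h := swaps_cert
    simp only [List.all_eq_true, List.mem_range, Bool.and_eq_true, beq_iff_eq] at h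
    obtain ⟨hok, himg⟩ := h j.val j.isLt
    have ha : isAut (sextetSwaps.getD j.val 0) = true := (Bool.and_eq_true_iff.mp hok).1
    refine ⟨toPerm (sextetSwaps.getD j.val 0), toPerm_mem_M24 ha, fun i => ?_⟩
    rw [tetrad0, ← pts_imgMask (validPerm_of_isAut ha), himg i.val i.isLt, tetrad0]
    congr 2
    rw [Equiv.swap_apply_def]
    simp only [Fin.ext_iff, Fin.val_castSucc, Fin.val_succ, apply_ite Fin.val]
  rw [Equiv.Perm.mclosure_swap_castSucc_succ] at hle
  exact hle (Submonoid.mem_top σ)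

/-- Every permutation of the tetrads is induced. -/
theorem exists_induced {S : Finset (Finset GolayPt)} (hS : S ∈ sextets) (e : Equiv.Perm ↥S) :
    ∃ g ∈ stabilizer M24 S, ∀ t : ↥S,
      (g : Equiv.Perm GolayPt) • (t : Finset GolayPt) = ((e t : ↥S) : Finset GolayPt) := by
  obtain ⟨k, hk, hkS⟩ := exists_map_sextet sextet0_mem hS
  let ι : Fin 6 → ↥S := fun i =>
    ⟨k • tetrad0 i, by
      have h := Finset.smul_mem_smul_finset (a := k) (tetrad0_mem i)
      rwa [hkS] at h⟩
  have hι : Function.Bijective ι := by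
    refine ⟨fun a b h => tetrad0_bij.1 (MulAction.injective k (congrArg Subtype.val h)),
      fun t => ?_⟩
    have h := t.2
    rw [← congrArg (t.1 ∈ ·) hkS] at h
    obtain ⟨s, hs, hst⟩ := Finset.mem_smul_finset.mp h
    obtain ⟨i, hi⟩ := tetrad0_bij.2 s hs
    exact ⟨i, Subtype.ext (by show k • tetrad0 i = t.1; rw [hi, hst])⟩
  let ε := Equiv.ofBijective ι hι
  obtain ⟨g, hg, hσ⟩ := induced_all ((ε.trans e).trans ε.symm)
  have hmove : ∀ t : ↥S, (k * g * k⁻¹) • (t : Finset GolayPt) = (e t : Finset GolayPt) := by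
    intro t
    have h1 : ∀ i, k • tetrad0 i = (ε i : Finset GolayPt) := fun i => rfl
    have h2 : (t : Finset GolayPt) = k • tetrad0 (ε.symm t) := by
      rw [h1, Equiv.apply_symm_apply]
    rw [h2, mul_smul, mul_smul, inv_smul_smul, hσ, h1]
    simp
  refine ⟨⟨k * g * k⁻¹, mul_mem (mul_mem hk hg) (inv_mem hk)⟩, ?_, hmove⟩
  refine mem_stabilizer_iff.mpr (smul_eq_self_of_maps fun s hs => ?_)
  rw [show (⟨k * g * k⁻¹, mul_mem (mul_mem hk hg) (inv_mem hk)⟩ : ↥M24).1 • s = _ from
    hmove ⟨s, hs⟩]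
  exact (e ⟨s, hs⟩).2

theorem natCard_sextet_fix {S : Finset (Finset GolayPt)} (hS : S ∈ sextets) :
    Nat.card (stabPerm S).ker = 192 := by
  have hs : Function.Surjective (stabPerm S) := by
    intro e
    obtain ⟨g, hg, h⟩ := exists_induced hS e
    exact ⟨⟨g, hg⟩, Equiv.ext fun t => Subtype.ext (h t)⟩
  have h1 := (stabPerm S).ker.index_mul_card
  rw [Subgroup.index_ker, MonoidHom.range_eq_top.mpr hs, Subgroup.card_top, Nat.card_perm,
    Nat.card_eq_fintype_card (α := ↥S), Fintype.card_coe, hS.1, natCard_stabilizer_sextet hS,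
    show Nat.factorial 6 = 720 from rfl] at h1
  omega

theorem natCard_sextet_fix' {S : Finset (Finset GolayPt)} (hS : S ∈ sextets) :
    Nat.card {g : ↥(stabilizer M24 S) //
      ∀ t ∈ S, ((g : ↥M24) : Equiv.Perm GolayPt) • t = t} = 192 := by
  rw [← natCard_sextet_fix hS]
  exact Nat.card_congr (Equiv.subtypeEquivRight fun g => mem_ker_stabPerm.symm)

/-! ### The elements fixing all tetrads -/

/-- The images of all the positions, packed. -/
def imgs (d : ℕ) : ℕ := (List.range 24).foldr (fun i acc => fn d i + 32 * acc) 0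

/-- The codes squaring to the identity. -/
def sextetInvols : List ℕ :=
  sextetKernel.filter fun d => (List.range 24).all fun i => fn d (fn d i) == i

theorem sextetKernel_ok :
    sextetKernel.all (fun d => isAut d && sextet0.all fun m => imgMask d m == m) = true := by
  decide +kernel

theorem sextetKernel_distinct : distinctBits 120 (sextetKernel.map imgs) = true := by
  decide +kernel

theorem sextetKernel_length : sextetKernel.length = 192 ∧ sextetInvols.length = 64 := by
  decide +kernel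

theorem sextetInvols_comm : (sextetInvols.all fun a => sextetInvols.all fun b =>
    (List.range 24).all fun i => fn a (fn b i) == fn b (fn a i)) = true := by
  decide +kernel

/-- The elements of `M24` fixing each tetrad of the standard sextet. -/
def SextetFix0 : Set (Equiv.Perm GolayPt) :=
  {g | g ∈ M24 ∧ ∀ t ∈ toFinS sextet0, g • t = t}

theorem toPerm_injOn_of_imgs {a b : ℕ} (ha : isAut a = true) (hb : isAut b = true)
    (h : toPerm a = toPerm b) : imgs a = imgs b := by
  refine List.foldr_ext _ _ _ fun i hi acc => ?_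
  rw [List.mem_range] at hi
  refine congrArg (· + 32 * acc) ?_
  have e1 := idx_toPerm (validPerm_of_isAut ha) (pt i)
  have e2 := idx_toPerm (validPerm_of_isAut hb) (pt i)
  rw [idx_pt hi] at e1 e2
  rw [← e1, ← e2, h]

/-- The list gives all elements fixing the tetrads of the standard sextet. -/
theorem sextetFix0_eq : SextetFix0 = ↑(sextetKernel.map toPerm).toFinset := by
  have hok := sextetKernel_ok
  simp only [List.all_eq_true, Bool.and_eq_true, beq_iff_eq] at hok
  have hnd := nodup_of_distinctBits _ _ sextetKernel_distinct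
  have hlen := sextetKernel_length.1
  have hnd' : (sextetKernel.map toPerm).Nodup := by
    refine List.Nodup.map_on (fun a ha b hb e => ?_) (List.Nodup.of_map _ hnd)
    exact List.inj_on_of_nodup_map hnd ha hb
      (toPerm_injOn_of_imgs (hok a ha).1 (hok b hb).1 e)
  symm
  refine Set.eq_of_subset_of_ncard_le (fun g hg => ?_) ?_
  · rw [List.coe_toFinset, Set.mem_ofPred_eq, List.mem_map] at hg
    obtain ⟨d, hd, rfl⟩ := hg
    refine ⟨toPerm_mem_M24 (hok d hd).1, fun t ht => ?_⟩
    obtain ⟨m, hm, rfl⟩ := mem_toFinS.mp ht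
    rw [← pts_imgMask (validPerm_of_isAut (hok d hd).1), (hok d hd).2 m hm]
  · rw [Set.ncard_coe_finset, List.toFinset_card_of_nodup hnd', List.length_map, hlen,
      ← natCard_sextet_fix sextet0_mem, ← Nat.card_coe_set_eq]
    refine le_of_eq (Nat.card_congr ⟨fun g => ⟨⟨⟨g.1, g.2.1⟩, ?_⟩, ?_⟩,
      fun g => ⟨g.1.1.1, g.1.1.2, mem_ker_stabPerm.mp g.2⟩, fun g => rfl, fun g => rfl⟩)
    · exact mem_stabilizer_iff.mpr (smul_eq_self_of_maps fun s hs => by
        rw [show (⟨g.1, g.2.1⟩ : ↥M24).1 • s = s from g.2.2 s hs]; exact hs)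
    · exact mem_ker_stabPerm.mpr g.2.2

theorem toPerm_sq_iff {d : ℕ} (hd : validPerm d = true) :
    toPerm d * toPerm d = 1 ↔ ∀ i < 24, fn d (fn d i) = i := by
  constructor
  · intro h i hi
    have := congrArg idx (Equiv.congr_fun h (pt i))
    rwa [Equiv.Perm.mul_apply, idx_toPerm hd, idx_toPerm hd, Equiv.Perm.one_apply,
      idx_pt hi] at this
  · intro h
    refine Equiv.ext fun p => idx_injective ?_
    rw [Equiv.Perm.mul_apply, idx_toPerm hd, idx_toPerm hd, h _ (idx_lt p)]
    rfl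

/-- The involutory elements fixing all tetrads commute. -/
theorem sextetFix0_comm {x y : Equiv.Perm GolayPt} (hx : x ∈ SextetFix0) (hy : y ∈ SextetFix0)
    (hx2 : x * x = 1) (hy2 : y * y = 1) : x * y = y * x := by
  rw [sextetFix0_eq, List.coe_toFinset, Set.mem_ofPred_eq, List.mem_map] at hx hy
  obtain ⟨a, ha, rfl⟩ := hx
  obtain ⟨b, hb, rfl⟩ := hy
  have hok := sextetKernel_ok
  simp only [List.all_eq_true, Bool.and_eq_true, beq_iff_eq] at hok
  have hva := validPerm_of_isAut (hok a ha).1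
  have hvb := validPerm_of_isAut (hok b hb).1
  rw [toPerm_sq_iff hva] at hx2
  rw [toPerm_sq_iff hvb] at hy2
  have hc := sextetInvols_comm
  simp only [List.all_eq_true, sextetInvols, List.mem_filter, List.mem_range, beq_iff_eq] at hc
  refine Equiv.ext fun p => idx_injective ?_
  rw [Equiv.Perm.mul_apply, Equiv.Perm.mul_apply, idx_toPerm hva, idx_toPerm hvb,
    idx_toPerm hvb, idx_toPerm hva]
  exact hc a ⟨ha, hx2⟩ b ⟨hb, hy2⟩ (idx p) (idx_lt p)

theorem ncard_sextetFix0_invol : {g | g ∈ SextetFix0 ∧ g * g = 1}.ncard = 64 := by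
  have hok := sextetKernel_ok
  simp only [List.all_eq_true, Bool.and_eq_true, beq_iff_eq] at hok
  have hnd := nodup_of_distinctBits _ _ sextetKernel_distinct
  have h64 := sextetKernel_length.2
  unfold sextetInvols at h64
  have hset : {g | g ∈ SextetFix0 ∧ g * g = 1} = ↑((sextetKernel.filter fun d =>
      (List.range 24).all fun i => fn d (fn d i) == i).map toPerm).toFinset := by
    ext g
    simp only [Set.mem_ofPred_eq, sextetFix0_eq, List.coe_toFinset, List.mem_map, List.mem_filter,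
      List.all_eq_true, List.mem_range, beq_iff_eq]
    constructor
    · rintro ⟨⟨d, hd, rfl⟩, h2⟩
      exact ⟨d, ⟨hd, (toPerm_sq_iff (validPerm_of_isAut (hok d hd).1)).mp h2⟩, rfl⟩
    · rintro ⟨d, ⟨hd, h2⟩, rfl⟩
      exact ⟨⟨d, hd, rfl⟩, (toPerm_sq_iff (validPerm_of_isAut (hok d hd).1)).mpr h2⟩
  rw [hset, Set.ncard_coe_finset, List.toFinset_card_of_nodup, List.length_map, h64]
  refine List.Nodup.map_on (fun a ha b hb e => ?_) ((List.Nodup.of_map _ hnd).filter _)
  exact List.inj_on_of_nodup_map hnd (List.mem_filter.mp ha).1 (List.mem_filter.mp hb).1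
    (toPerm_injOn_of_imgs (hok a (List.mem_filter.mp ha).1).1 (hok b (List.mem_filter.mp hb).1).1 e)

/-- The normal subgroup of order 64. -/
theorem exists_normal_64 {S : Finset (Finset GolayPt)} (hS : S ∈ sextets) :
    ∃ N : Subgroup ↥(stabilizer M24 S), N.Normal ∧ Nat.card N = 64 ∧ ∀ x ∈ N, x * x = 1 := by
  obtain ⟨k, hk, hkS⟩ := exists_map_sextet sextet0_mem hS
  let c : ↥(stabilizer M24 S) → Equiv.Perm GolayPt := fun x =>
    k⁻¹ * ((x : ↥M24) : Equiv.Perm GolayPt) * k
  have hcmul : ∀ x y, c (x * y) = c x * c y := fun x y => by simp [c, mul_assoc]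
  have hcinj : Function.Injective c := fun x y h =>
    Subtype.ext (Subtype.ext (mul_left_cancel (mul_right_cancel h)))
  have hfix : ∀ x, x ∈ (stabPerm S).ker ↔ c x ∈ SextetFix0 := by
    intro x
    rw [mem_ker_stabPerm]
    constructor
    · intro h
      refine ⟨mul_mem (mul_mem (inv_mem hk) x.1.2) hk, fun t ht => ?_⟩
      rw [mul_smul, mul_smul, h _ (hkS ▸ Finset.smul_mem_smul_finset ht), inv_smul_smul]
    · intro h t ht
      rw [← congrArg (t ∈ ·) hkS] at ht
      obtain ⟨s, hs, rfl⟩ := Finset.mem_smul_finset.mp ht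
      have e := h.2 s hs
      rw [mul_smul, mul_smul, inv_smul_eq_iff] at e
      exact e
  let N : Subgroup ↥(stabilizer M24 S) :=
    { carrier := {x | x ∈ (stabPerm S).ker ∧ x * x = 1}
      one_mem' := ⟨one_mem _, mul_one _⟩
      mul_mem' := by
        rintro x y ⟨hx, hx2⟩ ⟨hy, hy2⟩
        refine ⟨mul_mem hx hy, ?_⟩
        have hxy : x * y = y * x := hcinj (by
          rw [hcmul, hcmul]
          refine sextetFix0_comm ((hfix x).mp hx) ((hfix y).mp hy) ?_ ?_
          · rw [← hcmul, hx2]; simp [c]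
          · rw [← hcmul, hy2]; simp [c])
        calc x * y * (x * y) = x * (y * x) * y := by group
          _ = x * (x * y) * y := by rw [hxy]
          _ = x * x * (y * y) := by group
          _ = 1 := by rw [hx2, hy2, one_mul]
      inv_mem' := by
        rintro x ⟨hx, hx2⟩
        exact ⟨inv_mem hx, by rw [← mul_inv_rev, hx2, inv_one]⟩ }
  refine ⟨N, ⟨fun x hx g => ?_⟩, ?_, fun x hx => hx.2⟩
  · refine ⟨(MonoidHom.normal_ker (stabPerm S)).conj_mem x hx.1 g, ?_⟩
    calc g * x * g⁻¹ * (g * x * g⁻¹) = g * (x * x) * g⁻¹ := by group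
      _ = 1 := by rw [hx.2, mul_one, mul_inv_cancel]
  · rw [← ncard_sextetFix0_invol]
    refine Nat.card_congr (Equiv.ofBijective (fun x : N => (⟨c x.1, (hfix _).mp x.2.1, ?_⟩ :
      {g | g ∈ SextetFix0 ∧ g * g = 1})) ⟨?_, ?_⟩) |>.trans (Nat.card_coe_set_eq _)
    · rw [← hcmul, x.2.2]
      simp [c]
    · intro x y h
      exact Subtype.ext (hcinj (congrArg Subtype.val h))
    · rintro ⟨g, hg, hg2⟩
      have hm : k * g * k⁻¹ ∈ M24 := mul_mem (mul_mem hk hg.1) (inv_mem hk)
      have hs : (⟨k * g * k⁻¹, hm⟩ : ↥M24) ∈ stabilizer M24 S := by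
        refine mem_stabilizer_iff.mpr (smul_eq_self_of_maps fun s hs => ?_)
        rw [← congrArg (s ∈ ·) hkS] at hs
        obtain ⟨t, ht, rfl⟩ := Finset.mem_smul_finset.mp hs
        show (k * g * k⁻¹) • k • t ∈ S
        rw [mul_smul, mul_smul, inv_smul_smul, hg.2 t ht, ← congrArg (k • t ∈ ·) hkS]
        exact Finset.smul_mem_smul_finset ht
      have hc : c ⟨_, hs⟩ = g := by simp [c, mul_assoc]
      have hker : (⟨_, hs⟩ : ↥(stabilizer M24 S)) ∈ (stabPerm S).ker :=
        (hfix _).mpr (hc.symm ▸ hg)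
      exact ⟨⟨⟨_, hs⟩, hker, hcinj (by rw [hcmul, hc, hg2]; simp [c])⟩, Subtype.ext hc⟩

end Cfsg.Agent.Golay
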