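/-
Golay library, part 32: the stabiliser of a trio.

Main results: `exists_map_trio`, `natCard_stabilizer_trio`, `exists_trio_induced`,
`exists_trio_structure`.
-/
import Cfsg.Agent.Lib.Golay.Sextet
import Cfsg.Agent.Lib.Golay.BlockTools
import Cfsg.Agent.Lib.Golay.OctadOrbits
import Cfsg.Agent.Lib.Golay.TrioData

set_option autoImplicit false
set_option maxRecDepth 40000
open scoped Pointwise symmDiff
open Cfsg MulAction

namespace Cfsg.Agent.Golay

/-- `M24` is transitive on trios. -/
theorem exists_map_trio {T T' : Finset (Finset GolayPt)} (hT : T ∈ trios) (hT' : T' ∈ trios) :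
    ∃ g ∈ M24, g • T = T' := by
  obtain ⟨a, b, c, hab, -, -, rfl⟩ := Finset.card_eq_three.mp hT.1
  obtain ⟨a', b', c', hab', -, -, rfl⟩ := Finset.card_eq_three.mp hT'.1
  have ha : a ∈ octads := hT.2.1 a (by simp)
  have hb : b ∈ octads := hT.2.1 b (by simp)
  have ha' : a' ∈ octads := hT'.2.1 a' (by simp)
  have hb' : b' ∈ octads := hT'.2.1 b' (by simp)
  have hd : a ∩ b = ∅ := Finset.disjoint_iff_inter_eq_empty.mp
    (hT.2.2 a (by simp) b (by simp) hab)
  have hd' : a' ∩ b' = ∅ := Finset.disjoint_iff_inter_eq_empty.mp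
    (hT'.2.2 a' (by simp) b' (by simp) hab')
  obtain ⟨t, ht, hta⟩ := exists_map_octad ha ha'
  have hd2 : a' ∩ t • b = ∅ := by
    rw [← hta, ← Finset.smul_finset_inter, hd, Finset.smul_finset_empty]
  obtain ⟨u, hu, hub⟩ := exists_map_octad_pair ha' (smul_mem_octads ht hb) hb' (by rw [hd2, hd'])
  have hu2 := Subgroup.mem_inf.mp hu
  refine ⟨u * t, mul_mem hu2.1 ht, ?_⟩
  have hm : (u * t) • ({a, b, c} : Finset (Finset GolayPt)) ∈ trios :=
    smul_mem_trios (mul_mem hu2.1 ht) hT
  have h1 : a' ∈ (u * t) • ({a, b, c} : Finset (Finset GolayPt)) :=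
    Finset.mem_smul_finset.mpr ⟨a, by simp, by rw [mul_smul, hta]; exact hu2.2⟩
  have h2 : b' ∈ (u * t) • ({a, b, c} : Finset (Finset GolayPt)) :=
    Finset.mem_smul_finset.mpr ⟨b, by simp, by rw [mul_smul, hub]⟩
  rw [trio_third hm h1 h2 hab', trio_third hT' (by simp) (by simp) hab']

theorem orbit_trio {T : Finset (Finset GolayPt)} (hT : T ∈ trios) : orbit M24 T = trios := by
  ext X
  refine ⟨?_, fun hX => ?_⟩
  · rintro ⟨g, rfl⟩
    exact smul_mem_trios g.2 hT
  · obtain ⟨g, hg, h⟩ := exists_map_trio hT hX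
    exact ⟨⟨g, hg⟩, h⟩

theorem natCard_stabilizer_trio {T : Finset (Finset GolayPt)} (hT : T ∈ trios) :
    Nat.card (stabilizer M24 T) = 64512 :=
  natCard_stabilizer_eq T (by rw [orbit_trio hT, ncard_trios]) (by norm_num)

/-- The check that a list of masks codes a trio. -/
def trioOk (L : List ℕ) : Bool :=
  L.length == 3 && distinctBits 24 L && L.all (fun a => isCode a && popcount a == 8 &&
    Nat.blt a 16777216) && L.all fun a => L.all fun b => a == b || a &&& b == 0

theorem toFinS_card_of_trioOk {L : List ℕ} (h : trioOk L = true) : (toFinS L).card = 3 := by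
  simp only [trioOk, Bool.and_eq_true, List.all_eq_true, beq_iff_eq, Nat.blt_eq] at h
  obtain ⟨⟨⟨h3, hnd⟩, hlt⟩, -⟩ := h
  rw [toFinS, List.toFinset_card_of_nodup, List.length_map, h3]
  exact List.Nodup.map_on (fun a ha b hb => pts_injOn (hlt a ha).2 (hlt b hb).2)
    (nodup_of_distinctBits _ _ hnd)

theorem toFinS_mem_trios {L : List ℕ} (h : trioOk L = true) : toFinS L ∈ trios := by
  refine ⟨toFinS_card_of_trioOk h, ?_⟩
  simp only [trioOk, Bool.and_eq_true, List.all_eq_true, beq_iff_eq, Bool.or_eq_true,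
    Nat.blt_eq] at h
  refine ⟨fun o ho => ?_, fun o ho o' ho' hne => ?_⟩
  · obtain ⟨a, ha, rfl⟩ := mem_toFinS.mp ho
    obtain ⟨⟨hc, h8⟩, -⟩ := h.1.2 a ha
    obtain ⟨x, hx, he⟩ := isCode_iff.mp hc
    exact ⟨mem_supports_iff_exists.mpr ⟨x, hx, by rw [he]⟩, by rw [card_pts, h8]⟩
  · obtain ⟨a, ha, rfl⟩ := mem_toFinS.mp ho
    obtain ⟨b, hb, rfl⟩ := mem_toFinS.mp ho'
    rcases h.2 a ha b hb with e | e
    · exact absurd (e ▸ rfl) hne
    · rw [Finset.disjoint_iff_inter_eq_empty, ← pts_and, e, pts_zero]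

theorem trio0_ok : trioOk trio0 = true := by decide +kernel

theorem trio0_mem : toFinS trio0 ∈ trios := toFinS_mem_trios trio0_ok

/-- The stabiliser of the standard trio. -/
abbrev G0 : Subgroup ↥M24 := stabilizer M24 (toFinS trio0)

/-- The seven sextets refining the standard trio. -/
def sxt (i : Fin 7) : Finset (Finset GolayPt) := toFinS (trioSextets.getD i.val [])

/-- Their family. -/
def sxtFam : Finset (Finset (Finset GolayPt)) := Finset.univ.image sxt

theorem trioSextets_ok : (trioSextets.all fun X =>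
    X.length == 6 && distinctBits 24 X && X.all fun a => Nat.blt a 16777216) = true := by
  decide +kernel

theorem trioSextets_apart : ∀ i j : Fin 7, i ≠ j →
    (trioSextets.getD i.val []).any (fun a => !(trioSextets.getD j.val []).contains a) = true := by
  decide +kernel

theorem trioSextets_getD_mem : ∀ i : Fin 7, trioSextets.getD i.val [] ∈ trioSextets := by
  decide +kernel

theorem sxt_props (i : Fin 7) : (sxt i).card = 6 ∧
    ∀ a ∈ trioSextets.getD i.val [], a < 2 ^ 24 := by
  have h := trioSextets_ok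
  simp only [List.all_eq_true, Bool.and_eq_true, beq_iff_eq, Nat.blt_eq] at h
  obtain ⟨⟨h6, hnd⟩, hlt⟩ := h _ (trioSextets_getD_mem i)
  refine ⟨?_, hlt⟩
  rw [sxt, toFinS, List.toFinset_card_of_nodup, List.length_map, h6]
  exact List.Nodup.map_on (fun a ha b hb => pts_injOn (hlt a ha) (hlt b hb))
    (nodup_of_distinctBits _ _ hnd)

theorem sxt_injective : Function.Injective sxt := by
  intro i j h
  by_contra hne
  obtain ⟨a, ha, hb⟩ := List.any_eq_true.mp (trioSextets_apart i j hne)
  have hm : pts a ∈ sxt j := h ▸ mem_toFinS.mpr ⟨a, ha, rfl⟩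
  obtain ⟨b, hb', he⟩ := mem_toFinS.mp hm
  rw [pts_injOn ((sxt_props j).2 b hb') ((sxt_props i).2 a ha) he] at hb'
  rw [List.contains_iff_mem.mpr hb'] at hb
  simp at hb

theorem mem_sxtFam (i : Fin 7) : sxt i ∈ sxtFam := Finset.mem_image_of_mem _ (Finset.mem_univ i)

/-- The elements permuting the seven sextets. -/
abbrev H0 : Subgroup ↥G0 := stabilizer G0 sxtFam

/-- The permutation of the labels. -/
noncomputable def labPerm : ↥H0 →* Equiv.Perm (Fin 7) :=
  have h : ∀ (g : ↥H0) (i : Fin 7), ∃ j, sxt j = (g.1.1 : Equiv.Perm GolayPt) • sxt i := fun g i => by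
    have := Finset.smul_mem_smul_finset (a := g.1) (mem_sxtFam i)
    rw [mem_stabilizer_iff.mp g.2] at this
    obtain ⟨j, -, hj⟩ := Finset.mem_image.mp this
    exact ⟨j, hj⟩
  { toFun := fun g => Equiv.ofBijective (fun i => (h g i).choose)
      (Finite.injective_iff_bijective.mp fun i j e => sxt_injective
        (MulAction.injective (g.1.1 : Equiv.Perm GolayPt)
          (((h g i).choose_spec.symm.trans (congrArg sxt e)).trans (h g j).choose_spec)))
    map_one' := Equiv.ext fun i => sxt_injective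
      ((h 1 i).choose_spec.trans (one_smul _ _))
    map_mul' := fun a b => Equiv.ext fun i => sxt_injective (by
      refine (h (a * b) i).choose_spec.trans ?_
      show ((a.1.1 : Equiv.Perm GolayPt) * b.1.1) • sxt i = sxt (h a (h b i).choose).choose
      rw [(h a _).choose_spec, (h b i).choose_spec, mul_smul]) }

theorem sxt_labPerm (g : ↥H0) (i : Fin 7) :
    sxt (labPerm g i) = (g.1.1 : Equiv.Perm GolayPt) • sxt i :=
  Exists.choose_spec (p := fun j => sxt j = (g.1.1 : Equiv.Perm GolayPt) • sxt i) _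

/-- Some tetrad of `a` and some tetrad of `b` have their sum in `c`. -/
def SumRel (a b c : Finset (Finset GolayPt)) : Prop :=
  ∃ t ∈ a, ∃ u ∈ b, (t ∩ u).card = 2 ∧ symmDiff t u ∈ c

theorem sumRel_smul (g : Equiv.Perm GolayPt) {a b c : Finset (Finset GolayPt)}
    (h : SumRel a b c) : SumRel (g • a) (g • b) (g • c) := by
  obtain ⟨t, ht, u, hu, h2, hc⟩ := h
  refine ⟨g • t, Finset.smul_mem_smul_finset ht, g • u, Finset.smul_mem_smul_finset hu, ?_, ?_⟩
  · rw [← Finset.smul_finset_inter, Finset.card_smul_finset, h2]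
  · rw [← Finset.smul_finset_symmDiff]
    exact Finset.smul_mem_smul_finset hc

/-- The test of `SumRel` on labels. -/
def sumB (i j k : Fin 7) : Bool :=
  (trioSextets.getD i.val []).any fun a => (trioSextets.getD j.val []).any fun b =>
    popcount (a &&& b) == 2 && (trioSextets.getD k.val []).contains (a ^^^ b)

theorem sumRel_iff (i j k : Fin 7) : SumRel (sxt i) (sxt j) (sxt k) ↔ sumB i j k = true := by
  simp only [SumRel, sxt, mem_toFinS, sumB, List.any_eq_true, Bool.and_eq_true, beq_iff_eq,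
    List.contains_iff_mem]
  constructor
  · rintro ⟨_, ⟨a, ha, rfl⟩, _, ⟨b, hb, rfl⟩, h2, c, hc, he⟩
    rw [← pts_xor] at he
    have := pts_injOn ((sxt_props k).2 c hc)
      (Nat.xor_lt_two_pow ((sxt_props i).2 a ha) ((sxt_props j).2 b hb)) he
    exact ⟨a, ha, b, hb, by rw [← card_pts, pts_and]; exact h2, this ▸ hc⟩
  · rintro ⟨a, ha, b, hb, h2, hc⟩
    exact ⟨_, ⟨a, ha, rfl⟩, _, ⟨b, hb, rfl⟩, by rw [← pts_and, card_pts, h2],
      _, hc, pts_xor a b⟩

/-- The vector of a label. -/
def vecOf (i : Fin 7) : Fin 3 → ZMod 2 := fun j => if (i.val + 1).testBit j.val then 1 else 0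

/-- The label of a nonzero vector. -/
def labOf (v : Fin 3 → ZMod 2) : Fin 7 :=
  Fin.ofNat 7 ((v 0).val + 2 * (v 1).val + 4 * (v 2).val - 1)

theorem labOf_spec : ∀ v : Fin 3 → ZMod 2, v ≠ 0 → vecOf (labOf v) = v := by decide +kernel

theorem vecOf_ne_zero : ∀ i, vecOf i ≠ 0 := by decide +kernel

theorem labOf_vecOf : ∀ i, labOf (vecOf i) = i := by decide +kernel

theorem sumB_imp : ∀ i j k, sumB i j k = true → vecOf k = vecOf i + vecOf j := by decide +kernel

theorem sumB_of_vec : ∀ u v : Fin 3 → ZMod 2, u ≠ 0 → v ≠ 0 → u ≠ v →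
    sumB (labOf u) (labOf v) (labOf (u + v)) = true := by
  decide +kernel

/-- The map of vectors induced on labels. -/
def vecMap (σ : Fin 7 → Fin 7) (v : Fin 3 → ZMod 2) : Fin 3 → ZMod 2 :=
  if v = 0 then 0 else vecOf (σ (labOf v))

theorem vecMap_add (g : ↥H0) (u v : Fin 3 → ZMod 2) :
    vecMap (labPerm g) (u + v) = vecMap (labPerm g) u + vecMap (labPerm g) v := by
  have hself : ∀ w : Fin 3 → ZMod 2, w + w = 0 := by decide
  by_cases hu : u = 0
  · simp [vecMap, hu]
  by_cases hv : v = 0
  · simp [vecMap, hv]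
  by_cases huv : u = v
  · rw [huv, hself, hself]
    simp [vecMap]
  have hne : u + v ≠ 0 := by
    revert hu hv huv
    revert u v
    decide +kernel
  simp only [vecMap, if_neg hu, if_neg hv, if_neg hne]
  apply sumB_imp
  rw [← sumRel_iff, sxt_labPerm, sxt_labPerm, sxt_labPerm]
  exact sumRel_smul _ ((sumRel_iff _ _ _).mpr (sumB_of_vec u v hu hv huv))

/-- The linear map on the vectors. -/
noncomputable def labLin (g : ↥H0) : (Fin 3 → ZMod 2) →ₗ[ZMod 2] (Fin 3 → ZMod 2) :=
  (AddMonoidHom.mk' (vecMap (labPerm g)) (vecMap_add g)).toZModLinearMap 2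

theorem labLin_apply (g : ↥H0) (v : Fin 3 → ZMod 2) : labLin g v = vecMap (labPerm g) v := rfl

theorem labLin_mul (g h : ↥H0) : labLin (g * h) = labLin g * labLin h := by
  refine LinearMap.ext fun v => ?_
  show vecMap (labPerm (g * h)) v = vecMap (labPerm g) (vecMap (labPerm h) v)
  unfold vecMap
  by_cases hv : v = 0
  · simp [hv]
  · rw [if_neg hv, if_neg hv, if_neg (vecOf_ne_zero _), labOf_vecOf, map_mul]
    rfl

theorem labLin_one : labLin 1 = 1 := by
  refine LinearMap.ext fun v => ?_
  show vecMap (labPerm 1) v = v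
  unfold vecMap
  by_cases hv : v = 0
  · simp [hv]
  · rw [if_neg hv, map_one]
    exact labOf_spec v hv

theorem labPerm_eq_of_labLin {g h : ↥H0} (e : labLin g = labLin h) : labPerm g = labPerm h := by
  refine Equiv.ext fun i => ?_
  have := congrArg labOf (LinearMap.congr_fun e (vecOf i))
  simp only [labLin_apply, vecMap, if_neg (vecOf_ne_zero i), labOf_vecOf] at this
  exact this

/-- The matrix part. -/
noncomputable def matHom : ↥H0 →* GL (Fin 3) (ZMod 2) :=
  MonoidHom.toHomUnits
    { toFun := fun g => LinearMap.toMatrix' (labLin g)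
      map_one' := by rw [labLin_one]; exact LinearMap.toMatrix'_id
      map_mul' := fun g h => by rw [labLin_mul]; exact LinearMap.toMatrix'_mul _ _ }

theorem labPerm_eq_of_matHom {g h : ↥H0} (e : matHom g = matHom h) : labPerm g = labPerm h :=
  labPerm_eq_of_labLin (LinearMap.toMatrix'.injective (congrArg Units.val e))

theorem matHom_eq_of_labPerm {g h : ↥H0} (e : labPerm g = labPerm h) : matHom g = matHom h := by
  refine Units.ext ?_
  show LinearMap.toMatrix' (labLin g) = LinearMap.toMatrix' (labLin h)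
  refine congrArg LinearMap.toMatrix' (LinearMap.ext fun v => ?_)
  rw [labLin_apply, labLin_apply, e]

theorem trio0_enum : Function.Bijective (fun i : Fin 3 =>
    (⟨pts (trio0.getD i.val 0), mem_toFinS.mpr ⟨_, (by revert i; decide +kernel), rfl⟩⟩ :
      ↥(toFinS trio0))) := by
  rw [Fintype.bijective_iff_injective_and_card]
  refine ⟨fun i j h => ?_, ?_⟩
  · have hlt : ∀ i : Fin 3, trio0.getD i.val 0 < 2 ^ 24 := by decide +kernel
    have hinj : ∀ i j : Fin 3, trio0.getD i.val 0 = trio0.getD j.val 0 → i = j := by decide +kernel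
    exact hinj i j (pts_injOn (hlt i) (hlt j) (congrArg Subtype.val h))
  · rw [Fintype.card_coe, toFinS_card_of_trioOk trio0_ok]
    rfl

/-- The numbering of the three octads. -/
noncomputable def octadEquiv : Fin 3 ≃ ↥(toFinS trio0) := Equiv.ofBijective _ trio0_enum

/-- The permutation of the octads. -/
noncomputable def octHom : ↥H0 →* Equiv.Perm (Fin 3) :=
  (octadEquiv.symm.permCongrHom : Equiv.Perm ↥(toFinS trio0) ≃* Equiv.Perm (Fin 3)).toMonoidHom.comp
    ((stabPerm (toFinS trio0)).comp H0.subtype)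

theorem octHom_spec (g : ↥H0) (i : Fin 3) :
    pts (trio0.getD ((octHom g i : Fin 3) : ℕ) 0) =
      (g.1.1 : Equiv.Perm GolayPt) • pts (trio0.getD i.val 0) := by
  show ((octadEquiv (octadEquiv.symm (stabPerm (toFinS trio0) g.1 (octadEquiv i)))) :
    Finset GolayPt) = _
  rw [Equiv.apply_symm_apply]
  rfl

/-- The quotient map. -/
noncomputable def trioHom : ↥H0 →* GL (Fin 3) (ZMod 2) × Equiv.Perm (Fin 3) :=
  matHom.prod octHom

/-! ### The tables -/

/-- The label to which a code moves a label. -/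
def labImg (d i : ℕ) : ℕ :=
  trioSextets.findIdx fun X => (trioSextets.getD i []).all fun a => X.contains (imgMask d a)

/-- The octad to which a code moves an octad. -/
def octImg (d i : ℕ) : ℕ := trio0.findIdx fun o => o == imgMask d (trio0.getD i 0)

/-- The check that a code gives an element of `H0`. -/
def h0Ok (d : ℕ) : Bool :=
  stabOk trio0 d && ((List.range 7).all fun i => Nat.blt (labImg d i) 7) &&
    (List.range 3).all fun i => Nat.blt (octImg d i) 3

theorem labImg_spec {d : ℕ} (h : h0Ok d = true) (i : Fin 7) :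
    ∃ j : Fin 7, j.val = labImg d i.val ∧ toPerm d • sxt i = sxt j := by
  simp only [h0Ok, Bool.and_eq_true, List.all_eq_true, List.mem_range, Nat.blt_eq] at h
  have hlt := h.1.2 i.val i.isLt
  refine ⟨⟨_, hlt⟩, rfl, ?_⟩
  have hv := validPerm_of_isAut (Bool.and_eq_true_iff.mp h.1.1).1
  have hlen : trioSextets.length = 7 := rfl
  have hp := List.findIdx_getElem
    (p := fun X : List ℕ => (trioSextets.getD i.val []).all fun a => X.contains (imgMask d a))
    (xs := trioSextets) (w := by rw [hlen]; exact hlt)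
  simp only [List.all_eq_true, List.contains_iff_mem] at hp
  refine Finset.eq_of_subset_of_card_le (fun s hs => ?_)
    (by rw [Finset.card_smul_finset, (sxt_props i).1, (sxt_props _).1])
  obtain ⟨t, ht, rfl⟩ := Finset.mem_smul_finset.mp hs
  obtain ⟨a, ha, rfl⟩ := mem_toFinS.mp ht
  refine mem_toFinS.mpr ⟨imgMask d a, ?_, pts_imgMask hv a⟩
  rw [List.getD_eq_getElem trioSextets [] (by rw [hlen]; exact hlt)]
  exact hp a ha

/-- The element with a given code. -/
noncomputable def h0Elem (d : ℕ) (h : h0Ok d = true) : ↥H0 :=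
  ⟨⟨_, toPerm_mem_stab (L := trio0) (d := d)
      (Bool.and_eq_true_iff.mp (Bool.and_eq_true_iff.mp h).1).1⟩, by
    refine mem_stabilizer_iff.mpr (Finset.eq_of_subset_of_card_le ?_
      (by rw [Finset.card_smul_finset]))
    intro X hX
    obtain ⟨Y, hY, rfl⟩ := Finset.mem_smul_finset.mp hX
    obtain ⟨i, -, rfl⟩ := Finset.mem_image.mp hY
    obtain ⟨j, -, hj⟩ := labImg_spec h i
    exact (show _ = sxt j from hj) ▸ mem_sxtFam j⟩

theorem labPerm_h0Elem (d : ℕ) (h : h0Ok d = true) (i : Fin 7) :
    ((labPerm (h0Elem d h) i : Fin 7) : ℕ) = labImg d i.val := by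
  obtain ⟨j, hj, he⟩ := labImg_spec h i
  have h1 := sxt_labPerm (h0Elem d h) i
  rw [show ((h0Elem d h).1.1 : Equiv.Perm GolayPt) • sxt i = sxt j from he] at h1
  rw [sxt_injective h1, hj]

theorem octHom_h0Elem (d : ℕ) (h : h0Ok d = true) (i : Fin 3) :
    ((octHom (h0Elem d h) i : Fin 3) : ℕ) = octImg d i.val := by
  have h1 := octHom_spec (h0Elem d h) i
  simp only [h0Ok, Bool.and_eq_true, List.all_eq_true, List.mem_range, Nat.blt_eq] at h
  have hlt := h.2 i.val i.isLt
  have hv := validPerm_of_isAut (Bool.and_eq_true_iff.mp h.1.1).1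
  have hlen : trio0.length = 3 := rfl
  have hp := List.findIdx_getElem (p := fun o => o == imgMask d (trio0.getD i.val 0)) (xs := trio0)
    (w := by rw [hlen]; exact hlt)
  rw [beq_iff_eq, ← List.getD_eq_getElem trio0 0] at hp
  have hinj : ∀ a b : Fin 3, trio0.getD a.val 0 = trio0.getD b.val 0 → a = b := by decide +kernel
  have hlt24 : ∀ a : Fin 3, trio0.getD a.val 0 < 2 ^ 24 := by decide +kernel
  rw [show ((h0Elem d (by
      simp only [h0Ok, Bool.and_eq_true, List.all_eq_true, List.mem_range, Nat.blt_eq]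
      exact h)).1.1 : Equiv.Perm GolayPt) • pts (trio0.getD i.val 0) =
      pts (trio0.getD (⟨_, hlt⟩ : Fin 3).val 0) from by
    show toPerm d • _ = _
    rw [← pts_imgMask hv, ← hp]; rfl] at h1
  rw [hinj _ _ (pts_injOn (hlt24 _) (hlt24 _) h1)]

/-- The label images, packed. -/
def labKey (d : ℕ) : ℕ := (List.range 7).foldr (fun i a => labImg d i + 8 * a) 0

/-- The octad images, packed. -/
def octKey (d : ℕ) : ℕ := (List.range 3).foldr (fun i a => octImg d i + 4 * a) 0

/-- All images, packed. -/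
def allKey (d : ℕ) : ℕ := (List.range 24).foldr (fun i a => fn d i + 32 * a) 0

theorem trioNormal_ok : trioNormal.all (fun d => h0Ok d &&
    ((List.range 7).all fun i => labImg d i == i) &&
    ((List.range 3).all fun i => octImg d i == i) &&
    (List.range 24).all fun i => fn d (fn d i) == i) = true := by
  decide +kernel

theorem trioLinear_ok : trioLinear.all (fun d => h0Ok d &&
    (List.range 3).all fun i => octImg d i == i) = true := by
  decide +kernel

theorem trioPerms_ok : trioPerms.all h0Ok = true := by decide +kernel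

theorem trio_distinct : distinctBits 120 (trioNormal.map allKey) = true ∧
    distinctBits 21 (trioLinear.map labKey) = true ∧
    distinctBits 6 (trioPerms.map octKey) = true := by
  decide +kernel

theorem trio_lengths : trioNormal.length = 64 ∧ trioLinear.length = 168 ∧
    trioPerms.length = 6 := by
  decide +kernel

theorem octHom_surjective : Function.Surjective octHom := by
  classical
  have hok := trioPerms_ok
  simp only [List.all_eq_true] at hok
  let f : {d // d ∈ trioPerms.toFinset} → Equiv.Perm (Fin 3) := fun d =>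
    octHom (h0Elem d.1 (hok d.1 (List.mem_toFinset.mp d.2)))
  have hk := nodup_of_distinctBits _ _ trio_distinct.2.2
  have hf : Function.Injective f := by
    rintro ⟨a, ha⟩ ⟨b, hb⟩ e
    rw [List.mem_toFinset] at ha hb
    refine Subtype.ext (List.inj_on_of_nodup_map hk ha hb ?_)
    refine List.foldr_ext _ _ _ fun i hi acc => congrArg (· + 4 * acc) ?_
    have := congrArg Fin.val (Equiv.congr_fun e ⟨i, List.mem_range.mp hi⟩)
    rwa [octHom_h0Elem, octHom_h0Elem] at this
  have hb := (Fintype.bijective_iff_injective_and_card f).mpr ⟨hf, by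
    rw [Fintype.card_coe, List.toFinset_card_of_nodup (List.Nodup.of_map _ hk), trio_lengths.2.2,
      Fintype.card_perm, Fintype.card_fin]
    rfl⟩
  intro e
  obtain ⟨d, hd⟩ := hb.2 e
  exact ⟨_, hd⟩

theorem natCard_gl32 : Nat.card (GL (Fin 3) (ZMod 2)) = 168 := by
  haveI : Fact (Nat.Prime 2) := ⟨Nat.prime_two⟩
  rw [Matrix.card_GL_field, Fin.prod_univ_three, ZMod.card]
  rfl

theorem matHom_surjective_fixing (A : GL (Fin 3) (ZMod 2)) :
    ∃ g : ↥H0, matHom g = A ∧ octHom g = 1 := by
  classical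
  have hok := trioLinear_ok
  simp only [List.all_eq_true, Bool.and_eq_true, beq_iff_eq, List.mem_range] at hok
  let f : {d // d ∈ trioLinear.toFinset} → GL (Fin 3) (ZMod 2) := fun d =>
    matHom (h0Elem d.1 (hok d.1 (List.mem_toFinset.mp d.2)).1)
  have hk := nodup_of_distinctBits _ _ trio_distinct.2.1
  have hf : Function.Injective f := by
    rintro ⟨a, ha⟩ ⟨b, hb⟩ e
    rw [List.mem_toFinset] at ha hb
    refine Subtype.ext (List.inj_on_of_nodup_map hk ha hb ?_)
    refine List.foldr_ext _ _ _ fun i hi acc => congrArg (· + 8 * acc) ?_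
    have := congrArg Fin.val
      (Equiv.congr_fun (labPerm_eq_of_matHom e) ⟨i, List.mem_range.mp hi⟩)
    rwa [labPerm_h0Elem, labPerm_h0Elem] at this
  haveI : Fintype (GL (Fin 3) (ZMod 2)) := Fintype.ofFinite _
  have hb := (Fintype.bijective_iff_injective_and_card f).mpr ⟨hf, by
    rw [Fintype.card_coe, List.toFinset_card_of_nodup (List.Nodup.of_map _ hk), trio_lengths.2.1,
      ← Nat.card_eq_fintype_card, natCard_gl32]⟩
  obtain ⟨d, hd⟩ := hb.2 A
  refine ⟨_, hd, Equiv.ext fun i => Fin.ext ?_⟩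
  rw [octHom_h0Elem, (hok d.1 (List.mem_toFinset.mp d.2)).2 i.val i.isLt]
  rfl

theorem trioHom_surjective : Function.Surjective trioHom := by
  rintro ⟨A, e⟩
  obtain ⟨s, hs⟩ := octHom_surjective e
  obtain ⟨k, hk, hk'⟩ := matHom_surjective_fixing (A * (matHom s)⁻¹)
  exact ⟨k * s, Prod.ext (by show matHom (k * s) = A; rw [map_mul, hk, inv_mul_cancel_right])
    (by show octHom (k * s) = e; rw [map_mul, hk', hs, one_mul])⟩

/-- The kernel has exactly the 64 tabulated elements and everything permutes the seven sextets. -/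
theorem trio_kernel : H0 = ⊤ ∧ Nat.card trioHom.ker = 64 ∧
    ∀ x ∈ trioHom.ker, x * x = 1 := by
  classical
  have hok := trioNormal_ok
  simp only [List.all_eq_true, Bool.and_eq_true, beq_iff_eq, List.mem_range] at hok
  have hk := nodup_of_distinctBits _ _ trio_distinct.1
  let f : {d // d ∈ trioNormal.toFinset} → trioHom.ker := fun d =>
    ⟨h0Elem d.1 (hok d.1 (List.mem_toFinset.mp d.2)).1.1.1, by
      obtain ⟨⟨⟨h0, hl⟩, ho⟩, -⟩ := hok d.1 (List.mem_toFinset.mp d.2)
      rw [MonoidHom.mem_ker]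
      refine Prod.ext ?_ (Equiv.ext fun i => Fin.ext ?_)
      · show matHom _ = 1
        rw [← map_one matHom]
        refine matHom_eq_of_labPerm (Equiv.ext fun i => Fin.ext ?_)
        rw [labPerm_h0Elem, map_one, hl i.val i.isLt]
        rfl
      · show ((octHom _ i : Fin 3) : ℕ) = i.val
        rw [octHom_h0Elem, ho i.val i.isLt]⟩
  have hf : Function.Injective f := by
    rintro ⟨a, ha⟩ ⟨b, hb⟩ e
    rw [List.mem_toFinset] at ha hb
    refine Subtype.ext (List.inj_on_of_nodup_map hk ha hb ?_)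
    refine List.foldr_ext _ _ _ fun i hi acc => congrArg (· + 32 * acc) ?_
    have hi' := List.mem_range.mp hi
    have ea := idx_toPerm (validPerm_of_isAut
      (Bool.and_eq_true_iff.mp (Bool.and_eq_true_iff.mp (Bool.and_eq_true_iff.mp
        (hok a ha).1.1.1).1).1).1) (pt i)
    have eb := idx_toPerm (validPerm_of_isAut
      (Bool.and_eq_true_iff.mp (Bool.and_eq_true_iff.mp (Bool.and_eq_true_iff.mp
        (hok b hb).1.1.1).1).1).1) (pt i)
    rw [idx_pt hi'] at ea eb
    rw [← ea, ← eb]
    exact congrArg (fun x : trioHom.ker => idx ((x.1.1.1 : Equiv.Perm GolayPt) (pt i))) e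
  have h64 : 64 ≤ Nat.card trioHom.ker := by
    refine le_trans (le_of_eq ?_) (Nat.card_le_card_of_injective f hf)
    rw [Nat.card_eq_fintype_card, Fintype.card_coe,
      List.toFinset_card_of_nodup (List.Nodup.of_map _ hk), trio_lengths.1]
  have hmul := trioHom.ker.index_mul_card
  rw [Subgroup.index_ker, MonoidHom.range_eq_top.mpr trioHom_surjective, Subgroup.card_top,
    Nat.card_prod, natCard_gl32, Nat.card_perm, Nat.card_fin,
    show Nat.factorial 3 = 6 from rfl] at hmul
  have hle : Nat.card ↥H0 ≤ 64512 :=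
    natCard_stabilizer_trio trio0_mem ▸ Subgroup.card_le_card_group H0
  have hker : Nat.card trioHom.ker = 64 := by omega
  refine ⟨Subgroup.eq_top_of_card_eq _ ?_, hker, ?_⟩
  · rw [natCard_stabilizer_trio trio0_mem, ← hmul, hker]
  · intro x hx
    have hb : Function.Bijective f := by
      haveI : Fintype trioHom.ker := Fintype.ofFinite _
      rw [Fintype.bijective_iff_injective_and_card]
      refine ⟨hf, ?_⟩
      rw [Fintype.card_coe, List.toFinset_card_of_nodup (List.Nodup.of_map _ hk), trio_lengths.1,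
        ← Nat.card_eq_fintype_card, hker]
    obtain ⟨d, hd⟩ := hb.2 ⟨x, hx⟩
    obtain rfl : (f d).1 = x := congrArg Subtype.val hd
    obtain ⟨⟨⟨h0, -⟩, -⟩, h2⟩ := hok d.1 (List.mem_toFinset.mp d.2)
    have hv := validPerm_of_isAut
      (Bool.and_eq_true_iff.mp (Bool.and_eq_true_iff.mp (Bool.and_eq_true_iff.mp h0).1).1).1
    refine Subtype.ext (Subtype.ext (Subtype.ext (Equiv.ext fun p => idx_injective ?_)))
    show idx (toPerm d.1 (toPerm d.1 p)) = idx p
    rw [idx_toPerm hv, idx_toPerm hv, h2 _ (idx_lt p)]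

/-- The quotient map on the whole stabiliser of the standard trio. -/
noncomputable def trioHom' : ↥G0 →* GL (Fin 3) (ZMod 2) × Equiv.Perm (Fin 3) :=
  trioHom.comp ((MulEquiv.subgroupCongr trio_kernel.1).symm.toMonoidHom.comp
    Subgroup.topEquiv.symm.toMonoidHom)

/-- The stabilisers of conjugate trios. -/
def stabConj {T T' : Finset (Finset GolayPt)} (t : ↥M24) (h : t • T = T') :
    ↥(stabilizer M24 T) ≃* ↥(stabilizer M24 T') where
  toFun x := ⟨t * x.1 * t⁻¹, by
    rw [mem_stabilizer_iff, ← h, mul_smul, mul_smul, inv_smul_smul, mem_stabilizer_iff.mp x.2]⟩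
  invFun x := ⟨t⁻¹ * x.1 * t, by
    rw [mem_stabilizer_iff, mul_smul, mul_smul, h, mem_stabilizer_iff.mp x.2, ← h, inv_smul_smul]⟩
  left_inv x := Subtype.ext (by simp [mul_assoc])
  right_inv x := Subtype.ext (by simp [mul_assoc])
  map_mul' x y := Subtype.ext (by simp [mul_assoc])

/-- Structure of a trio stabiliser. -/
theorem exists_trio_structure {T : Finset (Finset GolayPt)} (hT : T ∈ trios) :
    ∃ (N : Subgroup ↥(stabilizer M24 T)) (_ : N.Normal), Nat.card N = 64 ∧
      (∀ x ∈ N, x * x = 1) ∧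
      Nonempty (↥(stabilizer M24 T) ⧸ N ≃* GL (Fin 3) (ZMod 2) × Equiv.Perm (Fin 3)) := by
  obtain ⟨k, hk, hkT⟩ := exists_map_trio trio0_mem hT
  let e : ↥(stabilizer M24 T) ≃* ↥G0 :=
    (stabConj (T := toFinS trio0) (T' := T) ⟨k, hk⟩ hkT).symm
  let c : ↥G0 ≃* ↥H0 :=
    Subgroup.topEquiv.symm.trans (MulEquiv.subgroupCongr trio_kernel.1).symm
  let π := trioHom'.comp e.toMonoidHom
  have hs : Function.Surjective π := by
    intro y
    obtain ⟨x, hx⟩ := trioHom_surjective y
    exact ⟨e.symm (c.symm x), by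
      show trioHom (c (e (e.symm (c.symm x)))) = y
      rw [MulEquiv.apply_symm_apply, MulEquiv.apply_symm_apply, hx]⟩
  refine ⟨π.ker, π.normal_ker, ?_, ?_, ⟨QuotientGroup.quotientKerEquivOfSurjective π hs⟩⟩
  · rw [← trio_kernel.2.1]
    exact Nat.card_congr
      { toFun := fun x => ⟨c (e x.1), x.2⟩
        invFun := fun y => ⟨e.symm (c.symm y.1), by
          show trioHom (c (e (e.symm (c.symm y.1)))) = 1
          rw [MulEquiv.apply_symm_apply, MulEquiv.apply_symm_apply]
          exact y.2⟩
        left_inv := fun x => Subtype.ext (by simp)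
        right_inv := fun y => Subtype.ext (by simp) }
  · intro x hx
    have := trio_kernel.2.2 (c (e x)) hx
    rw [← map_mul, ← map_mul] at this
    exact (e.trans c).injective (this.trans (map_one (e.trans c)).symm)

/-- Every permutation of the octads of a trio is induced. -/
theorem exists_trio_induced {T : Finset (Finset GolayPt)} (hT : T ∈ trios) (e : Equiv.Perm ↥T) :
    ∃ g ∈ stabilizer M24 T, ∀ o : ↥T,
      (g : Equiv.Perm GolayPt) • (o : Finset GolayPt) = ((e o : ↥T) : Finset GolayPt) := by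
  obtain ⟨k, hk, hkT⟩ := exists_map_trio trio0_mem hT
  let β : ↥(toFinS trio0) → ↥T := fun o => ⟨k • o.1, hkT ▸ Finset.smul_mem_smul_finset o.2⟩
  have hβ : Function.Bijective β := by
    rw [Fintype.bijective_iff_injective_and_card]
    refine ⟨fun a b h => Subtype.ext (MulAction.injective k (congrArg Subtype.val h)), ?_⟩
    rw [Fintype.card_coe, Fintype.card_coe, ← hkT, Finset.card_smul_finset]
  let ε := octadEquiv.trans (Equiv.ofBijective β hβ)
  obtain ⟨g, hg⟩ := octHom_surjective ((ε.trans e).trans ε.symm)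
  let s := (stabConj (T := toFinS trio0) (T' := T) ⟨k, hk⟩ hkT) g.1
  refine ⟨s.1, s.2, fun o => ?_⟩
  have h1 := octHom_spec g (ε.symm o)
  rw [hg] at h1
  simp only [Equiv.trans_apply, Equiv.apply_symm_apply] at h1
  have hε : ∀ i, (ε i : Finset GolayPt) = k • pts (trio0.getD i.val 0) := fun i => rfl
  have ho : (o : Finset GolayPt) = k • pts (trio0.getD (ε.symm o).val 0) := by
    rw [← hε, Equiv.apply_symm_apply]
  rw [ho]
  show (k * (g.1.1 : Equiv.Perm GolayPt) * k⁻¹) • k • pts _ = _
  rw [mul_smul, mul_smul, inv_smul_smul, ← h1, ← hε, Equiv.apply_symm_apply]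

end Cfsg.Agent.Golay
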