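/-
Subgroups of small index of M24.

* `exists_pair_of_card` : a subgroup of order `887040` (index 276) stabilises a pair
* `exists_of_two_full` : a subgroup of order `322560`, `967680` or `138240` (index 759, 253, 1771)
  stabilises an octad or a sextet and has the order of that stabiliser
-/
import Cfsg.Agent.Lib.Golay.M22Aut
import Cfsg.Agent.Lib.Golay.MaximalSets
import Cfsg.Agent.Lib.Golay.SextetStab
import Cfsg.Agent.Lib.Golay.TrioStab

set_option autoImplicit false
open scoped Pointwise
open Cfsg MulAction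

namespace Cfsg.Agent.Golay.Index

variable {H L : Subgroup ↥M24}

/-- The set `W` is invariant under `L`. -/
def Inv (L : Subgroup ↥M24) (W : Finset GolayPt) : Prop := ∀ h ∈ L, h • W = W

theorem inv_of_forall {W : Finset GolayPt} (h : ∀ g ∈ L, ∀ y ∈ W, g • y ∈ W) : Inv L W := fun g hg =>
  Finset.eq_of_subset_of_card_le (fun y hy => by
    obtain ⟨z, hz, rfl⟩ := Finset.mem_smul_finset.mp hy
    exact h g hg z hz) (Finset.card_smul_finset _ _).ge

theorem Inv.mem_iff {W : Finset GolayPt} (hW : Inv L W) {g : ↥M24} (hg : g ∈ L) (y : GolayPt) :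
    g • y ∈ W ↔ y ∈ W := by
  conv_lhs => rw [← hW g hg]
  exact Finset.smul_mem_smul_finset_iff g

theorem Inv.sdiff {V W : Finset GolayPt} (hV : Inv L V) (hW : Inv L W) : Inv L (V \ W) :=
  inv_of_forall fun g hg y hy => by
    rw [Finset.mem_sdiff] at hy ⊢
    rwa [hV.mem_iff hg, hW.mem_iff hg]

theorem inv_univ : Inv L Finset.univ := inv_of_forall fun _ _ _ _ => Finset.mem_univ _

theorem inv_singleton {w : GolayPt} (h : ∀ g ∈ L, g • w = w) : Inv L {w} :=
  inv_of_forall fun g hg y hy => by
    rw [Finset.mem_singleton] at hy ⊢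
    rw [hy, h g hg]

open Classical in
/-- The orbit of a point, as a finset. -/
noncomputable def orb (L : Subgroup ↥M24) (x : GolayPt) : Finset GolayPt :=
  Finset.univ.filter fun y => ∃ h ∈ L, h • x = y

theorem mem_orb {x y : GolayPt} : y ∈ orb L x ↔ ∃ h ∈ L, h • x = y := by simp [orb]

theorem mem_orb_self (x : GolayPt) : x ∈ orb L x := mem_orb.mpr ⟨1, one_mem L, one_smul _ x⟩

theorem inv_orb (x : GolayPt) : Inv L (orb L x) := inv_of_forall fun g hg y hy => by
  obtain ⟨h, hh, rfl⟩ := mem_orb.mp hy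
  exact mem_orb.mpr ⟨g * h, mul_mem hg hh, mul_smul g h x⟩

theorem orb_subset {x : GolayPt} {W : Finset GolayPt} (hW : Inv L W) (hx : x ∈ W) :
    orb L x ⊆ W := fun y hy => by
  obtain ⟨h, hh, rfl⟩ := mem_orb.mp hy
  exact (hW.mem_iff hh x).mpr hx

theorem card_inf_stabilizer_mul {X : Type*} [MulAction ↥M24 X] (L : Subgroup ↥M24) (x : X) :
    Nat.card ↥(L ⊓ stabilizer ↥M24 x) * (orbit L x).ncard = Nat.card L := by
  have h := (stabilizer L x).index_mul_card
  rw [index_stabilizer] at h
  rw [← h, mul_comm]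
  congr 1
  exact Nat.card_congr
    { toFun := fun g => ⟨⟨g.1, g.2.1⟩, g.2.2⟩
      invFun := fun g => ⟨g.1.1, g.1.2, g.2⟩ }

theorem card_orb (x : GolayPt) :
    Nat.card ↥(L ⊓ stabilizer ↥M24 x) * (orb L x).card = Nat.card L := by
  rw [← card_inf_stabilizer_mul L x]
  congr 1
  rw [← Set.ncard_coe_finset]
  congr 1
  ext y
  rw [Finset.mem_coe, mem_orb]
  exact ⟨fun ⟨h, hh, e⟩ => ⟨⟨h, hh⟩, e⟩, fun ⟨h, e⟩ => ⟨h.1, h.2, e⟩⟩

theorem card_orb_dvd (x : GolayPt) : (orb L x).card ∣ Nat.card L := by
  rw [← card_orb (L := L) x]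
  exact dvd_mul_left _ _

theorem le_stabilizer_of_inv {W : Finset GolayPt} (hW : Inv L W) :
    L ≤ stabilizer ↥M24 W := fun g hg => hW g hg

theorem natCard_stabilizer_kset {W : Finset GolayPt} (h5 : W.card ≤ 5) :
    Nat.card (stabilizer ↥M24 W) * Nat.choose 24 W.card = 244823040 := by
  have h := (stabilizer M24 W).index_mul_card
  rw [index_stabilizer, ncard_orbit_kset h5, natCard_M24] at h
  rw [← h, mul_comm]

/-- Orders forced by an invariant set of at most four points. -/
theorem dvd_of_inv_kset {W : Finset GolayPt} (h5 : W.card ≤ 5) (hW : Inv L W) :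
    Nat.card L * Nat.choose 24 W.card ∣ 244823040 := by
  rw [← natCard_stabilizer_kset h5]
  exact Nat.mul_dvd_mul_right (Subgroup.card_dvd_of_le (le_stabilizer_of_inv hW)) _

theorem orb_one {x : GolayPt} (h : (orb L x).card = 1) : ∀ g ∈ L, g • x = x := fun g hg => by
  obtain ⟨a, ha⟩ := Finset.card_eq_one.mp h
  have h1 := mem_orb_self (L := L) x
  have h2 : g • x ∈ orb L x := mem_orb.mpr ⟨g, hg, rfl⟩
  rw [ha, Finset.mem_singleton] at h1 h2
  rw [h2, h1]

theorem exists_prime_elem {p : ℕ} [Fact p.Prime] (h : p ∣ Nat.card L) :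
    ∃ g ∈ L, orderOf ((g : ↥M24) : Equiv.Perm GolayPt) = p := by
  obtain ⟨⟨g, hg⟩, ho⟩ := exists_prime_orderOf_dvd_card' p h
  exact ⟨g, hg, by rw [← ho, Subgroup.orderOf_mk, Subgroup.orderOf_coe]⟩

theorem orbit_mod {p : ℕ} [Fact p.Prime] {g : ↥M24} (hg : g ∈ L)
    (ho : orderOf (g : Equiv.Perm GolayPt) = p) {W : Finset GolayPt} (hW : Inv L W) :
    ∃ f, W.card % p = f % p ∧ f ≤ ((g : Equiv.Perm GolayPt).supportᶜ \ (Finset.univ \ W)).card := by
  classical
  refine ⟨_, (card_mod_of_invariant (σ := (g : Equiv.Perm GolayPt)) (O := W)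
    (by rw [← ho, pow_orderOf_eq_one]) fun y => hW.mem_iff hg y).symm, ?_⟩
  refine Finset.card_le_card fun y hy => ?_
  obtain ⟨hy1, hy2⟩ := Finset.mem_filter.mp hy
  simp [hy1, hy2]

theorem card_fixed_eleven {g : Equiv.Perm GolayPt} (hgM : g ∈ M24) (ho : orderOf g = 11) :
    (g.supportᶜ).card = 2 := by
  haveI : Fact (Nat.Prime 11) := ⟨by norm_num⟩
  obtain ⟨hmod, hlt⟩ := natCard_fixed_of_prime_order ho
  by_contra hne
  obtain ⟨s, hsF, hs⟩ := Finset.exists_subset_card_eq (show 3 ≤ (g.supportᶜ).card by omega)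
  obtain ⟨a, b, c, hab, hac, hbc, rfl⟩ := Finset.card_eq_three.mp hs
  have hf : ∀ y ∈ ({a, b, c} : Finset GolayPt), g y = y := fun y hy => by simpa using hsF hy
  have h1 := eq_one_of_pow_eleven hgM (by rw [← ho, pow_orderOf_eq_one]) hab hac hbc
    (hf a (by simp)) (hf b (by simp)) (hf c (by simp))
  rw [h1, orderOf_one] at ho
  norm_num at ho

/-- Possible orbit lengths of a subgroup containing elements of orders 7 and 11. -/
theorem orbit_sizes (h7 : 7 ∣ Nat.card L) (h11 : 11 ∣ Nat.card L) {W : Finset GolayPt}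
    (hW : Inv L W) (V : Finset GolayPt) (hV : ∀ v ∈ V, v ∉ W ∧ ∀ g ∈ L, g • v = v) :
    (∃ f, W.card % 7 = f % 7 ∧ f + V.card ≤ 3) ∧ (∃ f, W.card % 11 = f % 11 ∧ f + V.card ≤ 2) := by
  haveI : Fact (Nat.Prime 7) := ⟨by norm_num⟩
  haveI : Fact (Nat.Prime 11) := ⟨by norm_num⟩
  have key : ∀ (g : ↥M24), g ∈ L →
      ((g : Equiv.Perm GolayPt).supportᶜ \ (Finset.univ \ W)).card + V.card ≤
        ((g : Equiv.Perm GolayPt).supportᶜ).card := by
    intro g hg
    rw [← Finset.card_union_of_disjoint]
    · refine Finset.card_le_card (Finset.union_subset Finset.sdiff_subset fun v hv => ?_)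
      rw [Finset.mem_compl, Equiv.Perm.notMem_support]
      exact (hV v hv).2 g hg
    · rw [Finset.disjoint_right]
      intro v hv hv'
      simp [(hV v hv).1] at hv'
  constructor
  · obtain ⟨g, hg, ho⟩ := exists_prime_elem h7
    obtain ⟨f, hf, hle⟩ := orbit_mod hg ho hW
    refine ⟨f, hf, ?_⟩
    have := key g hg
    rw [natCard_fixed_order_seven g.2 ho] at this
    omega
  · obtain ⟨g, hg, ho⟩ := exists_prime_elem h11
    obtain ⟨f, hf, hle⟩ := orbit_mod hg ho hW
    refine ⟨f, hf, ?_⟩
    have := key g hg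
    rw [card_fixed_eleven g.2 ho] at this
    omega

theorem sizes276 : ∀ n : ℕ, n < 25 → n ∣ 887040 → n ≠ 1 → n % 7 < 4 → n % 11 < 3 →
    n = 2 ∨ n = 22 ∨ n = 24 := by
  intro n hn hd h1 h7 h11
  interval_cases n <;> omega

theorem sizes276' : ∀ n : ℕ, n < 24 → n ∣ 36960 → n % 7 < 3 → n % 11 < 2 →
    n = 1 ∨ n = 22 := by
  intro n hn hd h7 h11
  interval_cases n <;> omega

/-- A subgroup of index 276 stabilises a pair of points. -/
theorem exists_pair_of_card (hc : Nat.card H = 887040) :
    ∃ s : Finset GolayPt, s.card = 2 ∧ Inv H s := by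
  classical
  have hsize : ∀ y, (orb H y).card = 2 ∨ (orb H y).card = 22 ∨ (orb H y).card = 24 := by
    intro y
    obtain ⟨⟨f, hf, hf'⟩, e, he, he'⟩ := orbit_sizes (L := H) (by rw [hc]; norm_num)
      (by rw [hc]; norm_num) (inv_orb y) ∅ (by simp)
    have hle : (orb H y).card < 25 := Nat.lt_succ_of_le ((Finset.card_le_univ _).trans (by decide))
    have hd := card_orb_dvd (L := H) y
    rw [hc] at hd
    have h1 : (orb H y).card ≠ 1 := fun h => by
      have := dvd_of_inv_kset (L := H) (W := orb H y) (by omega) (inv_orb y)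
      rw [hc, h] at this
      revert this
      decide +kernel
    rw [Finset.card_empty] at hf' he'
    exact sizes276 _ hle hd h1 (by omega) (by omega)
  by_cases ht : ∀ y, (orb H y).card = 24
  swap
  · push Not at ht
    obtain ⟨y, hy⟩ := ht
    rcases hsize y with h | h | h
    · exact ⟨_, h, inv_orb y⟩
    · refine ⟨Finset.univ \ orb H y, ?_, inv_univ.sdiff (inv_orb y)⟩
      rw [Finset.card_sdiff_of_subset (Finset.subset_univ _), Finset.card_univ, h]
      rfl
    · exact absurd h hy
  exfalso
  -- transitive case: point stabilisers fix exactly one further point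
  have hL : ∀ x, Nat.card ↥(H ⊓ stabilizer ↥M24 x) = 36960 := fun x => by
    have := card_orb (L := H) x
    rw [ht x, hc] at this
    omega
  have hfix : ∀ x : GolayPt, ∃ w : GolayPt, w ≠ x ∧ (∀ g ∈ H ⊓ stabilizer ↥M24 x, g • w = w) ∧
      ∀ z, (∀ g ∈ H ⊓ stabilizer ↥M24 x, g • z = z) → z = x ∨ z = w := by
    intro x
    set L := H ⊓ stabilizer ↥M24 x with hLdef
    have hLx : ∀ g ∈ L, g • x = x := fun g hg => hg.2
    have hsz : ∀ y, y ≠ x → (orb L y).card = 1 ∨ (orb L y).card = 22 := by
      intro y hy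
      have hxO : x ∉ orb L y := fun h => by
        obtain ⟨g, hg, e⟩ := mem_orb.mp h
        exact hy (MulAction.injective g (e.trans (hLx g hg).symm))
      obtain ⟨⟨f, hf, hf'⟩, e, he, he'⟩ := orbit_sizes (L := L) (by rw [hL]; norm_num)
        (by rw [hL]; norm_num) (inv_orb y) {x} (by simpa [hxO] using hLx)
      have hle : (orb L y).card < 24 := by
        refine lt_of_lt_of_le (Finset.card_lt_card (Finset.ssubset_univ_iff.mpr fun h => ?_)) le_rfl
        exact hxO (h ▸ Finset.mem_univ x)
      have hd := card_orb_dvd (L := L) y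
      rw [hL] at hd
      rw [Finset.card_singleton] at hf' he'
      exact sizes276' _ hle hd (by omega) (by omega)
    obtain ⟨y, hyx, hy⟩ : ∃ y, y ≠ x ∧ (orb L y).card = 22 := by
      by_contra hno
      push Not at hno
      have hbot : L = ⊥ := by
        rw [Subgroup.eq_bot_iff_forall]
        intro g hg
        refine Subtype.ext (Equiv.ext fun z => ?_)
        show g • z = z
        by_cases hz : z = x
        · rw [hz]; exact hLx g hg
        · exact orb_one ((hsz z hz).resolve_right (hno z hz)) g hg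
      have := hL x
      rw [← hLdef, hbot, Subgroup.card_bot] at this
      omega
    have hxO : x ∉ orb L y := fun h => by
      obtain ⟨g, hg, e⟩ := mem_orb.mp h
      exact hyx (MulAction.injective g (e.trans (hLx g hg).symm))
    have hR : ((Finset.univ \ orb L y) \ {x}).card = 1 := by
      rw [Finset.card_sdiff_of_subset (by simp [hxO]), Finset.card_sdiff_of_subset (Finset.subset_univ _),
        Finset.card_univ, hy]
      rfl
    obtain ⟨w, hw⟩ := Finset.card_eq_one.mp hR
    have hwi : Inv L {w} := hw ▸ (inv_univ.sdiff (inv_orb y)).sdiff (inv_singleton hLx)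
    have hw' : w ∈ (Finset.univ \ orb L y) \ {x} := by rw [hw]; simp
    refine ⟨w, by simp at hw'; exact hw'.2, fun g hg => by
      simpa using (hwi.mem_iff hg w).mpr (by simp), fun z hz => ?_⟩
    by_contra hne
    push Not at hne
    have hzO : z ∈ orb L y := by
      by_contra hzO
      have : z ∈ (Finset.univ \ orb L y) \ {x} := by simp [hzO, hne.1]
      rw [hw] at this
      exact hne.2 (Finset.mem_singleton.mp this)
    have : orb L y ⊆ {z} := by
      intro u hu
      obtain ⟨g, hg, rfl⟩ := mem_orb.mp hu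
      obtain ⟨k, hk, rfl⟩ := mem_orb.mp hzO
      rw [Finset.mem_singleton, ← hz (g * k⁻¹) (mul_mem hg (inv_mem hk)), mul_smul, inv_smul_smul]
    have := Finset.card_le_card this
    rw [hy, Finset.card_singleton] at this
    omega
  choose w hwx hwfix hwuniq using hfix
  have hstab : ∀ x, H ⊓ stabilizer ↥M24 x = H ⊓ stabilizer ↥M24 (w x) := fun x =>
    Subgroup.eq_of_le_of_card_ge (fun g hg => ⟨hg.1, hwfix x g hg⟩) (by rw [hL, hL])
  obtain ⟨x⟩ : Nonempty GolayPt := inferInstance
  haveI : Fact (Nat.Prime 7) := ⟨by norm_num⟩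
  obtain ⟨g, hg, ho⟩ := exists_prime_elem (L := H ⊓ stabilizer ↥M24 x) (p := 7)
    (by rw [hL]; norm_num)
  obtain ⟨z, hzF, hz⟩ := Finset.exists_mem_notMem_of_card_lt_card
    (s := ({x, w x} : Finset GolayPt)) (t := ((g : Equiv.Perm GolayPt).supportᶜ))
    (by rw [natCard_fixed_order_seven g.2 ho]; exact Finset.card_le_two.trans_lt (by norm_num))
  simp only [Finset.mem_insert, Finset.mem_singleton, not_or] at hz
  have hF : ∀ u, g • u = u → u = x ∨ u = w x ∨ u = z := by
    intro u hu
    by_contra hno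
    push Not at hno
    have hsub : ({u, x, w x, z} : Finset GolayPt) ⊆ (g : Equiv.Perm GolayPt).supportᶜ := by
      intro v hv
      simp only [Finset.mem_insert, Finset.mem_singleton] at hv
      rcases hv with rfl | rfl | rfl | rfl
      · simpa using (show (g : Equiv.Perm GolayPt) v = v from hu)
      · simpa using (show (g : Equiv.Perm GolayPt) v = v from hg.2)
      · simpa using (show (g : Equiv.Perm GolayPt) (w x) = w x from hwfix x g hg)
      · exact hzF
    have := Finset.card_le_card hsub
    rw [natCard_fixed_order_seven g.2 ho, Finset.card_insert_of_notMem (by simp [hno.1, hno.2.1, hno.2.2]),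
      Finset.card_insert_of_notMem (by simp [(hwx x).symm, Ne.symm hz.1]),
      Finset.card_pair (Ne.symm hz.2)] at this
    omega
  have hgz : g • z = z := Equiv.Perm.notMem_support.mp (Finset.mem_compl.mp hzF)
  have hgw : g • w z = w z := hwfix z g ⟨hg.1, hgz⟩
  have hxz : H ⊓ stabilizer ↥M24 x = H ⊓ stabilizer ↥M24 z → False := fun e => by
    rcases hwuniq x z (fun k hk => ((e ▸ hk : k ∈ H ⊓ stabilizer ↥M24 z)).2) with h | h
    · exact hz.1 h
    · exact hz.2 h
  rcases hF _ hgw with h | h | h
  · exact hxz (by rw [← h, ← hstab z])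
  · exact hxz (by rw [hstab x, ← h, ← hstab z])
  · exact hwx z h

/-- A subgroup with a full Sylow 2-subgroup contains the translations of some octad. -/
theorem exists_octadFix_le (h : 2 ^ 10 ∣ Nat.card H) :
    ∃ o ∈ octads, ∀ g : ↥M24, (g : Equiv.Perm GolayPt) ∈ octadFix o → g ∈ H := by
  haveI : Fact (Nat.Prime 2) := ⟨Nat.prime_two⟩
  let o := pts octad0
  let E : Subgroup ↥M24 := (octadFix o).subgroupOf M24
  have hE : IsPGroup 2 E := by
    refine IsPGroup.of_card (n := 4) ?_
    rw [Nat.card_congr (Subgroup.subgroupOfEquivOfLe (inf_le_left : octadFix o ≤ M24)).toEquiv,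
      natCard_octadFix octad0_mem]
    rfl
  obtain ⟨Q, hQ⟩ := hE.exists_le_sylow
  obtain ⟨P, hP⟩ := Sylow.exists_subgroup_card_pow_prime 2 (G := H) h
  have hfac : Nat.factorization (Nat.card ↥M24) 2 = 10 := by
    rw [natCard_M24, show (244823040 : ℕ) = 2 ^ 10 * 239085 by norm_num,
      Nat.factorization_mul (by norm_num) (by norm_num), Nat.factorization_pow]
    simp [Nat.factorization_eq_zero_of_not_dvd (show ¬ 2 ∣ 239085 by norm_num),
      Nat.prime_two.factorization]
  let R : Sylow 2 ↥M24 := Sylow.ofCard (P.map H.subtype)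
    (by rw [Subgroup.card_map_of_injective H.subtype_injective, hP, hfac])
  obtain ⟨t, ht⟩ := exists_smul_eq ↥M24 Q R
  refine ⟨(t : Equiv.Perm GolayPt) • o, smul_mem_octads t.2 octad0_mem, fun g hg => ?_⟩
  have h1 : t⁻¹ * g * t ∈ E := conj_mem_octadFix t.2 hg
  have h2 : g ∈ (R : Subgroup ↥M24) := by
    rw [← ht, Sylow.coe_subgroup_smul]
    exact ⟨_, hQ h1, by simp [mul_assoc]⟩
  exact Subgroup.map_subtype_le P h2

theorem inv_octad_of_five {o W : Finset GolayPt} (ho : o ∈ octads) (hW : Inv L W) (hWo : W ⊆ o)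
    (h5 : 5 ≤ W.card) : Inv L o := fun g hg => by
  refine octad_eq_of_five (smul_mem_octads g.2 ho) ho (h5.trans ?_)
  refine Finset.card_le_card (Finset.subset_inter ?_ hWo)
  rw [← hW g hg]
  exact Finset.smul_finset_subset_smul_finset hWo

theorem sdiff_orb_subset {o : Finset GolayPt} {p : GolayPt} (ho : o ∈ octads) (hp : p ∉ o)
    (hE : ∀ g : ↥M24, (g : Equiv.Perm GolayPt) ∈ octadFix o → g ∈ L) :
    Finset.univ \ orb L p ⊆ o := fun q hq => by
  by_contra hqo
  obtain ⟨g, hg, hgq⟩ := exists_octad_point ho hp hqo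
  exact (Finset.mem_sdiff.mp hq).2 (mem_orb.mpr ⟨⟨g, hg.1⟩, hE _ hg, hgq⟩)

/-- Action bound inside an octad stabiliser. -/
theorem card_le_of_inv {o A B : Finset GolayPt} (ho : o ∈ octads) (hA : Inv L A) (hB : Inv L B)
    (hrest : ∀ g ∈ L, ∀ y ∈ o, y ∉ A → y ∉ B → g • y = y) :
    Nat.card L ≤ 16 * (A.card.factorial * B.card.factorial) := by
  let f : L →* Equiv.Perm ↥A × Equiv.Perm ↥B :=
    { toFun := fun g => (((g : ↥M24) : Equiv.Perm GolayPt).subtypePerm fun y => hA.mem_iff g.2 y,
        ((g : ↥M24) : Equiv.Perm GolayPt).subtypePerm fun y => hB.mem_iff g.2 y)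
      map_one' := rfl
      map_mul' := fun _ _ => rfl }
  have hker : Nat.card f.ker ≤ 16 := by
    rw [← natCard_octadFix ho]
    refine Nat.card_le_card_of_injective (fun g => ⟨((g.1 : ↥M24) : Equiv.Perm GolayPt),
      mem_octadFix.mpr ⟨(g.1 : ↥M24).2, fun y hy => ?_⟩⟩) ?_
    · have hg := MonoidHom.mem_ker.mp g.2
      by_cases hyA : y ∈ A
      · exact congrArg Subtype.val (Equiv.Perm.ext_iff.mp (congrArg Prod.fst hg) ⟨y, hyA⟩)
      by_cases hyB : y ∈ B
      · exact congrArg Subtype.val (Equiv.Perm.ext_iff.mp (congrArg Prod.snd hg) ⟨y, hyB⟩)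
      exact hrest g.1 g.1.2 y hy hyA hyB
    · intro a b h
      exact Subtype.ext (Subtype.ext (Subtype.ext (congrArg
        (fun u : ↥(octadFix o) => (u : Equiv.Perm GolayPt)) h)))
  have hidx : f.ker.index ≤ A.card.factorial * B.card.factorial := by
    rw [Subgroup.index_ker]
    refine (Subgroup.card_le_card_group _).trans ?_
    rw [Nat.card_prod, Nat.card_perm, Nat.card_perm, Nat.card_eq_fintype_card,
      Nat.card_eq_fintype_card, Fintype.card_coe, Fintype.card_coe]
  rw [← f.ker.index_mul_card, mul_comm 16]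
  exact Nat.mul_le_mul hidx hker

section Transitive

variable {x : GolayPt} {W : Finset GolayPt}
  (htr : ∀ a : GolayPt, ∃ h ∈ H, h • x = a) (hW : Inv (H ⊓ stabilizer ↥M24 x) W)
include htr hW

/-- A subset of the point stabiliser transported over a transitive group. -/
theorem exists_transport :
    ∃ Wf : GolayPt → Finset GolayPt, Wf x = W ∧
      ∀ h ∈ H, ∀ y, Wf (h • y) = h • Wf y := by
  choose t ht htx using htr
  have hwd : ∀ h ∈ H, h • W = t (h • x) • W := fun h hh => by
    have := hW ((t (h • x))⁻¹ * h) (Subgroup.mem_inf.mpr ⟨mul_mem (inv_mem (ht _)) hh, by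
      rw [mem_stabilizer_iff, mul_smul, inv_smul_eq_iff, htx]⟩)
    rw [mul_smul, inv_smul_eq_iff] at this
    exact this
  refine ⟨fun y => t y • W, ?_, fun h hh y => ?_⟩
  · have := hwd 1 (one_mem H)
    rw [one_smul, one_smul] at this
    exact this.symm
  · show t (h • y) • W = h • t y • W
    conv_lhs => rw [← htx y]
    rw [← mul_smul, ← mul_smul]
    exact (hwd _ (mul_mem hh (ht y))).symm

omit hW in
theorem transport_card {Wf : GolayPt → Finset GolayPt}
    (hf : ∀ h ∈ H, ∀ y, Wf (h • y) = h • Wf y) (y : GolayPt) : (Wf y).card = (Wf x).card := by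
  obtain ⟨h, hh, rfl⟩ := htr y
  rw [hf h hh, Finset.card_smul_finset]

omit hW in
theorem transport_symm {Wf : GolayPt → Finset GolayPt}
    (hf : ∀ h ∈ H, ∀ y, Wf (h • y) = h • Wf y) (hxW : x ∉ Wf x)
    (hΩ : ∀ p, p ≠ x → p ∉ Wf x → (Wf x).card < (orb (H ⊓ stabilizer ↥M24 x) p).card) :
    ∀ y z, z ∈ Wf y → y ∈ Wf z := by
  classical
  have hWx : Inv (H ⊓ stabilizer ↥M24 x) (Wf x) := fun g hg => by
    rw [← hf g hg.1, show g • x = x from hg.2]
  let V := Finset.univ.filter fun y => x ∈ Wf y
  have hVcard : ∀ a, (Finset.univ.filter fun y => a ∈ Wf y).card = V.card := fun a => by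
    obtain ⟨h, hh, rfl⟩ := htr a
    rw [← Finset.card_smul_finset h V]
    congr 1
    ext y
    rw [← Finset.inv_smul_mem_iff]
    simp only [V, Finset.mem_filter, Finset.mem_univ, true_and]
    rw [hf _ (inv_mem hh), ← Finset.inv_smul_mem_iff, inv_inv]
  have hV : V.card = (Wf x).card := by
    have h1 := Finset.sum_card_bipartiteAbove_eq_sum_card_bipartiteBelow
      (s := (Finset.univ : Finset GolayPt)) (t := (Finset.univ : Finset GolayPt))
      (r := fun y a => a ∈ Wf y)
    simp only [Finset.bipartiteAbove, Finset.bipartiteBelow, Finset.filter_univ_mem, hVcard,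
      transport_card htr hf, Finset.sum_const, Finset.card_univ, smul_eq_mul] at h1
    exact (Nat.eq_of_mul_eq_mul_left (by decide) h1).symm
  have hVinv : Inv (H ⊓ stabilizer ↥M24 x) V := inv_of_forall fun g hg y hy => by
    simp only [V, Finset.mem_filter, Finset.mem_univ, true_and] at hy ⊢
    rw [hf g hg.1]
    nth_rewrite 1 [← show g • x = x from hg.2]
    exact Finset.smul_mem_smul_finset hy
  have hsub : V ⊆ Wf x := fun p hp => by
    by_contra hpW
    have hpx : p ≠ x := fun e => hxW (by
      subst e; simpa [V] using hp)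
    have := Finset.card_le_card (orb_subset hVinv hp)
    have := hΩ p hpx hpW
    omega
  have heq := Finset.eq_of_subset_of_card_le hsub hV.ge
  intro y z hz
  obtain ⟨h, hh, rfl⟩ := htr y
  rw [hf h hh] at hz
  obtain ⟨u, hu, rfl⟩ := Finset.mem_smul_finset.mp hz
  rw [hf h hh]
  rw [← heq] at hu
  exact Finset.smul_mem_smul_finset (Finset.mem_filter.mp hu).2

omit hW in
/-- Transported sets closed at `x` give a block system. -/
theorem transport_block {Wf : GolayPt → Finset GolayPt}
    (hf : ∀ h ∈ H, ∀ y, Wf (h • y) = h • Wf y) (hxW : x ∉ Wf x)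
    (hc : ∀ y ∈ Wf x, Wf y ⊆ insert x (Wf x)) :
    ∀ y z, z ∈ insert y (Wf y) → insert z (Wf z) = insert y (Wf y) := by
  have hself : ∀ y, y ∉ Wf y := fun y => by
    obtain ⟨h, hh, rfl⟩ := htr y
    rw [hf h hh, Finset.smul_mem_smul_finset_iff]
    exact hxW
  have hbase : ∀ z ∈ insert x (Wf x), insert z (Wf z) = insert x (Wf x) := by
    intro z hz
    rcases Finset.mem_insert.mp hz with rfl | hz'
    · rfl
    refine Finset.eq_of_subset_of_card_le (Finset.insert_subset hz (hc z hz')) ?_
    rw [Finset.card_insert_of_notMem hxW, Finset.card_insert_of_notMem (hself z),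
      transport_card htr hf z]
  intro y z hz
  obtain ⟨h, hh, rfl⟩ := htr y
  rw [hf h hh, ← Finset.smul_finset_insert] at hz ⊢
  obtain ⟨u, hu, rfl⟩ := Finset.mem_smul_finset.mp hz
  rw [hf h hh, ← Finset.smul_finset_insert, hbase u hu]

end Transitive

theorem card_eq_mul_image {F : Finset GolayPt} {B : GolayPt → Finset GolayPt} {k : ℕ}
    (hB : ∀ y, y ∈ B y) (hk : ∀ y, (B y).card = k) (hblk : ∀ y z, z ∈ B y → B z = B y)
    (hF : ∀ y ∈ F, B y ⊆ F) : F.card = k * (F.image B).card := by
  classical
  rw [Finset.card_eq_sum_card_image B F, mul_comm, ← smul_eq_mul, ← Finset.sum_const]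
  refine Finset.sum_congr rfl fun b hb => ?_
  obtain ⟨y, hy, rfl⟩ := Finset.mem_image.mp hb
  rw [← hk y]
  congr 1
  ext z
  rw [Finset.mem_filter]
  exact ⟨fun ⟨_, e⟩ => e ▸ hB z, fun h => ⟨hF y hy h, hblk y z h⟩⟩

theorem smul_blocks {B : GolayPt → Finset GolayPt} (hf : ∀ h ∈ H, ∀ y, B (h • y) = h • B y)
    {h : ↥M24} (hh : h ∈ H) : h • Finset.univ.image B = Finset.univ.image B := by
  refine Finset.eq_of_subset_of_card_le (fun b hb => ?_) (Finset.card_smul_finset _ _).ge
  obtain ⟨c, hc, rfl⟩ := Finset.mem_smul_finset.mp hb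
  obtain ⟨y, -, rfl⟩ := Finset.mem_image.mp hc
  exact Finset.mem_image.mpr ⟨h • y, Finset.mem_univ _, hf h hh y⟩

/-- Triples cannot form a block system when 5 divides the point stabiliser. -/
theorem false_of_triples {B : GolayPt → Finset GolayPt} {x : GolayPt}
    (hf : ∀ h ∈ H, ∀ y, B (h • y) = h • B y) (hB : ∀ y, y ∈ B y) (hk : ∀ y, (B y).card = 3)
    (hblk : ∀ y z, z ∈ B y → B z = B y) (h5 : 5 ∣ Nat.card ↥(H ⊓ stabilizer ↥M24 x)) : False := by
  haveI : Fact (Nat.Prime 5) := ⟨by norm_num⟩
  obtain ⟨g, hg, ho⟩ := exists_prime_elem h5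
  have hlt := card_fixed_lt_nine (p := 5) (by norm_num) g.2 ho
  obtain ⟨hmod, -⟩ := natCard_fixed_of_prime_order ho
  have hdiv : (g : Equiv.Perm GolayPt).supportᶜ.card =
      3 * ((g : Equiv.Perm GolayPt).supportᶜ.image B).card := by
    refine card_eq_mul_image hB hk hblk fun y hy z hz => ?_
    have hy' : g • y = y := Equiv.Perm.notMem_support.mp (Finset.mem_compl.mp hy)
    have hgB : g • B y = B y := by rw [← hf g hg.1, hy']
    have hm := card_mod_of_invariant (p := 5) (σ := (g : Equiv.Perm GolayPt)) (O := B y)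
      (by rw [← ho, pow_orderOf_eq_one]) fun u => by
        conv_lhs => rw [← hgB]
        exact Finset.smul_mem_smul_finset_iff g
    have hle := Finset.card_filter_le (B y) fun u => (g : Equiv.Perm GolayPt) u = u
    rw [hk] at hm hle
    have := Finset.eq_of_subset_of_card_le (Finset.filter_subset
      (fun u => (g : Equiv.Perm GolayPt) u = u) (B y)) (by rw [hk]; omega)
    rw [← this] at hz
    simpa using (Finset.mem_filter.mp hz).2
  omega

/-- Octads cannot form a block system for a subgroup larger than a trio stabiliser. -/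
theorem false_of_octads {B : GolayPt → Finset GolayPt} (hf : ∀ h ∈ H, ∀ y, B (h • y) = h • B y)
    (hB : ∀ y, y ∈ B y) (ho : ∀ y, B y ∈ octads)
    (hblk : ∀ y z, z ∈ B y → B z = B y) (hc : 64512 < Nat.card H) : False := by
  have hcard := card_eq_mul_image (F := Finset.univ) hB (fun y => (ho y).2) hblk
    (fun y _ => Finset.subset_univ _)
  have hT : Finset.univ.image B ∈ trios := by
    refine ⟨?_, ?_, ?_⟩
    · rw [Finset.card_univ, show Fintype.card GolayPt = 24 from rfl] at hcard
      omega
    · intro o h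
      obtain ⟨y, -, rfl⟩ := Finset.mem_image.mp h
      exact ho y
    · intro o h o' h' hne
      obtain ⟨y, -, rfl⟩ := Finset.mem_image.mp h
      obtain ⟨z, -, rfl⟩ := Finset.mem_image.mp h'
      exact Finset.disjoint_left.mpr fun u hu hu' => hne ((hblk y u hu).symm.trans (hblk z u hu'))
  have := Subgroup.card_le_of_le (H := H) (K := stabilizer ↥M24 (Finset.univ.image B))
    fun h hh => smul_blocks hf hh
  rw [natCard_stabilizer_trio hT] at this
  omega

/-- Tetrad blocks with full block stabilisers form a sextet. -/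
theorem blocks_mem_sextets {B : GolayPt → Finset GolayPt} (hf : ∀ h ∈ H, ∀ y, B (h • y) = h • B y)
    (hB : ∀ y, y ∈ B y) (hk : ∀ y, (B y).card = 4)
    (hblk : ∀ y z, z ∈ B y → B z = B y) (htr : ∀ a b : GolayPt, ∃ h ∈ H, h • a = b)
    (hc : Nat.card H = 138240) : Finset.univ.image B ∈ sextets := by
  obtain ⟨x⟩ : Nonempty GolayPt := inferInstance
  have h6 : (Finset.univ.image B).card = 6 := by
    have := card_eq_mul_image (F := Finset.univ) hB hk hblk (fun y _ => Finset.subset_univ _)
    rw [Finset.card_univ, show Fintype.card GolayPt = 24 from rfl] at this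
    omega
  have horb : orbit H (B x) = (Finset.univ.image B : Set (Finset GolayPt)) := by
    ext b
    rw [Finset.coe_image, Finset.coe_univ, Set.image_univ]
    constructor
    · rintro ⟨h, rfl⟩
      exact ⟨(h : ↥M24) • x, hf h h.2 x⟩
    · rintro ⟨y, rfl⟩
      obtain ⟨h, hh, rfl⟩ := htr x y
      exact ⟨⟨h, hh⟩, (hf h hh x).symm⟩
  have hfull : stabilizer ↥M24 (B x) ≤ H := by
    have h1 := card_inf_stabilizer_mul H (B x)
    rw [horb, Set.ncard_coe_finset, h6, hc] at h1
    have h2 := natCard_stabilizer_kset (W := B x) (by rw [hk]; norm_num)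
    rw [hk, show Nat.choose 24 4 = 10626 by decide +kernel] at h2
    rw [← Subgroup.eq_of_le_of_card_ge (inf_le_right : H ⊓ stabilizer ↥M24 (B x) ≤ _) (by omega)]
    exact inf_le_left
  suffices h : Finset.univ.image B = sextetOf (B x) from h ▸ sextetOf_mem (hk x)
  refine Finset.eq_of_subset_of_card_le (fun b hb => ?_) (by rw [h6, (sextetOf_mem (hk x)).1])
  obtain ⟨y, -, rfl⟩ := Finset.mem_image.mp hb
  by_cases hxy : B y = B x
  · rw [hxy]; exact Finset.mem_insert_self _ _
  have hyT : y ∉ B x := fun h => hxy (hblk x y h)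
  obtain ⟨ho, hso⟩ := octadOf_spec (s := insert y (B x))
    (by rw [Finset.card_insert_of_notMem hyT, hk])
  refine Finset.mem_insert_of_mem (Finset.mem_image.mpr ⟨octadOf (insert y (B x)),
    mem_octadsThrough.mpr ⟨ho, (Finset.subset_insert _ _).trans hso⟩, ?_⟩)
  refine (Finset.eq_of_subset_of_card_le (fun z hz => Finset.mem_sdiff.mpr ⟨?_, fun h => ?_⟩) ?_).symm
  · by_contra hzo
    have hle : (octadOf (insert y (B x)))ᶜ ⊆ B y := fun q hq => by
      obtain ⟨g, hg, hgq⟩ := exists_octad_point ho hzo (Finset.mem_compl.mp hq)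
      obtain ⟨hgM, hgf⟩ := mem_octadFix.mp hg
      have hgH : (⟨g, hgM⟩ : ↥M24) ∈ H := hfull (by
        show g • B x = B x
        rw [smul_eq_image, Finset.image_congr (f := g) (g := id) fun p hp =>
          hgf p (hso (Finset.mem_insert_of_mem hp)), Finset.image_id])
      have h1 := hf _ hgH y
      rw [show (⟨g, hgM⟩ : ↥M24) • y = y from hgf y (hso (Finset.mem_insert_self _ _))] at h1
      rw [h1, ← hgq]
      exact Finset.smul_mem_smul_finset (a := (⟨g, hgM⟩ : ↥M24)) hz
    have := Finset.card_le_card hle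
    rw [Finset.card_compl, ho.2, hk, show Fintype.card GolayPt = 24 from rfl] at this
    omega
  · exact hxy ((hblk y z hz).symm.trans (hblk x z h))
  · rw [Finset.card_sdiff_of_subset ((Finset.subset_insert _ _).trans hso), ho.2, hk, hk]

/-- No transitive subgroup of order 138240 has point stabilisers fixing an octad. -/
theorem false_of_octad_stab {x : GolayPt} {o : Finset GolayPt} (ho : o ∈ octads) (hxo : x ∈ o)
    (hc : Nat.card H = 138240) (htr : ∀ a, ∃ h ∈ H, h • x = a)
    (hLo : Inv (H ⊓ stabilizer ↥M24 x) o) (hL : Nat.card ↥(H ⊓ stabilizer ↥M24 x) = 5760)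
    (hE : ∀ g : ↥M24, (g : Equiv.Perm GolayPt) ∈ octadFix o → g ∈ H) : False := by
  classical
  set L := H ⊓ stabilizer ↥M24 x with hLdef
  have hLx : ∀ g ∈ L, g • x = x := fun g hg => hg.2
  have hS : Inv L (o \ {x}) := hLo.sdiff (inv_singleton hLx)
  have hS7 : (o \ {x}).card = 7 := by
    rw [Finset.card_sdiff_of_subset (by simpa using hxo), ho.2]
    rfl
  have hsize : ∀ V : Finset GolayPt, Inv L V → V ⊆ o \ {x} →
      V.card = 0 ∨ V.card = 1 ∨ V.card = 6 ∨ V.card = 7 := by
    intro V hV hVS
    have hle := card_le_of_inv (L := L) ho hV (hS.sdiff hV) fun g hg y hy hyV hyB => by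
      have : y = x := by
        by_contra hne
        exact hyB (by simp [hy, hne, hyV])
      rw [this]; exact hLx g hg
    rw [hL, Finset.card_sdiff_of_subset hVS, hS7] at hle
    have h7 : V.card < 8 := Nat.lt_succ_of_le (hS7 ▸ Finset.card_le_card hVS)
    have : ∀ j < 8, 5760 ≤ 16 * (j.factorial * (7 - j).factorial) →
        j = 0 ∨ j = 1 ∨ j = 6 ∨ j = 7 := by decide +kernel
    exact this _ h7 hle
  have horb : ∀ y ∈ o \ {x}, (orb L y).card = 1 ∨ (orb L y).card = 6 := by
    intro y hy
    have hd := card_orb_dvd (L := L) y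
    rw [hL] at hd
    rcases hsize _ (inv_orb y) (orb_subset hS hy) with h | h | h | h
    · exact absurd h (Finset.card_ne_zero_of_mem (mem_orb_self y))
    · exact Or.inl h
    · exact Or.inr h
    · rw [h] at hd; norm_num at hd
  obtain ⟨w, hw, hw1⟩ : ∃ w ∈ o \ {x}, (orb L w).card = 1 := by
    obtain ⟨y, hy⟩ := Finset.card_pos.mp (by rw [hS7]; norm_num : 0 < (o \ {x}).card)
    rcases horb y hy with h | h
    · exact ⟨y, hy, h⟩
    have hR : ((o \ {x}) \ orb L y).card = 1 := by
      rw [Finset.card_sdiff_of_subset (orb_subset hS hy), h, hS7]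
    obtain ⟨w, hw⟩ := Finset.card_eq_one.mp hR
    have hwi : Inv L {w} := hw ▸ hS.sdiff (inv_orb y)
    refine ⟨w, (Finset.mem_sdiff.mp (by rw [hw]; simp : w ∈ (o \ {x}) \ orb L y)).1, ?_⟩
    have := Finset.card_le_card (orb_subset hwi (Finset.mem_singleton_self w))
    have := Finset.card_pos.mpr ⟨w, mem_orb_self (L := L) w⟩
    rw [Finset.card_singleton] at *
    omega
  have hwx : w ≠ x := by simp at hw; exact hw.2
  have hfix : ∀ z, (∀ g ∈ L, g • z = z) → z = x ∨ z = w := by
    intro z hz
    by_contra hne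
    push Not at hne
    by_cases hzo : z ∈ o
    · have hinv : Inv L {w, z} := inv_of_forall fun g hg v hv => by
        simp only [Finset.mem_insert, Finset.mem_singleton] at hv ⊢
        rcases hv with rfl | rfl
        · exact Or.inl (orb_one hw1 g hg)
        · exact Or.inr (hz g hg)
      have h2 := Finset.card_pair (Ne.symm hne.2)
      have := hsize _ hinv (by
        simp only [Finset.insert_subset_iff, Finset.singleton_subset_iff]
        exact ⟨hw, by simp [hzo, hne.1]⟩)
      omega
    · obtain ⟨p, hp, hpz⟩ := Finset.exists_mem_notMem_of_card_lt_card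
        (s := insert z o) (t := Finset.univ) (by
          rw [Finset.card_insert_of_notMem hzo, ho.2]; decide)
      simp only [Finset.mem_insert, not_or] at hpz
      obtain ⟨g, hg, hgp⟩ := exists_octad_point ho hzo hpz.2
      have hgL : (⟨g, hg.1⟩ : ↥M24) ∈ L :=
        ⟨hE _ hg, (mem_octadFix.mp hg).2 x hxo⟩
      exact hpz.1 (hgp.symm.trans (hz _ hgL))
  obtain ⟨Wf, hWfx, hf⟩ := exists_transport htr (W := {w}) (inv_singleton (orb_one hw1))
  have hcard1 : ∀ y, (Wf y).card = 1 := fun y => by rw [transport_card htr hf, hWfx]; rfl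
  choose P hP using fun y => Finset.card_eq_one.mp (hcard1 y)
  have hPf : ∀ h ∈ H, ∀ y, P (h • y) = h • P y := fun h hh y => by
    have := hf h hh y
    rw [hP, hP, Finset.smul_finset_singleton] at this
    exact Finset.singleton_injective this
  have hPx : P x = w := Finset.singleton_injective ((hP x).symm.trans hWfx)
  have hPne : ∀ y, P y ≠ y := fun y => by
    obtain ⟨h, hh, rfl⟩ := htr y
    rw [hPf h hh, hPx]
    exact fun e => hwx (MulAction.injective h e)
  -- the partner of `w` is `x`
  have hLw : ∀ y, H ⊓ stabilizer ↥M24 y = H ⊓ stabilizer ↥M24 (P y) := by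
    intro y
    have hcard : ∀ a, Nat.card ↥(H ⊓ stabilizer ↥M24 a) = 5760 := fun a => by
      have h1 := card_orb (L := H) a
      have : orb H a = Finset.univ := Finset.eq_univ_iff_forall.mpr fun b => by
        obtain ⟨h, hh, rfl⟩ := htr a
        obtain ⟨k, hk, rfl⟩ := htr b
        exact mem_orb.mpr ⟨k * h⁻¹, mul_mem hk (inv_mem hh), by rw [mul_smul, inv_smul_smul]⟩
      rw [this, hc, Finset.card_univ, show Fintype.card GolayPt = 24 from rfl] at h1
      omega
    refine Subgroup.eq_of_le_of_card_ge (fun g hg => ⟨hg.1, ?_⟩) (by rw [hcard, hcard])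
    show g • P y = P y
    rw [← hPf g hg.1, show g • y = y from hg.2]
  obtain ⟨y, hy, hyw⟩ := Finset.exists_mem_notMem_of_card_lt_card
    (s := ({w} : Finset GolayPt)) (t := o \ {x}) (by rw [hS7, Finset.card_singleton]; norm_num)
  simp only [Finset.mem_singleton] at hyw
  have hy6 : (orb L y).card = 6 := (horb y hy).resolve_left fun h => by
    rcases hfix y (orb_one h) with e | e
    · simp [e] at hy
    · exact hyw e
  have hynot : P y ≠ x ∧ P y ≠ w := by
    constructor <;> intro e
    all_goals
      have e2 : H ⊓ stabilizer ↥M24 y = L := by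
        rw [hLw y, e]
        try rw [← hPx, ← hLw x]
      rcases hfix y (fun g hg => (e2 ▸ hg : g ∈ H ⊓ stabilizer ↥M24 y).2) with e' | e'
      · simp [e'] at hy
      · exact hyw e'
  have hPo : P y ∈ o := by
    by_contra hno
    have hsub : orb L (P y) ⊆ (orb L y).image P := fun q hq => by
      obtain ⟨g, hg, rfl⟩ := mem_orb.mp hq
      exact Finset.mem_image.mpr ⟨g • y, mem_orb.mpr ⟨g, hg, rfl⟩, hPf g hg.1 y⟩
    have hbig : oᶜ ⊆ orb L (P y) := fun q hq => by
      obtain ⟨g, hg, hgq⟩ := exists_octad_point ho hno (Finset.mem_compl.mp hq)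
      exact mem_orb.mpr ⟨⟨g, hg.1⟩, ⟨hE _ hg, (mem_octadFix.mp hg).2 x hxo⟩, hgq⟩
    have := (Finset.card_le_card (hbig.trans hsub)).trans Finset.card_image_le
    rw [hy6, Finset.card_compl, ho.2, show Fintype.card GolayPt = 24 from rfl] at this
    omega
  -- the stabiliser of `y` fixes four points of the octad
  have hbound := card_le_of_inv (L := L ⊓ stabilizer ↥M24 y) ho (A := o \ {x, w, y, P y})
    (B := ∅)
    (inv_of_forall fun g hg v hv => by
      have h1 : g • P y = P y := by rw [← hPf g hg.1.1, show g • y = y from hg.2]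
      have h2 : ∀ {u}, g • u = u → (g • v = u ↔ v = u) := fun {u} hu =>
        ⟨fun e => MulAction.injective g (e.trans hu.symm), fun e => e ▸ hu⟩
      simp only [Finset.mem_sdiff, Finset.mem_insert, Finset.mem_singleton] at hv ⊢
      rw [hLo.mem_iff hg.1, h2 (hLx g hg.1), h2 (orb_one hw1 g hg.1), h2 hg.2, h2 h1]
      exact hv)
    (fun g _ => Finset.smul_finset_empty g)
    (fun g hg v hv hvA _ => by
      simp only [Finset.mem_sdiff, Finset.mem_insert, Finset.mem_singleton, hv, true_and,
        not_not] at hvA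
      rcases hvA with e | e | e | e <;> subst e
      · exact hLx g hg.1
      · exact orb_one hw1 g hg.1
      · exact hg.2
      · rw [← hPf g hg.1.1, show g • y = y from hg.2])
  have h4 : ({x, w, y, P y} : Finset GolayPt).card = 4 := by
    simp at hy
    rw [Finset.card_insert_of_notMem (by simp [hwx.symm, Ne.symm hy.2, Ne.symm hynot.1]),
      Finset.card_insert_of_notMem (by simp [Ne.symm hyw, Ne.symm hynot.2]),
      Finset.card_pair (hPne y).symm]
  have hsub4 : ({x, w, y, P y} : Finset GolayPt) ⊆ o := by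
    simp only [Finset.mem_sdiff] at hw hy
    simp [Finset.insert_subset_iff, hxo, hw.1, hy.1, hPo]
  rw [Finset.card_sdiff_of_subset hsub4, h4, ho.2, Finset.card_empty] at hbound
  have hm := card_orb (L := L) y
  rw [hy6, hL] at hm
  have : (8 - 4).factorial * Nat.factorial 0 = 24 := rfl
  omega

/-- Subgroups of index 759, 253 or 1771. -/
theorem exists_of_two_full {N : ℕ} (hc : Nat.card H = N)
    (hN : N = 322560 ∨ N = 967680 ∨ N = 138240) :
    (N = 322560 ∧ ∃ o ∈ octads, H = stabilizer ↥M24 o) ∨
      (N = 138240 ∧ ∃ S ∈ sextets, H = stabilizer ↥M24 S) := by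
  classical
  obtain ⟨o, ho, hE⟩ := exists_octadFix_le (H := H) (by
    rw [hc]; rcases hN with rfl | rfl | rfl <;> decide +kernel)
  obtain ⟨p, hp⟩ : ∃ p, p ∉ o := by
    by_contra! h
    have := ho.2
    rw [Finset.eq_univ_iff_forall.mpr h] at this
    simp at this
  have hWo := sdiff_orb_subset ho hp hE
  have hW : Inv H (Finset.univ \ orb H p) := inv_univ.sdiff (inv_orb p)
  by_cases h5 : 5 ≤ (Finset.univ \ orb H p).card
  · have hle := le_stabilizer_of_inv (inv_octad_of_five ho hW hWo h5)
    have hst : Nat.card (stabilizer ↥M24 o) = 322560 := by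
      rw [← natCard_octadStab ho]
      exact Nat.card_congr
        { toFun := fun g => ⟨g.1.1, g.1.2, g.2⟩
          invFun := fun g => ⟨⟨g.1, g.2.1⟩, g.2.2⟩ }
    have hd := Subgroup.card_dvd_of_le hle
    rw [hst, hc] at hd
    rcases hN with rfl | rfl | rfl
    · exact Or.inl ⟨rfl, o, ho, Subgroup.eq_of_le_of_card_ge hle (by rw [hst, hc])⟩
    · norm_num at hd
    · norm_num at hd
  -- the group is transitive
  have hk := dvd_of_inv_kset (by omega) hW
  rw [hc] at hk
  have hW0 : (Finset.univ \ orb H p).card = 0 := by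
    have key : ∀ j < 5, N * Nat.choose 24 j ∣ 244823040 → j = 0 := by
      rcases hN with rfl | rfl | rfl <;> decide +kernel
    exact key _ (by omega) hk
  have hp_all : ∀ a, a ∈ orb H p := fun a => by
    by_contra ha
    have : a ∈ Finset.univ \ orb H p := by simp [ha]
    rw [Finset.card_eq_zero] at hW0
    rw [hW0] at this
    simp at this
  have htr2 : ∀ a b : GolayPt, ∃ h ∈ H, h • a = b := fun a b => by
    obtain ⟨h, hh, rfl⟩ := mem_orb.mp (hp_all a)
    obtain ⟨k, hk', rfl⟩ := mem_orb.mp (hp_all b)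
    exact ⟨k * h⁻¹, mul_mem hk' (inv_mem hh), by rw [mul_smul, inv_smul_smul]⟩
  obtain ⟨x, hxo⟩ := Finset.card_pos.mp (by rw [ho.2]; norm_num : 0 < o.card)
  set L := H ⊓ stabilizer ↥M24 x with hLdef
  have hLx : ∀ g ∈ L, g • x = x := fun g hg => hg.2
  have hLcard : Nat.card L * 24 = N := by
    have := card_orb (L := H) x
    rwa [show orb H x = Finset.univ from Finset.eq_univ_iff_forall.mpr
      fun b => mem_orb.mpr (htr2 x b), hc] at this
  have hEL : ∀ g : ↥M24, (g : Equiv.Perm GolayPt) ∈ octadFix o → g ∈ L := fun g hg =>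
    ⟨hE g hg, (mem_octadFix.mp hg).2 x hxo⟩
  set W := (Finset.univ \ orb L p) \ {x} with hWdef
  have hW' : Inv L W := (inv_univ.sdiff (inv_orb p)).sdiff (inv_singleton hLx)
  have hWsub : W ⊆ o := Finset.sdiff_subset.trans (sdiff_orb_subset ho hp hEL)
  have hxW : x ∉ W := by simp [W]
  have hxΩ : x ∉ orb L p := fun h => by
    obtain ⟨g, hg, e⟩ := mem_orb.mp h
    exact hp (MulAction.injective g (e.trans (hLx g hg).symm) ▸ hxo)
  have hWΩ : W.card + (orb L p).card = 23 := by
    have h1 : W.card = 24 - (orb L p).card - 1 := by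
      rw [hWdef, Finset.card_sdiff_of_subset (by simp [hxΩ]),
        Finset.card_sdiff_of_subset (Finset.subset_univ _)]
      rfl
    have h2 := Finset.card_lt_card (Finset.ssubset_univ_iff.mpr
      (fun h => hxΩ (h ▸ Finset.mem_univ x) : orb L p ≠ Finset.univ))
    rw [Finset.card_univ, show Fintype.card GolayPt = 24 from rfl] at h2
    omega
  have hlarge : ∀ q, q ≠ x → q ∉ W → orb L q = orb L p := fun q hqx hqW => by
    have hq : q ∈ orb L p := by simpa [W, hqx] using hqW
    refine Finset.Subset.antisymm (orb_subset (inv_orb p) hq) (orb_subset (inv_orb q) ?_)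
    obtain ⟨g, hg, rfl⟩ := mem_orb.mp hq
    exact mem_orb.mpr ⟨g⁻¹, inv_mem hg, inv_smul_smul g p⟩
  have hdvd := card_orb_dvd (L := L) p
  have hW7 : W.card ≤ 7 := by
    have := Finset.card_le_card (Finset.insert_subset hxo hWsub)
    rw [Finset.card_insert_of_notMem hxW, ho.2] at this
    omega
  have h4 : 4 ≤ W.card → Inv L o := fun h => by
    refine inv_octad_of_five ho (W := insert x W) (inv_of_forall fun g hg y hy => ?_)
      (Finset.insert_subset hxo hWsub) (by rw [Finset.card_insert_of_notMem hxW]; omega)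
    rcases Finset.mem_insert.mp hy with rfl | hy
    · exact Finset.mem_insert.mpr (Or.inl (hLx g hg))
    · exact Finset.mem_insert_of_mem ((hW'.mem_iff hg y).mpr hy)
  have hk' : W.card = 2 ∨ W.card = 3 ∨ W.card = 7 := by
    have h47 : 4 ≤ W.card → W.card = 7 := fun h => by
      have hsub : orb L p ⊆ Finset.univ \ o :=
        orb_subset (inv_univ.sdiff (h4 h)) (by simp [hp])
      have := Finset.card_le_card hsub
      rw [Finset.card_sdiff_of_subset (Finset.subset_univ _), ho.2, Finset.card_univ,
        show Fintype.card GolayPt = 24 from rfl] at this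
      omega
    have hne : W.card ≠ 0 ∧ W.card ≠ 1 := by
      constructor <;> intro h
      all_goals
        rw [show (orb L p).card = 23 - W.card by omega, h] at hdvd
        have h' := hdvd.trans (dvd_mul_right _ 24)
        rw [hLcard] at h'
        rcases hN with rfl | rfl | rfl <;> norm_num at h'
    omega
  have htr : ∀ a, ∃ h ∈ H, h • x = a := htr2 x
  obtain ⟨Wf, hWfx, hf⟩ := exists_transport htr hW'
  have hfB : ∀ h ∈ H, ∀ y, insert (h • y) (Wf (h • y)) = h • insert y (Wf y) := fun h hh y => by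
    rw [hf h hh, Finset.smul_finset_insert]
  have hself : ∀ y, y ∈ insert y (Wf y) := fun y => Finset.mem_insert_self _ _
  have hWfy : ∀ y, y ∉ Wf y := fun y => by
    obtain ⟨h, hh, rfl⟩ := htr y
    rw [hf h hh, Finset.smul_mem_smul_finset_iff, hWfx]
    exact hxW
  have hBk : ∀ y, (insert y (Wf y)).card = W.card + 1 := fun y => by
    rw [Finset.card_insert_of_notMem (hWfy y), transport_card htr hf, hWfx]
  have hsymm := transport_symm htr hf (hWfy x) (fun q hqx hqW => by
    rw [hWfx] at hqW ⊢
    rw [hlarge q hqx hqW]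
    omega)
  have hclosed : (W.card = 7 → ∀ y ∈ W, orb L y = W) →
      ∀ y z, z ∈ insert y (Wf y) → insert z (Wf z) = insert y (Wf y) := by
    intro htrW
    refine transport_block htr hf (hWfy x) fun y hy => ?_
    rw [hWfx] at hy ⊢
    have hxy : ∀ v ∈ W, x ∈ Wf v := fun v hv => hsymm x v (by rwa [hWfx])
    by_contra hno
    obtain ⟨q, hqy, hq⟩ := Finset.not_subset.mp hno
    simp only [Finset.mem_insert, not_or] at hq
    have hqΩ : q ∈ orb L p := by
      rw [← hlarge q hq.1 hq.2]; exact mem_orb_self q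
    have hD : Inv L ((W.biUnion Wf) ∩ orb L p) := inv_of_forall fun g hg v hv => by
      simp only [Finset.mem_inter, Finset.mem_biUnion] at hv ⊢
      obtain ⟨⟨u, hu, hvu⟩, hvΩ⟩ := hv
      exact ⟨⟨g • u, (hW'.mem_iff hg u).mpr hu, by
        rw [hf g hg.1]; exact Finset.smul_mem_smul_finset hvu⟩, ((inv_orb p).mem_iff hg v).mpr hvΩ⟩
    have hone : ∀ v ∈ W, (Wf v ∩ orb L p).card + 1 ≤ W.card := fun v hv => by
      rw [← Finset.card_insert_of_notMem (a := x) (by simp [hxΩ]),
        show W.card = (Wf v).card by rw [transport_card htr hf, hWfx]]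
      exact Finset.card_le_card (Finset.insert_subset (hxy v hv) Finset.inter_subset_left)
    rcases lt_or_ge W.card 4 with hlt | hge
    · have hsub : orb L p ⊆ W.biUnion Wf ∩ orb L p := by
        rw [← hlarge q hq.1 hq.2]
        refine orb_subset (hlarge q hq.1 hq.2 ▸ hD) ?_
        simp only [Finset.mem_inter, Finset.mem_biUnion]
        exact ⟨⟨y, hy, hqy⟩, mem_orb_self q⟩
      rw [Finset.biUnion_inter] at hsub
      have h1 := (Finset.card_le_card hsub).trans Finset.card_biUnion_le
      have h2 : ∑ v ∈ W, (Wf v ∩ orb L p).card ≤ W.card * (W.card - 1) := by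
        refine (Finset.sum_le_card_nsmul _ _ (W.card - 1) fun v hv => ?_).trans (le_of_eq rfl)
        have := hone v hv
        omega
      have : (orb L p).card ≤ W.card * (W.card - 1) := h1.trans h2
      interval_cases hk0 : W.card <;> omega
    · have h7 : W.card = 7 := by omega
      have hmu : ∀ v ∈ orb L p, (W.filter fun u => v ∈ Wf u).card =
          (W.filter fun u => p ∈ Wf u).card := fun v hv => by
        obtain ⟨g, hg, rfl⟩ := mem_orb.mp hv
        rw [← Finset.card_smul_finset g (W.filter fun u => p ∈ Wf u)]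
        congr 1
        ext u
        rw [← Finset.inv_smul_mem_iff]
        simp only [Finset.mem_filter]
        rw [hW'.mem_iff (inv_mem hg), hf _ (inv_mem hg.1), ← Finset.inv_smul_mem_iff, inv_inv]
      have hcv : ∀ v ∈ W, (Wf v ∩ orb L p).card = (Wf y ∩ orb L p).card := fun v hv => by
        rw [← htrW h7 y hy] at hv
        obtain ⟨g, hg, rfl⟩ := mem_orb.mp hv
        rw [hf g hg.1, ← Finset.card_smul_finset g (Wf y ∩ orb L p), Finset.smul_finset_inter,
          inv_orb p g hg]
      have h1 := Finset.sum_card_bipartiteAbove_eq_sum_card_bipartiteBelow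
        (s := W) (t := orb L p) (r := fun u v => v ∈ Wf u)
      simp only [Finset.bipartiteAbove, Finset.bipartiteBelow] at h1
      rw [Finset.sum_congr rfl hmu, Finset.sum_congr rfl (fun u hu => show
        ((orb L p).filter fun v => v ∈ Wf u).card = (Wf y ∩ orb L p).card by
          rw [Finset.filter_mem_eq_inter, Finset.inter_comm]; exact hcv u hu),
        Finset.sum_const, Finset.sum_const, h7, show (orb L p).card = 16 by omega,
        smul_eq_mul, smul_eq_mul] at h1
      have h6 := hone y hy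
      have hpos : 0 < (Wf y ∩ orb L p).card :=
        Finset.card_pos.mpr ⟨q, Finset.mem_inter.mpr ⟨hqy, hqΩ⟩⟩
      omega
  rcases hk' with h2 | h3 | h7
  · exfalso
    refine false_of_triples (B := fun y => insert y (Wf y)) (x := x) hfB hself
      (fun y => (hBk y).trans (by rw [h2])) (hclosed (by omega)) ?_
    show 5 ∣ Nat.card L
    rcases hN with rfl | rfl | rfl <;> omega
  · have hblk := hclosed (by omega)
    have hd : Nat.card L ∣ 23040 := by
      have hT : Inv L (insert x W) := inv_of_forall fun g hg y hy => by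
        rcases Finset.mem_insert.mp hy with rfl | hy
        · exact Finset.mem_insert.mpr (Or.inl (hLx g hg))
        · exact Finset.mem_insert_of_mem ((hW'.mem_iff hg y).mpr hy)
      have hT4 : (insert x W).card = 4 := by rw [Finset.card_insert_of_notMem hxW, h3]
      have := natCard_stabilizer_kset (W := insert x W) (by omega)
      rw [hT4, show Nat.choose 24 4 = 10626 by decide +kernel] at this
      rw [show 23040 = Nat.card (stabilizer ↥M24 (insert x W)) by omega]
      exact Subgroup.card_dvd_of_le (le_stabilizer_of_inv hT)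
    have hN3 : N = 138240 := by
      rcases hN with rfl | rfl | rfl
      · rw [show Nat.card L = 13440 by omega] at hd; norm_num at hd
      · rw [show Nat.card L = 40320 by omega] at hd; norm_num at hd
      · rfl
    have hS := blocks_mem_sextets (B := fun y => insert y (Wf y)) hfB hself
      (fun y => (hBk y).trans (by rw [h3])) hblk htr2 (hc.trans hN3)
    exact Or.inr ⟨hN3, _, hS, Subgroup.eq_of_le_of_card_ge
      (fun h hh => smul_blocks hfB hh) (by rw [natCard_stabilizer_sextet hS, hc, hN3])⟩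
  · exfalso
    have hWeq : insert x W = o := Finset.eq_of_subset_of_card_le
      (Finset.insert_subset hxo hWsub) (by rw [Finset.card_insert_of_notMem hxW, h7, ho.2])
    by_cases hN3 : N = 138240
    · exact false_of_octad_stab ho hxo (hc.trans hN3) htr (h4 (by omega)) (show Nat.card L = 5760 by omega) hE
    have htrW : ∀ y ∈ W, orb L y = W := fun y hy => by
      refine Finset.eq_of_subset_of_card_le (orb_subset hW' hy) ?_
      by_contra hlt
      have hle := card_le_of_inv (L := L) ho (inv_orb y) (hW'.sdiff (inv_orb y))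
        fun g hg v hv hvA hvB => by
          have : v = x := by
            rw [← hWeq] at hv
            rcases Finset.mem_insert.mp hv with e | e
            · exact e
            · exact absurd (Finset.mem_sdiff.mpr ⟨e, hvA⟩) hvB
          rw [this]; exact hLx g hg
      rw [Finset.card_sdiff_of_subset (orb_subset hW' hy), h7] at hle
      have hj := Finset.card_pos.mpr ⟨y, mem_orb_self (L := L) y⟩
      have key : ∀ j < 7, 0 < j → j.factorial * (7 - j).factorial ≤ 720 := by decide +kernel
      have := key _ (by omega) hj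
      rcases hN with rfl | rfl | rfl <;> omega
    refine false_of_octads (B := fun y => insert y (Wf y)) hfB hself (fun y => ?_)
      (hclosed fun _ => htrW) (by rcases hN with rfl | rfl | rfl <;> omega)
    obtain ⟨h, hh, rfl⟩ := htr y
    rw [hfB h hh, hWfx, hWeq]
    exact smul_mem_octads h.2 ho

end Cfsg.Agent.Golay.Index
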