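/-
Automorphisms of M12, for the stabiliser `dodG d` of an arbitrary dodecad.

* `exists_eq_stabilizer_dod` : a subgroup of order |M11| is a point stabiliser
* `smul_hexad_octad`, `exists_perm_of_mulAut_dod`, `natCard_out_dod`
-/
import Cfsg.Agent.Lib.Golay.M22Aut
import Cfsg.Agent.Lib.Golay.DodecadPairs

set_option autoImplicit false
open scoped Pointwise symmDiff
open Cfsg MulAction

namespace Cfsg.Agent.Golay

/-- The stabiliser of a set of points in M24, as a group of permutations. -/
abbrev dodG (d : Finset GolayPt) : Subgroup (Equiv.Perm GolayPt) :=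
  M24 ⊓ stabilizer (Equiv.Perm GolayPt) d

theorem mem_dodG {d : Finset GolayPt} {g : Equiv.Perm GolayPt} :
    g ∈ dodG d ↔ g ∈ M24 ∧ g • d = d := Iff.rfl

theorem dodG_compl (d : Finset GolayPt) : dodG dᶜ = dodG d := by
  ext g
  rw [mem_dodG, mem_dodG, smul_compl', compl_inj_iff]

theorem mem_iff_of_mem_dodG {d : Finset GolayPt} {g : Equiv.Perm GolayPt} (hg : g ∈ dodG d)
    (y : GolayPt) : g y ∈ d ↔ y ∈ d := by
  have h : g • d = d := (mem_dodG.1 hg).2
  conv_lhs => rw [← h, ← Equiv.Perm.smul_def, Finset.smul_mem_smul_finset_iff]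

/-- In the stabiliser of a dodecad only the identity fixes five of its points. -/
theorem eq_one_of_five_dod {d : Finset GolayPt} (hd : d ∈ dodecads) {g : Equiv.Perm GolayPt}
    (hg : g ∈ dodG d) (h5 : 5 ≤ (d.filter fun y => g y = y).card) : g = 1 := by
  obtain ⟨S, hSF, hS⟩ := Finset.exists_subset_card_eq h5
  let x : Fin 5 ↪ GolayPt :=
    (Finset.equivFinOfCardEq hS).symm.toEmbedding.trans (Function.Embedding.subtype _)
  have hx : ∀ i, x i ∈ d ∧ g (x i) = x i := fun i => by
    have h : x i ∈ d.filter fun y => g y = y := hSF ((Finset.equivFinOfCardEq hS).symm i).2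
    simpa using h
  exact eq_one_of_five_dodecad (mem_dodG.1 hg).1 hd (mem_dodG.1 hg).2 x (fun i => (hx i).1) (fun i => (hx i).2)

/-- An element of order 3 in M24 does not fix exactly three points. -/
theorem natCard_fixed_order_three_ne {g : Equiv.Perm GolayPt} (hgM : g ∈ M24)
    (hg : orderOf g = 3) : (g.supportᶜ).card ≠ 3 := by
  classical
  intro h3
  haveI : Fact (Nat.Prime 3) := ⟨by norm_num⟩
  obtain ⟨a, a', a'', haa', -, -, hF⟩ := Finset.card_eq_three.1 h3
  have hfix : ∀ y, g y = y ↔ y ∈ ({a, a', a''} : Finset GolayPt) := fun y => by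
    rw [← hF, Finset.mem_compl, Equiv.Perm.notMem_support]
  have hga : g a = a := (hfix a).2 (by simp)
  have hga' : g a' = a' := (hfix a').2 (by simp)
  have hg3 : ∀ y, g (g (g y)) = y := fun y => by
    have h : g ^ 3 = 1 := by rw [← hg, pow_orderOf_eq_one]
    simpa [pow_succ] using Equiv.Perm.ext_iff.1 h y
  let S : GolayPt → Finset GolayPt := fun y => {a, a', y, g y, g (g y)}
  have hS : ∀ y, g y ≠ y → (S y).card = 5 := by
    intro y hy
    have hne : ∀ z, g z = z → z ≠ y ∧ z ≠ g y ∧ z ≠ g (g y) := fun z hz =>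
      ⟨fun e => hy (e ▸ hz), fun e => hy (g.injective (e ▸ hz)),
        fun e => hy (g.injective (g.injective (e ▸ hz)))⟩
    obtain ⟨h1, h2, h3⟩ := hne a hga
    obtain ⟨h1', h2', h3'⟩ := hne a' hga'
    have h4 : y ≠ g (g y) := fun e => hy ((congrArg g e).trans (hg3 y))
    have h5 : g y ≠ g (g y) := fun e => hy (g.injective e).symm
    simp [S, Finset.card_insert_of_notMem, haa', h1, h2, h3, h1', h2', h3', Ne.symm hy, h4, h5]
  let O : GolayPt → Finset GolayPt := fun y => octadOf (S y)
  have hgO : ∀ y, g y ≠ y → g • O y = O y := by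
    intro y hy
    obtain ⟨ho, hSo⟩ := octadOf_spec (hS y hy)
    refine (octadOf_eq (hS y hy) (smul_mem_octads hgM ho) ?_).symm
    intro z hz
    have hz' : g⁻¹ • z ∈ S y := by
      simp only [S, Finset.mem_insert, Finset.mem_singleton, Equiv.Perm.smul_def,
        Equiv.Perm.inv_eq_iff_eq] at hz ⊢
      rw [hga, hga', hg3]
      tauto
    rw [← Finset.inv_smul_mem_iff]
    exact hSo hz'
  have hinv : ∀ y, g y ≠ y → ∀ z, g z ∈ O y ↔ z ∈ O y := fun y hy z => by
    conv_lhs => rw [← hgO y hy, ← Equiv.Perm.smul_def, Finset.smul_mem_smul_finset_iff]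
  have hsix : ∀ y, g y ≠ y → ((O y) \ (g.supportᶜ)).card = 6 := by
    intro y hy
    obtain ⟨ho, hSo⟩ := octadOf_spec (hS y hy)
    have ho8 : (O y).card = 8 := ho.2
    have hm := card_mod_of_invariant (p := 3) (by rw [← hg, pow_orderOf_eq_one]) (hinv y hy)
    have hlo : 2 ≤ ((O y).filter fun z => g z = z).card := by
      rw [← Finset.card_pair haa']
      refine Finset.card_le_card (Finset.insert_subset ?_ (Finset.singleton_subset_iff.2 ?_)) <;>
        refine Finset.mem_filter.2 ⟨hSo (by simp [S]), ?_⟩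
      · exact hga
      · exact hga'
    have hhi : ((O y).filter fun z => g z = z).card ≤ 3 := by
      rw [← h3]
      exact Finset.card_le_card fun z hz => by simpa using (Finset.mem_filter.1 hz).2
    have heq : (O y) \ (g.supportᶜ) = (O y) \ ((O y).filter fun z => g z = z) := by
      ext z; simp +contextual
    rw [heq, Finset.card_sdiff_of_subset (Finset.filter_subset _ _), ho8]
    rw [ho8] at hm
    omega
  have hfib : ∀ y, g y ≠ y → g.support.filter (fun z => O z = O y) = (O y) \ (g.supportᶜ) := by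
    intro y hy
    ext z
    rw [Finset.mem_filter, Finset.mem_sdiff, Finset.mem_compl, not_not]
    constructor
    · rintro ⟨hz, e⟩
      have h := (octadOf_spec (hS z (Equiv.Perm.mem_support.1 hz))).2
        (show z ∈ S z by simp [S])
      exact ⟨by rw [← e]; exact h, hz⟩
    · rintro ⟨hzO, hz⟩
      have hz' := Equiv.Perm.mem_support.1 hz
      obtain ⟨ho, hSo⟩ := octadOf_spec (hS y hy)
      refine ⟨hz, octadOf_eq (hS z hz') ho ?_⟩
      intro w hw
      simp only [S, Finset.mem_insert, Finset.mem_singleton] at hw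
      rcases hw with rfl | rfl | rfl | rfl | rfl
      · exact hSo (by simp [S])
      · exact hSo (by simp [S])
      · exact hzO
      · exact (hinv y hy z).2 hzO
      · exact (hinv y hy _).2 ((hinv y hy z).2 hzO)
  have hsum := Finset.card_eq_sum_card_image O g.support
  rw [Finset.sum_congr rfl (g := fun _ => 6) (fun o ho => by
    obtain ⟨y, hy, rfl⟩ := Finset.mem_image.1 ho
    have hy' := Equiv.Perm.mem_support.1 hy
    rw [hfib y hy', hsix y hy']), Finset.sum_const, smul_eq_mul] at hsum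
  have hsupp : g.support.card = 21 := by
    have h := Finset.card_compl g.support
    rw [h3, show Fintype.card GolayPt = 24 by simp] at h
    omega
  omega

/-- Every permutation of five points of a dodecad extends to an element of its stabiliser. -/
theorem exists_extend_five {d : Finset GolayPt} (hd : d ∈ dodecads) {S : Finset GolayPt}
    (hSd : S ⊆ d) (hS : S.card = 5) (e : Equiv.Perm ↥S) :
    ∃ g ∈ dodG d, ∀ s : ↥S, g s = (e s : GolayPt) := by
  let q := Finset.equivFinOfCardEq hS
  let x : Fin 5 ↪ GolayPt := q.symm.toEmbedding.trans (Function.Embedding.subtype _)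
  let y : Fin 5 ↪ GolayPt := (q.symm.trans e).toEmbedding.trans (Function.Embedding.subtype _)
  obtain ⟨g, hg, -⟩ := existsUnique_map_five_dodecad hd x y (fun i => hSd (q.symm i).2)
    (fun i => hSd (e (q.symm i)).2)
  refine ⟨((g : M24) : Equiv.Perm GolayPt), ⟨(g : M24).2, g.2⟩, fun s => ?_⟩
  have h := hg (q s)
  simpa [x, y] using h

/-- The data check behind `exists_move_second`. -/
theorem second_check : ∀ y : GolayPt, y ∈ pts dodecad0 → y ≠ pt 0 →
    (m11Table.getD 2 []).any (fun p => fn p (idx y) != idx y) = true := by decide +kernel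

theorem exists_move_second {d : Finset GolayPt} (hd : d ∈ dodecads) {a a' b b' : GolayPt}
    (ha : a ∈ d) (ha' : a' ∈ d) (hb : b ∉ d) (hb' : b' ∉ d) (haa : a' ≠ a) (hbb : b ≠ b') :
    ∃ g ∈ dodG d, g a = a ∧ g b = b ∧ g b' = b' ∧ g a' ≠ a' := by
  obtain ⟨t, ht, htd⟩ := exists_map_dodecad hd dodecad0_mem
  have htp : t a ∈ pts dodecad0 := htd ▸ Finset.smul_mem_smul_finset ha
  obtain ⟨u, hu, hud, hup⟩ := exists_map_point_dodecad dodecad0_mem htp
    (show pt 0 ∈ pts dodecad0 by decide +kernel)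
  have hout : ∀ q, q ∉ d → u (t q) ∉ pts dodecad0 := by
    intro q hq h
    rw [← hud, ← htd, ← Equiv.Perm.smul_def u, Finset.smul_mem_smul_finset_iff,
      ← Equiv.Perm.smul_def t, Finset.smul_mem_smul_finset_iff] at h
    exact hq h
  obtain ⟨c, hc, hc3⟩ : ∃ c, c ∉ d ∧ c ∉ ({b, b'} : Finset GolayPt) := by
    obtain ⟨c, hc, hc'⟩ := Finset.exists_mem_notMem_of_card_lt_card
      (show ({b, b'} : Finset GolayPt).card < dᶜ.card by
        rw [Finset.card_pair hbb, Finset.card_compl, show d.card = 12 from hd.2]; simp)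
    exact ⟨c, Finset.mem_compl.1 hc, hc'⟩
  simp only [Finset.mem_insert, Finset.mem_singleton, not_or] at hc3
  let z : Fin 3 ↪ GolayPt := ⟨![u (t b), u (t b'), u (t c)], injective_cons
    (by simp [Fin.forall_fin_two, Ne.symm hbb, hc3.1])
    (injective_cons (by simp [hc3.2]) (Function.injective_of_subsingleton _))⟩
  obtain ⟨v, hv, hvz⟩ := exists_map_three_outside0 z (fun i => by
    fin_cases i
    exacts [hout b hb, hout b' hb', hout c hc])
  obtain ⟨⟨hvM, hvd⟩, hv0⟩ := hv
  set w : Equiv.Perm GolayPt := v⁻¹ * u * t with hw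
  have hwd : w • d = pts dodecad0 := by
    rw [hw, mul_smul, mul_smul, htd, hud, inv_smul_eq_iff]
    exact (hvd : v • pts dodecad0 = pts dodecad0).symm
  have hwa : w a = pt 0 := by
    rw [hw, Equiv.Perm.mul_apply, Equiv.Perm.mul_apply, hup, Equiv.Perm.inv_eq_iff_eq]
    exact (hv0 : v (pt 0) = pt 0).symm
  have hwb : w b = pt 5 := by
    rw [hw, Equiv.Perm.mul_apply, Equiv.Perm.mul_apply, Equiv.Perm.inv_eq_iff_eq]
    exact (hvz 0).symm
  have hwb' : w b' = pt 7 := by
    rw [hw, Equiv.Perm.mul_apply, Equiv.Perm.mul_apply, Equiv.Perm.inv_eq_iff_eq]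
    exact (hvz 1).symm
  have hy : w a' ∈ pts dodecad0 := hwd ▸ Finset.smul_mem_smul_finset ha'
  have hy0 : w a' ≠ pt 0 := fun e => haa (w.injective (e.trans hwa.symm))
  obtain ⟨p, hp, hpy⟩ := List.any_eq_true.1 (second_check _ hy hy0)
  have h := m11Check_all 2 (by norm_num)
  simp only [m11Check, Bool.and_eq_true, List.all_eq_true, beq_iff_eq, List.mem_range] at h
  obtain ⟨⟨⟨haut, hdod⟩, h0⟩, hfix⟩ := h.1 p hp
  have hvp := validPerm_of_isAut haut
  have hwM : w ∈ M24 := mul_mem (mul_mem (inv_mem (show v ∈ M24 from hvM)) hu) ht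
  refine ⟨w⁻¹ * toPerm p * w, mem_dodG.2
    ⟨mul_mem (mul_mem (inv_mem hwM) (toPerm_mem_M24 haut)) hwM, ?_⟩, ?_, ?_, ?_, ?_⟩
  · show (w⁻¹ * toPerm p * w) • d = d
    rw [mul_smul, mul_smul, hwd, ← pts_imgMask hvp, hdod, ← hwd, inv_smul_smul]
  · rw [Equiv.Perm.mul_apply, Equiv.Perm.mul_apply, hwa, toPerm_pt hvp (by norm_num), h0,
      Equiv.Perm.inv_eq_iff_eq, hwa]
  · have h5 : fn p 5 = 5 := hfix 0 (by norm_num)
    rw [Equiv.Perm.mul_apply, Equiv.Perm.mul_apply, hwb, toPerm_pt hvp (by norm_num), h5,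
      Equiv.Perm.inv_eq_iff_eq, hwb]
  · have h7 : fn p 7 = 7 := hfix 1 (by norm_num)
    rw [Equiv.Perm.mul_apply, Equiv.Perm.mul_apply, hwb', toPerm_pt hvp (by norm_num), h7,
      Equiv.Perm.inv_eq_iff_eq, hwb']
  · intro e
    rw [Equiv.Perm.mul_apply, Equiv.Perm.mul_apply, Equiv.Perm.inv_eq_iff_eq] at e
    have := congrArg idx e
    rw [idx_toPerm hvp] at this
    simp [this] at hpy

theorem natCard_dod_stabilizer {d : Finset GolayPt} (hd : d ∈ dodecads) {p : GolayPt} :
    Nat.card (stabilizer (dodG d) p) = 7920 := by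
  have e : Nat.card (stabilizer (dodG d) p) =
      Nat.card ↥(dodG d ⊓ stabilizer (Equiv.Perm GolayPt) p) := Nat.card_congr
    { toFun := fun g => ⟨((g.1 : dodG d) : Equiv.Perm GolayPt), g.1.2, g.2⟩
      invFun := fun g => ⟨⟨g.1, g.2.1⟩, g.2.2⟩
      left_inv := fun _ => rfl
      right_inv := fun _ => rfl }
  rw [e]
  by_cases hp : p ∈ d
  · exact natCard_m11 hd hp
  · rw [← dodG_compl d]
    exact natCard_m11 (compl_mem_dodecads hd) (Finset.mem_compl.2 hp)

theorem exists_map_dod {d : Finset GolayPt} (hd : d ∈ dodecads) {p q : GolayPt} (h : p ∈ d ↔ q ∈ d) :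
    ∃ g : dodG d, g • p = q := by
  by_cases hp : p ∈ d
  · obtain ⟨g, hg, hgd, hgp⟩ := exists_map_point_dodecad hd hp (h.1 hp)
    exact ⟨⟨g, hg, hgd⟩, hgp⟩
  · obtain ⟨g, hg, hgd, hgp⟩ := exists_map_point_dodecad (compl_mem_dodecads hd)
      (Finset.mem_compl.2 hp) (Finset.mem_compl.2 fun e => hp (h.2 e))
    exact ⟨⟨g, (dodG_compl d).le (show g ∈ dodG dᶜ from ⟨hg, hgd⟩)⟩, hgp⟩

theorem exists_map_dod_fix {d : Finset GolayPt} (hd : d ∈ dodecads) {a b q : GolayPt}
    (ha : a ∈ d) (hb : b ∉ d) (hq : q ∉ d) : ∃ g : dodG d, g • a = a ∧ g • b = q := by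
  classical
  obtain ⟨S, hbS, hSd, hS⟩ := Finset.exists_subsuperset_card_eq (n := 3)
    (Finset.singleton_subset_iff.2 (Finset.mem_compl.2 hb) : ({b} : Finset GolayPt) ⊆ dᶜ)
    (by simp) (by rw [Finset.card_compl, show d.card = 12 from hd.2]; simp)
  let x : Fin 3 ↪ GolayPt :=
    (Finset.equivFinOfCardEq hS).symm.toEmbedding.trans (Function.Embedding.subtype _)
  have hbr : ∃ i, x i = b :=
    ⟨Finset.equivFinOfCardEq hS ⟨b, Finset.singleton_subset_iff.1 hbS⟩, by simp [x]⟩
  obtain ⟨i, hi⟩ := hbr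
  let y : Fin 3 ↪ GolayPt := x.trans (Equiv.swap b q).toEmbedding
  obtain ⟨g, hg, hgd, hga, hgx⟩ := exists_map_three_outside hd ha x y
    (fun j => Finset.mem_compl.1 (hSd ((Finset.equivFinOfCardEq hS).symm j).2)) (fun j => by
      have hx : x j ∉ d := Finset.mem_compl.1 (hSd ((Finset.equivFinOfCardEq hS).symm j).2)
      show Equiv.swap b q (x j) ∉ d
      rw [Equiv.swap_apply_def]
      split_ifs
      exacts [hq, hb, hx])
  refine ⟨⟨g, hg, hgd⟩, hga, ?_⟩
  show g b = q
  rw [← hi, hgx i]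
  show Equiv.swap b q (x i) = q
  rw [hi, Equiv.swap_apply_left]

theorem natCard_dod_pair {d : Finset GolayPt} (hd : d ∈ dodecads) {a b : GolayPt} (ha : a ∈ d)
    (hb : b ∉ d) : Nat.card (stabilizer (stabilizer (dodG d) a) b) = 660 := by
  have horb : orbit (stabilizer (dodG d) a) b = ((dᶜ : Finset GolayPt) : Set GolayPt) := by
    ext q
    rw [Finset.mem_coe, Finset.mem_compl]
    constructor
    · rintro ⟨g, rfl⟩ hq
      exact hb ((mem_iff_of_mem_dodG g.1.2 b).1 hq)
    · intro hq
      obtain ⟨g, hga, hgb⟩ := exists_map_dod_fix hd ha hb hq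
      exact ⟨⟨g, hga⟩, hgb⟩
  have h := (stabilizer (stabilizer (dodG d) a) b).index_mul_card
  rw [index_stabilizer, horb, Set.ncard_coe_finset, Finset.card_compl,
    show d.card = 12 from hd.2, show Fintype.card GolayPt = 24 by simp,
    natCard_dod_stabilizer hd] at h
  omega

/-- An invariant set containing exactly one fixed point of an element of order 11. -/
theorem card_orbit_eleven {d : Finset GolayPt} (hdc : d.card = 12) {K : Type*} [Group K] [Finite K]
    [MulAction K GolayPt] {σ : Equiv.Perm GolayPt} (hσ : σ ^ 11 = 1) (x : K)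
    (hx : ∀ y : GolayPt, x • y = σ y) {a : GolayPt}
    (hfix : ∀ y ∈ d, σ y = y → y = a) (hσa : σ a = a) (hsub : ∀ g : K, g • a ∈ d) :
    (orbit K a).ncard = 1 ∨ (orbit K a).ncard = 12 := by
  classical
  haveI : Fact (Nat.Prime 11) := ⟨by norm_num⟩
  let O : Finset GolayPt := (orbit K a).toFinite.toFinset
  have hO : ∀ y, y ∈ O ↔ y ∈ orbit K a := fun y => Set.Finite.mem_toFinset _
  have hinv : ∀ y, σ y ∈ O ↔ y ∈ O := fun y => by
    rw [hO, hO, ← hx]
    constructor
    · rintro ⟨k, hk⟩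
      exact ⟨x⁻¹ * k, (mul_smul x⁻¹ k a).trans ((congrArg (x⁻¹ • ·) hk).trans (inv_smul_smul x y))⟩
    · rintro ⟨k, hk⟩
      exact ⟨x * k, (mul_smul x k a).trans (congrArg (x • ·) hk)⟩
  have hOd : O ⊆ d := fun y hy => by
    obtain ⟨k, rfl⟩ := (hO y).1 hy
    exact hsub k
  have hm := card_mod_of_invariant (p := 11) hσ hinv
  rw [show (O.filter fun y => σ y = y) = {a} by
    ext y
    rw [Finset.mem_filter, Finset.mem_singleton]
    exact ⟨fun h => hfix y (hOd h.1) h.2, fun e => e ▸ ⟨(hO _).2 (mem_orbit_self _), hσa⟩⟩,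
    Finset.card_singleton] at hm
  have hle := Finset.card_le_card hOd
  have : (orbit K a).ncard = O.card := Set.ncard_eq_toFinset_card _ _
  omega

/-- A subgroup of order `|M11|` of a dodecad stabiliser is a point stabiliser. -/
theorem exists_eq_stabilizer_dod {d : Finset GolayPt} (hd : d ∈ dodecads)
    {H : Subgroup (dodG d)} (hcard : Nat.card H = 7920) :
    ∃ p : GolayPt, H = stabilizer (dodG d) p := by
  classical
  haveI : Fact (Nat.Prime 11) := ⟨by norm_num⟩
  haveI : Fact (Nat.Prime 3) := ⟨by norm_num⟩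
  have hdc : d.card = 12 := hd.2
  have hdc' : dᶜ.card = 12 := (compl_mem_dodecads hd).2
  obtain ⟨x, hx⟩ := exists_prime_orderOf_dvd_card' (G := H) 11 (by rw [hcard]; norm_num)
  set σ : Equiv.Perm GolayPt := ((x : dodG d) : Equiv.Perm GolayPt) with hσ
  have hσo : orderOf σ = 11 := by rw [← hx, hσ, Subgroup.orderOf_coe, Subgroup.orderOf_coe]
  have hσp : σ ^ 11 = 1 := by rw [← hσo, pow_orderOf_eq_one]
  have hσG : σ ∈ dodG d := (x : dodG d).2
  have h9 := card_fixed_lt_nine (p := 11) (by norm_num) hσG.1 hσo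
  obtain ⟨hmod, -⟩ := natCard_fixed_of_prime_order hσo
  have h1 := card_mod_of_invariant hσp (mem_iff_of_mem_dodG hσG)
  have h2 := card_mod_of_invariant hσp (O := dᶜ) (fun y => by
    rw [Finset.mem_compl, Finset.mem_compl, mem_iff_of_mem_dodG hσG])
  have hsplit : (d.filter fun y => σ y = y).card + (dᶜ.filter fun y => σ y = y).card =
      (σ.supportᶜ).card := by
    rw [← Finset.card_union_of_disjoint (Finset.disjoint_filter_filter disjoint_compl_right),
      ← Finset.filter_union, Finset.union_compl]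
    congr 1
    ext y; simp
  rw [hdc] at h1
  rw [hdc'] at h2
  obtain ⟨a, ha⟩ := Finset.card_eq_one.1 (show (d.filter fun y => σ y = y).card = 1 by omega)
  obtain ⟨b, hb⟩ := Finset.card_eq_one.1 (show (dᶜ.filter fun y => σ y = y).card = 1 by omega)
  obtain ⟨had, hσa⟩ := Finset.mem_filter.1 (ha ▸ Finset.mem_singleton_self a :
    a ∈ d.filter fun y => σ y = y)
  obtain ⟨hbd, hσb⟩ := Finset.mem_filter.1 (hb ▸ Finset.mem_singleton_self b :
    b ∈ dᶜ.filter fun y => σ y = y)
  rw [Finset.mem_compl] at hbd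
  have hfa : ∀ y ∈ d, σ y = y → y = a := fun y hy h => by
    have : y ∈ d.filter fun y => σ y = y := Finset.mem_filter.2 ⟨hy, h⟩
    rw [ha] at this
    exact Finset.mem_singleton.1 this
  have hfb : ∀ y ∈ dᶜ, σ y = y → y = b := fun y hy h => by
    have : y ∈ dᶜ.filter fun y => σ y = y := Finset.mem_filter.2 ⟨hy, h⟩
    rw [hb] at this
    exact Finset.mem_singleton.1 this
  have hone : ∀ p : GolayPt, (orbit H p).ncard = 1 → H = stabilizer (dodG d) p := by
    intro p hp
    refine Subgroup.eq_of_le_of_card_ge (fun h hh => ?_) (by rw [hcard, natCard_dod_stabilizer hd])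
    obtain ⟨r, hr⟩ := Set.ncard_eq_one.1 hp
    have h3 : h • p ∈ orbit H p := ⟨⟨h, hh⟩, rfl⟩
    have h4 : p ∈ orbit H p := mem_orbit_self p
    rw [hr, Set.mem_singleton_iff] at h3 h4
    exact h3.trans h4.symm
  rcases card_orbit_eleven (K := H) hdc hσp x (fun _ => rfl) hfa hσa
    (fun g => (mem_iff_of_mem_dodG g.1.2 a).2 had) with e | hOa
  · exact ⟨a, hone a e⟩
  rcases card_orbit_eleven (K := H) hdc' hσp x (fun _ => rfl) hfb hσb
    (fun g => Finset.mem_compl.2 fun h => hbd ((mem_iff_of_mem_dodG g.1.2 b).1 h)) with e | hOb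
  · exact ⟨b, hone b e⟩
  exfalso
  have hHa : Nat.card (stabilizer H a) = 660 := by
    have h := (stabilizer H a).index_mul_card
    rw [index_stabilizer, hOa, hcard] at h
    omega
  have hHb : Nat.card (stabilizer H b) = 660 := by
    have h := (stabilizer H b).index_mul_card
    rw [index_stabilizer, hOb, hcard] at h
    omega
  let xa : stabilizer H a := ⟨x, hσa⟩
  rcases card_orbit_eleven (K := stabilizer H a) hdc' hσp xa (fun _ => rfl) hfb hσb
    (fun g => Finset.mem_compl.2 fun h => hbd ((mem_iff_of_mem_dodG g.1.1.2 b).1 h)) with e | e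
  · -- the two stabilisers agree
    have hfixb : ∀ g : H, g • a = a → g • b = b := by
      intro g hg
      obtain ⟨r, hr⟩ := Set.ncard_eq_one.1 e
      have h3 : g • b ∈ orbit (stabilizer H a) b := ⟨⟨g, hg⟩, rfl⟩
      have h4 : b ∈ orbit (stabilizer H a) b := mem_orbit_self b
      rw [hr, Set.mem_singleton_iff] at h3 h4
      exact h3.trans h4.symm
    have heq : stabilizer H a = stabilizer H b :=
      Subgroup.eq_of_le_of_card_ge (fun g hg => hfixb g hg) (by rw [hHa, hHb])
    have hin : ∀ g : dodG d, g • a = a → g • b = b → g ∈ H := by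
      intro g hga hgb
      let L := stabilizer (stabilizer (dodG d) a) b
      let f : stabilizer H a → L := fun h => ⟨⟨h.1.1, h.2⟩, hfixb h.1 h.2⟩
      have hf : Function.Injective f := fun h k e =>
        Subtype.ext (Subtype.ext (congrArg (fun w : L => ((w : stabilizer (dodG d) a) : dodG d)) e))
      obtain ⟨h, hh⟩ := ((Nat.bijective_iff_injective_and_card f).2
        ⟨hf, by rw [hHa, natCard_dod_pair hd had hbd]⟩).2 ⟨⟨g, hga⟩, hgb⟩
      have : (h.1 : dodG d) = g :=
        congrArg (fun w : L => ((w : stabilizer (dodG d) a) : dodG d)) hh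
      exact this ▸ h.1.2
    obtain ⟨b', hb'O, hb'b⟩ := Set.exists_ne_of_one_lt_ncard (s := orbit H b) (by omega) b
    obtain ⟨h, rfl⟩ := hb'O
    have haa : h • a ≠ a := fun e => hb'b (hfixb h e)
    obtain ⟨g, hg, hga, hgb, hgb', hga'⟩ := exists_move_second hd had
      ((mem_iff_of_mem_dodG h.1.2 a).2 had) hbd
      (fun e => hbd ((mem_iff_of_mem_dodG h.1.2 b).1 e)) haa (Ne.symm hb'b)
    let gH : H := ⟨⟨g, hg⟩, hin ⟨g, hg⟩ hga hgb⟩
    have hmem : h⁻¹ * gH * h ∈ stabilizer H b := by
      show (h⁻¹ * gH * h) • b = b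
      rw [mul_smul, mul_smul, inv_smul_eq_iff]
      exact hgb'
    rw [← heq, mem_stabilizer_iff, mul_smul, mul_smul, inv_smul_eq_iff] at hmem
    exact hga' hmem
  · -- transitive on the complement
    have hst : ∀ y ∈ dᶜ, Nat.card (stabilizer (stabilizer H a) y) = 55 := by
      intro y hy
      have hy' : y ∈ orbit (stabilizer H a) b := by
        have heq : orbit (stabilizer H a) b = ((dᶜ : Finset GolayPt) : Set GolayPt) := by
          refine Set.eq_of_subset_of_ncard_le ?_ (by rw [e, Set.ncard_coe_finset, hdc']) (Set.toFinite _)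
          rintro _ ⟨g, rfl⟩
          exact Finset.mem_coe.2 (Finset.mem_compl.2 fun h => hbd ((mem_iff_of_mem_dodG g.1.1.2 b).1 h))
        rw [heq]
        exact Finset.mem_coe.2 hy
      have h := (stabilizer (stabilizer H a) y).index_mul_card
      rw [index_stabilizer, orbit_eq_iff.2 hy', e, hHa] at h
      omega
    obtain ⟨g, hg⟩ := exists_prime_orderOf_dvd_card' (G := stabilizer H a) 3 (by rw [hHa]; norm_num)
    set γ : Equiv.Perm GolayPt := (((g : H) : dodG d) : Equiv.Perm GolayPt) with hγ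
    have hγo : orderOf γ = 3 := by
      rw [← hg, hγ, Subgroup.orderOf_coe, Subgroup.orderOf_coe, Subgroup.orderOf_coe]
    have hγG : γ ∈ dodG d := ((g : H) : dodG d).2
    have hnone : ∀ y ∈ dᶜ, γ y ≠ y := fun y hy hγy => by
      have h := Subgroup.card_dvd_of_le (Subgroup.zpowers_le.2
        (show g ∈ stabilizer (stabilizer H a) y from hγy))
      rw [Nat.card_zpowers, hg, hst y hy] at h
      norm_num at h
    have hlt : (d.filter fun y => γ y = y).card < 5 := by
      by_contra h
      rw [eq_one_of_five_dod hd hγG (by omega), orderOf_one] at hγo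
      norm_num at hγo
    have hpos : 0 < (d.filter fun y => γ y = y).card :=
      Finset.card_pos.2 ⟨a, Finset.mem_filter.2 ⟨had, g.2⟩⟩
    have hm := card_mod_of_invariant (p := 3) (by rw [← hγo, pow_orderOf_eq_one])
      (mem_iff_of_mem_dodG hγG)
    rw [hdc] at hm
    refine natCard_fixed_order_three_ne hγG.1 hγo ?_
    have : γ.supportᶜ = d.filter fun y => γ y = y := by
      ext y
      rw [Finset.mem_compl, Equiv.Perm.notMem_support, Finset.mem_filter]
      exact ⟨fun h => ⟨by by_contra hy; exact hnone y (Finset.mem_compl.2 hy) h, h⟩, And.right⟩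
    rw [this]
    omega

/-- Octads meeting the dodecad in six points go to octads under an equivariant permutation. -/
theorem smul_hexad_octad {d : Finset GolayPt} (hd : d ∈ dodecads) {π : Equiv.Perm GolayPt}
    (hπd : π • d = d) (hlift : ∀ g ∈ dodG d, ∃ k ∈ dodG d, π * k = g * π)
    {o : Finset GolayPt} (ho : o ∈ octads) (h6 : (o ∩ d).card = 6) : π • o ∈ octads := by
  classical
  haveI : Fact (Nat.Prime 2) := ⟨Nat.prime_two⟩
  haveI : Fact (Nat.Prime 5) := ⟨by norm_num⟩
  have hdc : d.card = 12 := hd.2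
  have hdc' : dᶜ.card = 12 := (compl_mem_dodecads hd).2
  set B := π • o with hB
  have hBd : (B ∩ d).card = 6 := by
    conv_lhs => rw [← hπd, hB, ← Finset.smul_finset_inter, Finset.card_smul_finset]
    exact h6
  obtain ⟨S, hSB, hS⟩ := Finset.exists_subset_card_eq (show 5 ≤ (B ∩ d).card by omega)
  have hSd : S ⊆ d := hSB.trans Finset.inter_subset_right
  obtain ⟨ho', hSo'⟩ := octadOf_spec hS
  have h6' : (octadOf S ∩ d).card = 6 := by
    have h5 : 5 ≤ (octadOf S ∩ d).card := hS ▸ Finset.card_le_card (Finset.subset_inter hSo' hSd)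
    rcases octad_inter_dodecad ho' hd with h | h | h <;> omega
  have hinv : ∀ g ∈ dodG d, (∀ s ∈ S, g s ∈ S) → g • octadOf S = octadOf S ∧ g • B = B := by
    intro g hg hgS
    have hgS' : g • S = S := Finset.eq_of_subset_of_card_le
      (fun y hy => by
        obtain ⟨s, hs, rfl⟩ := Finset.mem_smul_finset.1 hy
        exact hgS s hs) (by rw [Finset.card_smul_finset])
    refine ⟨(octadOf_eq hS (smul_mem_octads hg.1 ho')
      (hgS'.symm.subset.trans (Finset.smul_finset_subset_smul_finset hSo'))).symm, ?_⟩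
    obtain ⟨k, hk, hkπ⟩ := hlift g hg
    have hko : k • o = o := by
      refine octad_eq_of_five (smul_mem_octads hk.1 ho) ho ?_
      have h : π • (k • o ∩ o) = g • B ∩ B := by
        rw [Finset.smul_finset_inter, ← mul_smul, hkπ, mul_smul]
      rw [← Finset.card_smul_finset π, h, ← hS]
      refine Finset.card_le_card (Finset.subset_inter ?_ (hSB.trans Finset.inter_subset_left))
      rw [← hgS']
      exact Finset.smul_finset_subset_smul_finset (hSB.trans Finset.inter_subset_left)
    rw [hB, ← mul_smul, ← hkπ, mul_smul, hko]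
  have hfixS : ∀ g ∈ dodG d, (∀ s ∈ S, g s = s) → g = 1 := fun g hg h =>
    eq_one_of_five_dod hd hg (hS ▸ Finset.card_le_card fun s hs =>
      Finset.mem_filter.2 ⟨hSd hs, h s hs⟩)
  obtain ⟨q, hq⟩ := Finset.card_eq_one.1 (show ((B ∩ d) \ S).card = 1 by
    rw [Finset.card_sdiff_of_subset hSB, hBd, hS])
  obtain ⟨r, hr⟩ := Finset.card_eq_one.1 (show ((octadOf S ∩ d) \ S).card = 1 by
    rw [Finset.card_sdiff_of_subset (Finset.subset_inter hSo' hSd), h6', hS])
  have hfixqr : ∀ g ∈ dodG d, (∀ s ∈ S, g s ∈ S) → g q = q ∧ g r = r := by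
    intro g hg hgS
    obtain ⟨hgo, hgB⟩ := hinv g hg hgS
    have hgd : g • d = d := hg.2
    have hgS' : g • S = S := Finset.eq_of_subset_of_card_le
      (fun y hy => by
        obtain ⟨s, hs, rfl⟩ := Finset.mem_smul_finset.1 hy
        exact hgS s hs) (by rw [Finset.card_smul_finset])
    constructor
    · have h : g • ((B ∩ d) \ S) = (B ∩ d) \ S := by
        rw [Finset.smul_finset_sdiff, Finset.smul_finset_inter, hgB, hgd, hgS']
      rw [hq, Finset.smul_finset_singleton, Finset.singleton_inj] at h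
      exact h
    · have h : g • ((octadOf S ∩ d) \ S) = (octadOf S ∩ d) \ S := by
        rw [Finset.smul_finset_sdiff, Finset.smul_finset_inter, hgo, hgd, hgS']
      rw [hr, Finset.smul_finset_singleton, Finset.singleton_inj] at h
      exact h
  have hqm := Finset.mem_singleton_self q
  rw [← hq, Finset.mem_sdiff, Finset.mem_inter] at hqm
  have hrm := Finset.mem_singleton_self r
  rw [← hr, Finset.mem_sdiff, Finset.mem_inter] at hrm
  have hqr : q = r := by
    by_contra hne
    obtain ⟨u, hu, v, hv, huv⟩ := Finset.one_lt_card.1 (show 1 < S.card by omega)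
    obtain ⟨g, hg, hge⟩ := exists_extend_five hd hSd hS (Equiv.swap ⟨u, hu⟩ ⟨v, hv⟩)
    have hgS : ∀ s ∈ S, g s ∈ S := fun s hs => by rw [hge ⟨s, hs⟩]; exact Subtype.coe_prop _
    obtain ⟨hgq, hgr⟩ := hfixqr g hg hgS
    have hgu : g u = v := by rw [hge ⟨u, hu⟩, Equiv.swap_apply_left]
    have hsub : ((S.erase u).erase v) ∪ {q, r} ⊆ d.filter fun y => g y = y := by
      intro y hy
      rw [Finset.mem_union, Finset.mem_erase, Finset.mem_erase, Finset.mem_insert,
        Finset.mem_singleton] at hy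
      rcases hy with ⟨hyv, hyu, hys⟩ | rfl | rfl
      · refine Finset.mem_filter.2 ⟨hSd hys, ?_⟩
        rw [hge ⟨y, hys⟩, Equiv.swap_apply_of_ne_of_ne (fun e => hyu (congrArg Subtype.val e))
          (fun e => hyv (congrArg Subtype.val e))]
      · exact Finset.mem_filter.2 ⟨hqm.1.2, hgq⟩
      · exact Finset.mem_filter.2 ⟨hrm.1.2, hgr⟩
    have h5 := Finset.card_le_card hsub
    rw [Finset.card_union_of_disjoint (Finset.disjoint_left.2 fun y hy hy' => by
      have hyS := Finset.mem_of_mem_erase (Finset.mem_of_mem_erase hy)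
      rw [Finset.mem_insert, Finset.mem_singleton] at hy'
      rcases hy' with rfl | rfl
      exacts [hqm.2 hyS, hrm.2 hyS]), Finset.card_pair hne,
      Finset.card_erase_of_mem (Finset.mem_erase.2 ⟨huv.symm, hv⟩),
      Finset.card_erase_of_mem hu, hS] at h5
    rw [eq_one_of_five_dod hd hg h5] at hgu
    exact huv hgu
  have hin : B ∩ d = octadOf S ∩ d := by
    rw [← Finset.union_sdiff_of_subset hSB,
      ← Finset.union_sdiff_of_subset (Finset.subset_inter hSo' hSd), hq, hr, hqr]
  -- a five cycle fixes both outer pairs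
  let w : Fin 5 ≃ ↥S := (Finset.equivFinOfCardEq hS).symm
  obtain ⟨g, hg, hge⟩ := exists_extend_five hd hSd hS ((w.symm.trans (finRotate 5)).trans w)
  have hgS : ∀ s ∈ S, g s ∈ S := fun s hs => by rw [hge ⟨s, hs⟩]; exact Subtype.coe_prop _
  have hgw : ∀ i, g (w i) = w (finRotate 5 i) := fun i => by rw [hge]; simp
  have hg5 : g ^ 5 = 1 := by
    refine hfixS _ (pow_mem hg 5) fun s hs => ?_
    obtain ⟨i, hi⟩ := w.surjective ⟨s, hs⟩
    have hs' : s = (w i : GolayPt) := by rw [hi]
    rw [hs']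
    simp only [pow_succ, pow_zero, one_mul, Equiv.Perm.mul_apply, hgw]
    rw [(by decide : ∀ i : Fin 5, finRotate 5 (finRotate 5 (finRotate 5 (finRotate 5
      (finRotate 5 i)))) = i) i]
  have hgne : g ≠ 1 := fun h => by
    have := hgw 0
    rw [h, Equiv.Perm.one_apply] at this
    exact absurd (w.injective (Subtype.ext this)) (by decide)
  have hgo : orderOf g = 5 := orderOf_eq_prime hg5 hgne
  obtain ⟨hgO, hgB⟩ := hinv g hg hgS
  obtain ⟨-, hgr⟩ := hfixqr g hg hgS
  have hgd : g • d = d := hg.2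
  have hd2 : 2 ≤ (d.filter fun y => g y = y).card := by
    have hm := card_mod_of_invariant hg5 (mem_iff_of_mem_dodG hg)
    rw [hdc] at hm
    omega
  have hpair : ∀ P : Finset GolayPt, g • P = P → P.card = 2 → ∀ y ∈ P, g y = y := by
    intro P hgP hP
    have hm := card_mod_of_invariant hg5 (O := P) fun y => by
      conv_lhs => rw [← hgP, ← Equiv.Perm.smul_def, Finset.smul_mem_smul_finset_iff]
    rw [hP] at hm
    have hle := Finset.card_filter_le P fun y => g y = y
    rw [hP] at hle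
    have : P.filter (fun y => g y = y) = P :=
      Finset.eq_of_subset_of_card_le (Finset.filter_subset _ _) (by omega)
    intro y hy
    rw [← this] at hy
    exact (Finset.mem_filter.1 hy).2
  have hBc : (B \ d).card = 2 := by
    have h := Finset.card_sdiff_add_card_inter B d
    rw [hBd, show B.card = 8 from by rw [hB, Finset.card_smul_finset]; exact ho.2] at h
    omega
  have hOc : (octadOf S \ d).card = 2 := by
    have h := Finset.card_sdiff_add_card_inter (octadOf S) d
    rw [h6', show (octadOf S).card = 8 from ho'.2] at h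
    omega
  have hout : B \ d = octadOf S \ d := by
    by_contra hne
    have h3 : 3 ≤ ((B \ d) ∪ (octadOf S \ d)).card := by
      by_contra h
      exact hne ((Finset.eq_of_subset_of_card_le Finset.subset_union_left (by omega)).trans
        (Finset.eq_of_subset_of_card_le Finset.subset_union_right (by omega)).symm)
    have hsub : (B \ d) ∪ (octadOf S \ d) ⊆ dᶜ.filter fun y => g y = y := by
      intro y hy
      refine Finset.mem_filter.2 ⟨?_, ?_⟩
      · rcases Finset.mem_union.1 hy with h | h <;>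
          exact Finset.mem_compl.2 (Finset.mem_sdiff.1 h).2
      · rcases Finset.mem_union.1 hy with h | h
        · exact hpair _ (by rw [Finset.smul_finset_sdiff, hgB, hgd]) hBc y h
        · exact hpair _ (by rw [Finset.smul_finset_sdiff, hgO, hgd]) hOc y h
    have h3' := le_trans h3 (Finset.card_le_card hsub)
    have hm := card_mod_of_invariant hg5 (O := dᶜ) fun y => by
      rw [Finset.mem_compl, Finset.mem_compl, mem_iff_of_mem_dodG hg]
    rw [hdc'] at hm
    have h9 := card_fixed_lt_nine (p := 5) (by norm_num) hg.1 hgo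
    have : (d.filter fun y => g y = y).card + (dᶜ.filter fun y => g y = y).card ≤
        (g.supportᶜ).card := by
      rw [← Finset.card_union_of_disjoint (Finset.disjoint_filter_filter disjoint_compl_right)]
      exact Finset.card_le_card fun y hy => by
        rcases Finset.mem_union.1 hy with h | h <;> simpa using (Finset.mem_filter.1 h).2
    omega
  have : B = octadOf S := by
    rw [← Finset.sdiff_union_inter B d, ← Finset.sdiff_union_inter (octadOf S) d, hin, hout]
  exact this ▸ ho'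

theorem mem_M24_of_equivariant {d : Finset GolayPt} (hd : d ∈ dodecads) {π : Equiv.Perm GolayPt}
    (hπd : π • d = d) (hlift : ∀ g ∈ dodG d, ∃ k ∈ dodG d, π * k = g * π) : π ∈ M24 := by
  classical
  have hπd' : π • dᶜ = dᶜ := by rw [smul_compl', hπd]
  have hlift' : ∀ g ∈ dodG dᶜ, ∃ k ∈ dodG dᶜ, π * k = g * π := by
    rw [dodG_compl]; exact hlift
  have hdc : d.card = 12 := hd.2
  have h26 : ∀ o ∈ octads, (o ∩ d).card = 2 ∨ (o ∩ d).card = 6 → π • o ∈ octads := by
    intro o ho h
    rcases h with h | h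
    · refine smul_hexad_octad (compl_mem_dodecads hd) hπd' hlift' ho ?_
      have h2 := Finset.card_sdiff_add_card_inter o d
      rw [h, show o.card = 8 from ho.2] at h2
      rw [← Finset.sdiff_eq_inter_compl]
      omega
    · exact smul_hexad_octad hd hπd hlift ho h
  refine mem_M24_of_octads fun o ho => ?_
  rcases octad_inter_dodecad ho hd with h | h | h
  · exact h26 o ho (Or.inl h)
  swap
  · exact h26 o ho (Or.inr h)
  obtain ⟨e, hed, heo⟩ := Finset.exists_mem_notMem_of_card_lt_card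
    (show o.card < d.card by rw [hdc, show o.card = 8 from ho.2]; norm_num)
  have hc5 : (insert e (o ∩ d)).card = 5 := by
    rw [Finset.card_insert_of_notMem (fun h' => heo (Finset.mem_inter.1 h').1), h]
  obtain ⟨ho1, hsub⟩ := octadOf_spec hc5
  set o1 := octadOf (insert e (o ∩ d))
  have he1 : e ∈ o1 := hsub (Finset.mem_insert_self _ _)
  have h61 : (o1 ∩ d).card = 6 := by
    have h5 : 5 ≤ (o1 ∩ d).card := hc5 ▸ Finset.card_le_card
      (Finset.subset_inter hsub (Finset.insert_subset hed Finset.inter_subset_right))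
    rcases octad_inter_dodecad ho1 hd with h' | h' | h' <;> omega
  have hle : 4 ≤ (o1 ∩ o).card := h ▸ Finset.card_le_card
    (Finset.subset_inter ((Finset.subset_insert _ _).trans hsub) Finset.inter_subset_left)
  have he4 : (o1 ∩ o).card = 4 := by
    rcases octad_inter_octad ho1 ho with h' | h' | h' | h'
    · omega
    · omega
    · exact h'
    · exact absurd (h' ▸ he1) heo
  have ho2 : o1 ∆ o ∈ octads := by
    refine ⟨symmDiff_mem ho1.1 ho.1, ?_⟩
    have h2 := card_symmDiff_add o1 o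
    rw [he4, show o.card = 8 from ho.2, show o1.card = 8 from ho1.2] at h2
    show (o1 ∆ o).card = 8
    omega
  have h22 : ((o1 ∆ o) ∩ d).card = 2 := by
    have hd2 : (o1 ∆ o) ∩ d = (o1 ∩ d) ∆ (o ∩ d) := by
      ext y; simp only [Finset.mem_inter, Finset.mem_symmDiff]; tauto
    have hii : (o1 ∩ d) ∩ (o ∩ d) = o ∩ d := by
      refine Finset.inter_eq_right.2 fun y hy => Finset.mem_inter.2
        ⟨hsub (Finset.mem_insert_of_mem hy), (Finset.mem_inter.1 hy).2⟩
    have h2 := card_symmDiff_add (o1 ∩ d) (o ∩ d)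
    rw [hii, ← hd2, h61, h] at h2
    omega
  refine ⟨?_, by rw [Finset.card_smul_finset]; exact ho.2⟩
  have := symmDiff_mem (h26 o1 ho1 (Or.inr h61)).1 (h26 _ ho2 (Or.inl h22)).1
  rwa [← smul_symmDiff, symmDiff_symmDiff_cancel_left] at this

theorem stabilizer_dod_injective {d : Finset GolayPt} (hd : d ∈ dodecads) {a q : GolayPt}
    (ha : a ∈ d) (hq : q ∉ d) : stabilizer (dodG d) a ≠ stabilizer (dodG d) q := by
  intro h
  obtain ⟨q', hq', hne⟩ := Finset.exists_mem_ne
    (show 1 < dᶜ.card by rw [show dᶜ.card = 12 from (compl_mem_dodecads hd).2]; norm_num) q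
  obtain ⟨g, hga, hgq⟩ := exists_map_dod_fix hd ha hq (Finset.mem_compl.1 hq')
  have : g ∈ stabilizer (dodG d) q := h ▸ (hga : g ∈ stabilizer (dodG d) a)
  exact hne (hgq.symm.trans this)

/-- An automorphism fixing the stabilisers of a point inside and a point outside. -/
theorem exists_perm_of_fix_dod {d : Finset GolayPt} (hd : d ∈ dodecads) {β : MulAut (dodG d)}
    {a b : GolayPt} (ha : a ∈ d) (hb : b ∉ d)
    (hsta : ∀ h : dodG d, β h • a = a ↔ h • a = a) (hstb : ∀ h : dodG d, β h • b = b ↔ h • b = b) :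
    ∃ π ∈ M24, π • d = d ∧ ∀ g : dodG d, (β g : Equiv.Perm GolayPt) = π * g * π⁻¹ := by
  classical
  have hex : ∀ p : GolayPt, ∃ g : dodG d, g • (if p ∈ d then a else b) = p := fun p => by
    by_cases hp : p ∈ d
    · rw [if_pos hp]; exact exists_map_dod hd (iff_of_true ha hp)
    · rw [if_neg hp]; exact exists_map_dod hd (iff_of_false hb hp)
  choose rep hrep using hex
  have hwd : ∀ c : GolayPt, (∀ h : dodG d, β h • c = c ↔ h • c = c) →
      ∀ g k : dodG d, β g • c = β k • c ↔ g • c = k • c := by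
    intro c hst g k
    rw [← inv_smul_eq_iff, ← mul_smul, ← map_inv, ← map_mul, hst, mul_smul, inv_smul_eq_iff]
  have hmem : ∀ (g : dodG d) (y : GolayPt), g • y ∈ d ↔ y ∈ d := fun g y => mem_iff_of_mem_dodG g.2 y
  let base : GolayPt → GolayPt := fun p => if p ∈ d then a else b
  have hbase : ∀ p, base p ∈ d ↔ p ∈ d := fun p => by
    by_cases hp : p ∈ d <;> simp [base, hp, ha, hb]
  have hbw : ∀ p (g k : dodG d), β g • base p = β k • base p ↔ g • base p = k • base p := by
    intro p
    by_cases hp : p ∈ d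
    · simp only [base, if_pos hp]; exact hwd a hsta
    · simp only [base, if_neg hp]; exact hwd b hstb
  let f : GolayPt → GolayPt := fun p => β (rep p) • base p
  have hfd : ∀ p, f p ∈ d ↔ p ∈ d := fun p => (hmem _ _).trans (hbase p)
  have hfinj : Function.Injective f := fun p q h => by
    have hpq : p ∈ d ↔ q ∈ d := by rw [← hfd p, ← hfd q, h]
    have e : base p = base q := by simp only [base, hpq]
    simp only [f, ← e] at h
    calc p = rep p • base p := (hrep p).symm
      _ = rep q • base p := (hbw p _ _).1 h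
      _ = q := by rw [e]; exact hrep q
  let π : Equiv.Perm GolayPt := Equiv.ofBijective f (Finite.injective_iff_bijective.1 hfinj)
  have hπ : ∀ (g : dodG d) (p : GolayPt), π (g • p) = β g • π p := by
    intro g p
    have e : base (g • p) = base p := by simp only [base, hmem g p]
    show f (g • p) = β g • f p
    simp only [f, e]
    rw [← mul_smul, ← map_mul, hbw, mul_smul, show rep p • base p = p from hrep p, ← e]
    exact hrep _
  have hπd : π • d = d := Finset.eq_of_subset_of_card_le (fun y hy => by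
    obtain ⟨p, hp, rfl⟩ := Finset.mem_smul_finset.1 hy
    exact (hfd p).2 hp) (by rw [Finset.card_smul_finset])
  have hπg : ∀ g : dodG d, π * (g : Equiv.Perm GolayPt) = (β g : Equiv.Perm GolayPt) * π :=
    fun g => Equiv.ext fun p => hπ g p
  refine ⟨π, mem_M24_of_equivariant hd hπd fun g hg => ⟨_, (β.symm ⟨g, hg⟩).2, ?_⟩, hπd,
    fun g => ?_⟩
  · rw [hπg, MulEquiv.apply_symm_apply]
  · rw [hπg, mul_inv_cancel_right]

/-- Conjugation by an element of M24 mapping `d` to `d` or to its complement. -/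
noncomputable def dodConj {d : Finset GolayPt} (π : Equiv.Perm GolayPt) (hπ : π ∈ M24)
    (hπd : π • d = d ∨ π • d = dᶜ) : MulAut (dodG d) :=
  have h1 : ∀ g ∈ dodG d, π * g * π⁻¹ ∈ dodG d := fun g hg => by
    refine mem_dodG.2 ⟨mul_mem (mul_mem hπ (mem_dodG.1 hg).1) (inv_mem hπ), ?_⟩
    show (π * g * π⁻¹) • d = d
    have hgd : g • d = d := hg.2
    rcases hπd with h | h
    · rw [mul_smul, mul_smul, show π⁻¹ • d = d by rw [inv_smul_eq_iff, h], hgd, h]
    · rw [mul_smul, mul_smul, show π⁻¹ • d = dᶜ by rw [inv_smul_eq_iff, smul_compl', h, compl_compl],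
        smul_compl', hgd, smul_compl', h, compl_compl]
  have h2 : ∀ g ∈ dodG d, π⁻¹ * g * π ∈ dodG d := fun g hg => by
    refine mem_dodG.2 ⟨mul_mem (mul_mem (inv_mem hπ) (mem_dodG.1 hg).1) hπ, ?_⟩
    show (π⁻¹ * g * π) • d = d
    have hgd : g • d = d := hg.2
    rcases hπd with h | h
    · rw [mul_smul, mul_smul, h, hgd, inv_smul_eq_iff, h]
    · rw [mul_smul, mul_smul, h, smul_compl', hgd, inv_smul_eq_iff, h]
  { toFun := fun g => ⟨_, h1 g g.2⟩
    invFun := fun g => ⟨_, h2 g g.2⟩
    left_inv := fun g => Subtype.ext (by show π⁻¹ * (π * g * π⁻¹) * π = _; group)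
    right_inv := fun g => Subtype.ext (by show π * (π⁻¹ * g * π) * π⁻¹ = _; group)
    map_mul' := fun g h => Subtype.ext (by
      show π * ((g : Equiv.Perm GolayPt) * h) * π⁻¹ = π * g * π⁻¹ * (π * h * π⁻¹); group) }

theorem dodConj_apply {d : Finset GolayPt} (π : Equiv.Perm GolayPt) (hπ : π ∈ M24)
    (hπd : π • d = d ∨ π • d = dᶜ) (g : dodG d) :
    (dodConj π hπ hπd g : Equiv.Perm GolayPt) = π * g * π⁻¹ := rfl

theorem exists_swap_dod {d : Finset GolayPt} (hd : d ∈ dodecads) :
    ∃ t ∈ M24, t • d = dᶜ := by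
  obtain ⟨t, ht, h⟩ := exists_map_dodecad hd (compl_mem_dodecads hd)
  exact ⟨t, ht, h⟩

theorem exists_perm_of_mulAut_dod {d : Finset GolayPt} (hd : d ∈ dodecads) (α : MulAut (dodG d)) :
    ∃ π ∈ M24, (π • d = d ∨ π • d = dᶜ) ∧
      ∀ g : dodG d, (α g : Equiv.Perm GolayPt) = π * g * π⁻¹ := by
  classical
  obtain ⟨a, ha⟩ := Finset.card_pos.1 (show 0 < d.card by rw [show d.card = 12 from hd.2]; norm_num)
  obtain ⟨b, hb⟩ := Finset.card_pos.1
    (show 0 < dᶜ.card by rw [show dᶜ.card = 12 from (compl_mem_dodecads hd).2]; norm_num)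
  rw [Finset.mem_compl] at hb
  have hmap : ∀ (γ : MulAut (dodG d)) (c : GolayPt),
      ∃ p : GolayPt, ∀ h : dodG d, γ h • p = p ↔ h • c = c := by
    intro γ c
    obtain ⟨p, hp⟩ := exists_eq_stabilizer_dod hd
      (H := (stabilizer (dodG d) c).map γ.toMonoidHom)
      (by rw [← Nat.card_congr (Subgroup.equivMapOfInjective _ γ.toMonoidHom γ.injective).toEquiv,
        natCard_dod_stabilizer hd])
    refine ⟨p, fun h => ?_⟩
    rw [← mem_stabilizer_iff, ← mem_stabilizer_iff, ← hp]
    exact Subgroup.mem_map_iff_mem γ.injective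
  obtain ⟨p, hp⟩ := hmap α a
  obtain ⟨t, ht, htd, htp⟩ : ∃ t ∈ M24, (t • d = d ∨ t • d = dᶜ) ∧ t p ∈ d := by
    by_cases hpd : p ∈ d
    · exact ⟨1, one_mem _, Or.inl (one_smul _ d), hpd⟩
    · obtain ⟨t, ht, htd⟩ := exists_swap_dod hd
      refine ⟨t, ht, Or.inr htd, ?_⟩
      have : t • d = dᶜ := htd
      by_contra hc
      rw [← Finset.mem_compl, ← this, ← Equiv.Perm.smul_def, Finset.smul_mem_smul_finset_iff] at hc
      exact hpd hc
  obtain ⟨k, hk⟩ := exists_map_dod hd (iff_of_true htp ha)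
  set β₁ : MulAut (dodG d) := MulAut.conj k * (dodConj t ht htd * α) with hβ₁
  have hβ₁v : ∀ g, (β₁ g : Equiv.Perm GolayPt) =
      ((k : Equiv.Perm GolayPt) * t) * (α g : Equiv.Perm GolayPt) * ((k : Equiv.Perm GolayPt) * t)⁻¹ := by
    intro g
    rw [hβ₁, MulAut.mul_apply, MulAut.mul_apply, MulAut.conj_apply, Subgroup.coe_mul,
      Subgroup.coe_mul, Subgroup.coe_inv, dodConj_apply]
    group
  have hconj : ∀ (s u : Equiv.Perm GolayPt) (c y : GolayPt), s y = c → ((s * u * s⁻¹) c = c ↔ u y = y) := by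
    intro s u c y h
    rw [Equiv.Perm.mul_apply, Equiv.Perm.mul_apply, show s⁻¹ c = y from Equiv.Perm.inv_eq_iff_eq.2 h.symm]
    exact ⟨fun e => s.injective (e.trans h.symm), fun e => by rw [e, h]⟩
  have hsta1 : ∀ h, β₁ h • a = a ↔ h • a = a := by
    intro h
    show (β₁ h : Equiv.Perm GolayPt) a = a ↔ _
    rw [hβ₁v, hconj _ _ a p (by rw [Equiv.Perm.mul_apply]; exact hk)]
    exact hp h
  obtain ⟨q, hq⟩ := hmap β₁ b
  have hqd : q ∉ d := fun hqd => by
    obtain ⟨m, hm⟩ := exists_map_dod hd (iff_of_true ha hqd)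
    set n := β₁.symm m with hn
    refine stabilizer_dod_injective hd ((mem_iff_of_mem_dodG n.2 a).2 ha) hb (Subgroup.ext fun h => ?_)
    rw [mem_stabilizer_iff, mem_stabilizer_iff, ← hq h]
    have h1 := hsta1 (n⁻¹ * h * n)
    rw [map_mul, map_mul, map_inv, hn, MulEquiv.apply_symm_apply, mul_smul, mul_smul, hm,
      inv_smul_eq_iff, hm, ← hn, mul_smul, mul_smul, inv_smul_eq_iff] at h1
    exact h1.symm
  obtain ⟨m, hma, hmq⟩ := exists_map_dod_fix hd ha hqd hb
  have hsta2 : ∀ h, (MulAut.conj m * β₁) h • a = a ↔ h • a = a := by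
    intro h
    rw [MulAut.mul_apply, MulAut.conj_apply]
    show ((m : Equiv.Perm GolayPt) * (β₁ h : Equiv.Perm GolayPt) * (m : Equiv.Perm GolayPt)⁻¹) a = a ↔ _
    rw [hconj _ _ a a hma]
    exact hsta1 h
  have hstb2 : ∀ h, (MulAut.conj m * β₁) h • b = b ↔ h • b = b := by
    intro h
    rw [MulAut.mul_apply, MulAut.conj_apply]
    show ((m : Equiv.Perm GolayPt) * (β₁ h : Equiv.Perm GolayPt) * (m : Equiv.Perm GolayPt)⁻¹) b = b ↔ _
    rw [hconj _ _ b q hmq]
    exact hq h
  obtain ⟨π, hπ, hπd, hπβ⟩ := exists_perm_of_fix_dod hd ha hb hsta2 hstb2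
  set u : Equiv.Perm GolayPt := (m : Equiv.Perm GolayPt) * ((k : Equiv.Perm GolayPt) * t) with hu
  refine ⟨u⁻¹ * π, mul_mem (inv_mem (mul_mem (mem_dodG.1 m.2).1 (mul_mem (mem_dodG.1 k.2).1 ht))) hπ, ?_, fun g => ?_⟩
  · have hmd : (m : Equiv.Perm GolayPt) • d = d := (mem_dodG.1 m.2).2
    have hkd : (k : Equiv.Perm GolayPt) • d = d := (mem_dodG.1 k.2).2
    rcases htd with h | h
    · left
      rw [mul_smul, hπd, inv_smul_eq_iff, hu, mul_smul, mul_smul, h, hkd, hmd]
    · right
      rw [mul_smul, hπd, inv_smul_eq_iff, hu, mul_smul, mul_smul, smul_compl', h, compl_compl, hkd,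
        hmd]
  · have h := hπβ g
    rw [MulAut.mul_apply, MulAut.conj_apply, Subgroup.coe_mul, Subgroup.coe_mul, Subgroup.coe_inv,
      hβ₁v] at h
    calc (α g : Equiv.Perm GolayPt) = u⁻¹ * ((m : Equiv.Perm GolayPt) *
          (((k : Equiv.Perm GolayPt) * t) * (α g : Equiv.Perm GolayPt) *
            ((k : Equiv.Perm GolayPt) * t)⁻¹) * (m : Equiv.Perm GolayPt)⁻¹) * u := by rw [hu]; group
      _ = _ := by rw [h]; group

/-- An element of M24 exchanging a dodecad and its complement is not inner on the stabiliser. -/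
theorem not_inner_of_compl {d : Finset GolayPt} (hd : d ∈ dodecads) {π : Equiv.Perm GolayPt}
    (hπd : π • d = dᶜ) (k : dodG d) : ¬ ∀ g : dodG d,
      π * (g : Equiv.Perm GolayPt) * π⁻¹ = (k : Equiv.Perm GolayPt) * g * (k : Equiv.Perm GolayPt)⁻¹ := by
  intro h
  set z : Equiv.Perm GolayPt := (k : Equiv.Perm GolayPt)⁻¹ * π with hz
  obtain ⟨p, hp⟩ := Finset.card_pos.1 (show 0 < d.card by rw [show d.card = 12 from hd.2]; norm_num)
  have hzp : z p ∉ d := by
    have hkd : (k : Equiv.Perm GolayPt)⁻¹ • dᶜ = dᶜ := by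
      rw [smul_compl', inv_smul_eq_iff.2 (show d = (k : Equiv.Perm GolayPt) • d from (mem_dodG.1 k.2).2.symm)]
    have : z • p ∈ z • d := Finset.smul_mem_smul_finset hp
    rw [show z • d = dᶜ by rw [hz, mul_smul, hπd, hkd], Finset.mem_compl] at this
    exact this
  obtain ⟨r, hr, hne⟩ := Finset.exists_mem_ne
    (show 1 < dᶜ.card by rw [show dᶜ.card = 12 from (compl_mem_dodecads hd).2]; norm_num) (z p)
  obtain ⟨g, hgp, hgz⟩ := exists_map_dod_fix hd hp hzp (Finset.mem_compl.1 hr)
  have e : z * (g : Equiv.Perm GolayPt) = (g : Equiv.Perm GolayPt) * z := by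
    calc z * (g : Equiv.Perm GolayPt) = (k : Equiv.Perm GolayPt)⁻¹ *
          (π * (g : Equiv.Perm GolayPt) * π⁻¹) * π := by rw [hz]; group
      _ = _ := by rw [h g, hz]; group
  have h2 := Equiv.Perm.ext_iff.1 e p
  rw [Equiv.Perm.mul_apply, Equiv.Perm.mul_apply,
    show (g : Equiv.Perm GolayPt) p = p from hgp] at h2
  exact hne (hgz.symm.trans h2.symm)

theorem natCard_out_dod {d : Finset GolayPt} (hd : d ∈ dodecads) :
    Nat.card (Cfsg.Out ↥(dodG d)) = 2 := by
  rw [← Subgroup.index_eq_card, Subgroup.index_eq_two_iff]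
  obtain ⟨t, ht, htd⟩ := exists_swap_dod hd
  have hinn : ∀ (α : MulAut (dodG d)) (π : Equiv.Perm GolayPt), π ∈ M24 →
      (∀ g : dodG d, (α g : Equiv.Perm GolayPt) = π * g * π⁻¹) →
      (π • d = d → α ∈ Inn ↥(dodG d)) ∧ (π • d = dᶜ → α ∉ Inn ↥(dodG d)) := by
    intro α π hπ hα
    refine ⟨fun h => ⟨⟨π, hπ, h⟩, ?_⟩, fun h => ?_⟩
    · refine MulEquiv.ext fun g => Subtype.ext ?_
      rw [hα g]
      rfl
    · rintro ⟨k, rfl⟩
      exact not_inner_of_compl hd h k fun g => (hα g).symm
  refine ⟨dodConj t ht (Or.inr htd), fun α => ?_⟩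
  obtain ⟨π, hπ, hcase, hα⟩ := exists_perm_of_mulAut_dod hd α
  have hατ : ∀ g : dodG d, ((α * dodConj t ht (Or.inr htd)) g : Equiv.Perm GolayPt) =
      (π * t) * g * (π * t)⁻¹ := by
    intro g
    rw [MulAut.mul_apply, hα, dodConj_apply]
    group
  rcases hcase with h | h
  · exact Or.inr ⟨(hinn α π hπ hα).1 h, (hinn _ _ (mul_mem hπ ht) hατ).2
      (by rw [mul_smul, htd, smul_compl', h])⟩
  · exact Or.inl ⟨(hinn _ _ (mul_mem hπ ht) hατ).1
      (by rw [mul_smul, htd, smul_compl', h, compl_compl]), (hinn α π hπ hα).2 h⟩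

end Cfsg.Agent.Golay
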