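/-
Golay library, part 30: the orbits of a sextet stabiliser on sextets and its maximality.

Main results: `sextetClass`, `exists_sextet_orbits`, `isCoatom_sextet`.
-/
import Cfsg.Agent.Lib.Golay.SextetStab

set_option autoImplicit false
set_option maxRecDepth 40000
open scoped Pointwise
open Cfsg MulAction

namespace Cfsg.Agent.Golay

/-- An invariant separating the orbits. -/
def sextetClass (S X : Finset (Finset GolayPt)) : ℕ :=
  100 * interCount 2 S X + interCount 3 S X

theorem sextetClass_smul (g : Equiv.Perm GolayPt) (S X : Finset (Finset GolayPt)) :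
    sextetClass (g • S) (g • X) = sextetClass S X := by
  simp [sextetClass, interCount_smul]

/-- The tetrad through the last point. -/
def keyOf (L : List ℕ) : ℕ := (L.filter fun m => m.testBit 23).headD 0

/-- The four orbit lists. -/
def sextetLists : List (List ℕ) :=
  [sextet0] ++ orbitList sextetGens sextetSteps1 sextetRep1 ++
    orbitList sextetGens sextetSteps2 sextetRep2 ++ orbitList sextetGens sextetSteps3 sextetRep3

theorem sextetGens_ok : ∀ d ∈ sextetGens, stabOk sextet0 d = true := by decide +kernel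

theorem sextetLists_keys : distinctBits 24 (sextetLists.map keyOf) = true := by decide +kernel

theorem sextetLists_valid :
    sextetLists.all (fun L => (keyOf L).testBit 23 && L.all fun m => Nat.blt m 16777216) = true := by
  decide +kernel

theorem sextetLists_length :
    (orbitList sextetGens sextetSteps1 sextetRep1).length = 90 ∧
      (orbitList sextetGens sextetSteps2 sextetRep2).length = 240 ∧
      (orbitList sextetGens sextetSteps3 sextetRep3).length = 1440 := by
  decide +kernel

theorem sextetReps_ok : sextetOk sextetRep1 = true ∧ sextetOk sextetRep2 = true ∧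
    sextetOk sextetRep3 = true := by
  decide +kernel

theorem sextetReps_card : (toFinS sextetRep1).card = 6 ∧ (toFinS sextetRep2).card = 6 ∧
    (toFinS sextetRep3).card = 6 := by
  decide +kernel

theorem sextetClass_self0 : sextetClass (toFinS sextet0) (toFinS sextet0) = 0 := by
  decide +kernel

theorem sextetClass_rep1 : sextetClass (toFinS sextet0) (toFinS sextetRep1) = 1200 := by
  decide +kernel

theorem sextetClass_rep2 : sextetClass (toFinS sextet0) (toFinS sextetRep2) = 2 := by
  decide +kernel

theorem sextetClass_rep3 : sextetClass (toFinS sextet0) (toFinS sextetRep3) = 400 := by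
  decide +kernel

theorem keyOf_mem {L : List ℕ} (h : (keyOf L).testBit 23 = true) : keyOf L ∈ L := by
  unfold keyOf at h ⊢
  cases hL : L.filter fun m => m.testBit 23 with
  | nil => rw [hL] at h; simp at h
  | cons a l =>
    rw [List.headD_cons]
    exact (List.mem_filter.mp (hL ▸ List.mem_cons_self .. : a ∈ L.filter fun m => m.testBit 23)).1

theorem keyOf_eq {L L' : List ℕ} (hL : L ∈ sextetLists) (hL' : L' ∈ sextetLists)
    (hs : toFinS L ∈ sextets) (h : toFinS L = toFinS L') : keyOf L = keyOf L' := by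
  have hv := sextetLists_valid
  simp only [List.all_eq_true, Bool.and_eq_true, Nat.blt_eq] at hv
  obtain ⟨hk, hlt⟩ := hv L hL
  obtain ⟨hk', hlt'⟩ := hv L' hL'
  have hm : pts (keyOf L) ∈ toFinS L := mem_toFinS.mpr ⟨_, keyOf_mem hk, rfl⟩
  have hm' : pts (keyOf L') ∈ toFinS L :=
    h.symm ▸ mem_toFinS.mpr ⟨_, keyOf_mem hk', rfl⟩
  refine pts_injOn (hlt _ (keyOf_mem hk)) (hlt' _ (keyOf_mem hk')) ?_
  by_contra hne
  have hd := sextet_disjoint hs hm hm' hne
  have hi : idx (none : GolayPt) = 23 := rfl
  exact Finset.disjoint_left.mp hd (mem_pts.mpr (hi.symm ▸ hk)) (mem_pts.mpr (hi.symm ▸ hk'))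

/-- The orbit of a standard representative. -/
abbrev orb0 (rep : List ℕ) : Set (Finset (Finset GolayPt)) :=
  orbit (stabilizer M24 (toFinS sextet0)) (toFinS rep)

theorem orb0_subset_sextets {rep : List ℕ} (h : toFinS rep ∈ sextets) : orb0 rep ⊆ sextets := by
  rintro _ ⟨g, rfl⟩
  exact smul_mem_sextets g.1.2 h

theorem sextetClass_orb0 {rep : List ℕ} {X : Finset (Finset GolayPt)} (hX : X ∈ orb0 rep) :
    sextetClass (toFinS sextet0) X = sextetClass (toFinS sextet0) (toFinS rep) := by
  obtain ⟨g, rfl⟩ := hX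
  conv_rhs => rw [← sextetClass_smul (g.1 : Equiv.Perm GolayPt)]
  rw [show (g.1 : Equiv.Perm GolayPt) • toFinS sextet0 = toFinS sextet0 from g.2]
  rfl

theorem sextet_orbits0 :
    (orb0 sextetRep1).ncard = 90 ∧ (orb0 sextetRep2).ncard = 240 ∧
      (orb0 sextetRep3).ncard = 1440 ∧
      sextets = {toFinS sextet0} ∪ orb0 sextetRep1 ∪ orb0 sextetRep2 ∪ orb0 sextetRep3 := by
  classical
  have r1 := toFinS_mem_sextets sextetReps_ok.1 sextetReps_card.1
  have r2 := toFinS_mem_sextets sextetReps_ok.2.1 sextetReps_card.2.1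
  have r3 := toFinS_mem_sextets sextetReps_ok.2.2 sextetReps_card.2.2
  have hmem : ∀ L ∈ sextetLists, toFinS L ∈ sextets := by
    intro L hL
    simp only [sextetLists, List.mem_append, List.mem_singleton] at hL
    rcases hL with ((rfl | h) | h) | h
    · exact sextet0_mem
    · exact orb0_subset_sextets r1 (mem_orbit_of_mem_orbitList sextetGens_ok h)
    · exact orb0_subset_sextets r2 (mem_orbit_of_mem_orbitList sextetGens_ok h)
    · exact orb0_subset_sextets r3 (mem_orbit_of_mem_orbitList sextetGens_ok h)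
  have hnd : (sextetLists.map toFinS).Nodup := by
    have hk := nodup_of_distinctBits _ _ sextetLists_keys
    refine List.Nodup.map_on (fun a ha b hb e => ?_) (List.Nodup.of_map _ hk)
    exact List.inj_on_of_nodup_map hk ha hb (keyOf_eq ha hb (hmem a ha) e)
  let O : List ℕ → List ℕ → Finset (Finset (Finset GolayPt)) := fun steps rep =>
    ((orbitList sextetGens steps rep).map toFinS).toFinset
  have hnd' := hnd
  simp only [sextetLists, List.map_append, List.nodup_append] at hnd'
  have hO : ∀ steps rep, (O steps rep : Set (Finset (Finset GolayPt))) ⊆ orb0 rep := by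
    intro steps rep X hX
    simp only [O, List.coe_toFinset, List.mem_map, Set.mem_ofPred_eq] at hX
    obtain ⟨L, hL, rfl⟩ := hX
    exact mem_orbit_of_mem_orbitList sextetGens_ok hL
  have c1 : (O sextetSteps1 sextetRep1).card = 90 := by
    rw [List.toFinset_card_of_nodup hnd'.1.1.2.1, List.length_map, sextetLists_length.1]
  have c2 : (O sextetSteps2 sextetRep2).card = 240 := by
    rw [List.toFinset_card_of_nodup hnd'.1.2.1, List.length_map, sextetLists_length.2.1]
  have c3 : (O sextetSteps3 sextetRep3).card = 1440 := by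
    rw [List.toFinset_card_of_nodup hnd'.2.1, List.length_map, sextetLists_length.2.2]
  have hcover : sextets = ↑(sextetLists.map toFinS).toFinset := by
    symm
    refine Set.eq_of_subset_of_ncard_le ?_ ?_
    · intro X hX
      simp only [List.coe_toFinset, List.mem_map, Set.mem_ofPred_eq] at hX
      obtain ⟨L, hL, rfl⟩ := hX
      exact hmem L hL
    · rw [ncard_sextets, Set.ncard_coe_finset, List.toFinset_card_of_nodup hnd, List.length_map,
        sextetLists]
      simp only [List.length_append, List.length_singleton, sextetLists_length.1,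
        sextetLists_length.2.1, sextetLists_length.2.2]
      norm_num
  have hsplit : ∀ X ∈ sextets, X = toFinS sextet0 ∨ X ∈ O sextetSteps1 sextetRep1 ∨
      X ∈ O sextetSteps2 sextetRep2 ∨ X ∈ O sextetSteps3 sextetRep3 := by
    intro X hX
    rw [hcover] at hX
    simp only [List.coe_toFinset, List.mem_map, Set.mem_ofPred_eq, sextetLists, List.mem_append,
      List.mem_singleton] at hX
    simp only [O, List.mem_toFinset, List.mem_map]
    obtain ⟨L, ((rfl | h) | h) | h, rfl⟩ := hX
    · exact Or.inl rfl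
    · exact Or.inr (Or.inl ⟨L, h, rfl⟩)
    · exact Or.inr (Or.inr (Or.inl ⟨L, h, rfl⟩))
    · exact Or.inr (Or.inr (Or.inr ⟨L, h, rfl⟩))
  have key : ∀ X ∈ sextets, ∀ rep, X ∈ orb0 rep →
      sextetClass (toFinS sextet0) X = sextetClass (toFinS sextet0) (toFinS rep) :=
    fun X _ rep h => sextetClass_orb0 h
  have e1 : orb0 sextetRep1 = ↑(O sextetSteps1 sextetRep1) := by
    refine Set.Subset.antisymm (fun X hX => ?_) (hO _ _)
    have hc := sextetClass_orb0 hX
    rw [sextetClass_rep1] at hc
    rcases hsplit X (orb0_subset_sextets r1 hX) with rfl | h | h | h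
    · rw [sextetClass_self0] at hc; omega
    · exact h
    · have := sextetClass_orb0 (hO _ _ h); rw [sextetClass_rep2] at this; omega
    · have := sextetClass_orb0 (hO _ _ h); rw [sextetClass_rep3] at this; omega
  have e2 : orb0 sextetRep2 = ↑(O sextetSteps2 sextetRep2) := by
    refine Set.Subset.antisymm (fun X hX => ?_) (hO _ _)
    have hc := sextetClass_orb0 hX
    rw [sextetClass_rep2] at hc
    rcases hsplit X (orb0_subset_sextets r2 hX) with rfl | h | h | h
    · rw [sextetClass_self0] at hc; omega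
    · have := sextetClass_orb0 (hO _ _ h); rw [sextetClass_rep1] at this; omega
    · exact h
    · have := sextetClass_orb0 (hO _ _ h); rw [sextetClass_rep3] at this; omega
  have e3 : orb0 sextetRep3 = ↑(O sextetSteps3 sextetRep3) := by
    refine Set.Subset.antisymm (fun X hX => ?_) (hO _ _)
    have hc := sextetClass_orb0 hX
    rw [sextetClass_rep3] at hc
    rcases hsplit X (orb0_subset_sextets r3 hX) with rfl | h | h | h
    · rw [sextetClass_self0] at hc; omega
    · have := sextetClass_orb0 (hO _ _ h); rw [sextetClass_rep1] at this; omega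
    · have := sextetClass_orb0 (hO _ _ h); rw [sextetClass_rep2] at this; omega
    · exact h
  refine ⟨by rw [e1, Set.ncard_coe_finset, c1], by rw [e2, Set.ncard_coe_finset, c2],
    by rw [e3, Set.ncard_coe_finset, c3], ?_⟩
  ext X
  simp only [Set.mem_union, Set.mem_singleton_iff, e1, e2, e3, Finset.mem_coe]
  constructor
  · intro hX
    rcases hsplit X hX with h | h | h | h <;> simp [h]
  · rintro (((rfl | h) | h) | h)
    · exact sextet0_mem
    · exact orb0_subset_sextets r1 (hO _ _ h)
    · exact orb0_subset_sextets r2 (hO _ _ h)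
    · exact orb0_subset_sextets r3 (hO _ _ h)

/-- The four orbits of a sextet stabiliser on sextets, and maximality. -/
theorem exists_sextet_orbits {S : Finset (Finset GolayPt)} (hS : S ∈ sextets) :
    ∃ X₁ ∈ sextets, ∃ X₂ ∈ sextets, ∃ X₃ ∈ sextets,
      (orbit ↥(stabilizer M24 S) X₁).ncard = 90 ∧ (orbit ↥(stabilizer M24 S) X₂).ncard = 240 ∧
      (orbit ↥(stabilizer M24 S) X₃).ncard = 1440 ∧
      sextets = {S} ∪ orbit ↥(stabilizer M24 S) X₁ ∪ orbit ↥(stabilizer M24 S) X₂ ∪
        orbit ↥(stabilizer M24 S) X₃ ∧ IsCoatom (stabilizer M24 S) := by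
  classical
  obtain ⟨k, hk, hkS⟩ := exists_map_sextet sextet0_mem hS
  let t : ↥M24 := ⟨k, hk⟩
  have htS : t • toFinS sextet0 = S := hkS
  have r1 := toFinS_mem_sextets sextetReps_ok.1 sextetReps_card.1
  have r2 := toFinS_mem_sextets sextetReps_ok.2.1 sextetReps_card.2.1
  have r3 := toFinS_mem_sextets sextetReps_ok.2.2 sextetReps_card.2.2
  obtain ⟨n1, n2, n3, hall⟩ := sextet_orbits0
  have m1 : (orbit ↥(stabilizer M24 S) (t • toFinS sextetRep1)).ncard = 90 := by
    rw [← htS, ncard_orbit_stabilizer_smul]; exact n1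
  have m2 : (orbit ↥(stabilizer M24 S) (t • toFinS sextetRep2)).ncard = 240 := by
    rw [← htS, ncard_orbit_stabilizer_smul]; exact n2
  have m3 : (orbit ↥(stabilizer M24 S) (t • toFinS sextetRep3)).ncard = 1440 := by
    rw [← htS, ncard_orbit_stabilizer_smul]; exact n3
  have hall' : sextets = {S} ∪ orbit ↥(stabilizer M24 S) (t • toFinS sextetRep1) ∪
      orbit ↥(stabilizer M24 S) (t • toFinS sextetRep2) ∪
      orbit ↥(stabilizer M24 S) (t • toFinS sextetRep3) := by
    have himg : (fun X => t • X) '' sextets = sextets := by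
      refine Set.eq_of_subset_of_ncard_le ?_
        (by rw [Set.ncard_image_of_injective _ (MulAction.injective t)])
      rintro _ ⟨X, hX, rfl⟩
      exact smul_mem_sextets hk hX
    rw [← himg, hall, Set.image_union, Set.image_union, Set.image_union, Set.image_singleton,
      ← orbit_stabilizer_smul, ← orbit_stabilizer_smul, ← orbit_stabilizer_smul, htS]
  refine ⟨_, smul_mem_sextets hk r1, _, smul_mem_sextets hk r2, _, smul_mem_sextets hk r3,
    m1, m2, m3, hall', ?_⟩
  have hclassS : ∀ X ∈ orbit ↥(stabilizer M24 S) S, sextetClass S X = 0 := by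
    rintro _ ⟨g, rfl⟩
    show sextetClass S (g.1 • S) = 0
    rw [show g.1 • S = S from g.2, ← hkS, sextetClass_smul, sextetClass_self0]
  have hclass : ∀ rep X, X ∈ orbit ↥(stabilizer M24 S) (t • toFinS rep) →
      sextetClass S X = sextetClass (toFinS sextet0) (toFinS rep) := by
    intro rep X hX
    rw [← htS, orbit_stabilizer_smul] at hX
    obtain ⟨Y, hY, rfl⟩ := hX
    show sextetClass S (k • Y) = _
    rw [← hkS, sextetClass_smul]
    exact sextetClass_orb0 hY
  have hcases : ∀ X ∈ sextets,
      (X = S ∧ sextetClass S X = 0) ∨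
      (X ∈ orbit ↥(stabilizer M24 S) (t • toFinS sextetRep1) ∧ sextetClass S X = 1200) ∨
      (X ∈ orbit ↥(stabilizer M24 S) (t • toFinS sextetRep2) ∧ sextetClass S X = 2) ∨
      (X ∈ orbit ↥(stabilizer M24 S) (t • toFinS sextetRep3) ∧ sextetClass S X = 400) := by
    intro X hX
    rw [hall'] at hX
    rcases hX with ((h | h) | h) | h
    · rw [Set.mem_singleton_iff] at h
      exact Or.inl ⟨h, h ▸ hclassS _ (mem_orbit_self _)⟩
    · exact Or.inr (Or.inl ⟨h, (hclass _ X h).trans sextetClass_rep1⟩)
    · exact Or.inr (Or.inr (Or.inl ⟨h, (hclass _ X h).trans sextetClass_rep2⟩))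
    · exact Or.inr (Or.inr (Or.inr ⟨h, (hclass _ X h).trans sextetClass_rep3⟩))
  have hgr : ∀ rep, toFinS rep ∈ sextets →
      orbit ↥(stabilizer M24 S) (t • toFinS rep) ⊆ sextets := by
    rintro rep hr _ ⟨g, rfl⟩
    exact smul_mem_sextets g.1.2 (smul_mem_sextets hk hr)
  refine isCoatom_stabilizer_of_suborbits S (sextetClass S) {0, 1200, 2, 400}
    (fun c => if c = 0 then 1 else if c = 1200 then 90 else if c = 2 then 240 else 1440)
    (fun X hX => ?_) (fun X hX Y hY h => ?_) (fun c hc => ?_)
    (by rw [hclassS S (mem_orbit_self _)]; decide +kernel)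
    (by rw [hclassS S (mem_orbit_self _)]; decide +kernel) ?_
  · rw [orbit_sextet hS] at hX
    rcases hcases X hX with ⟨-, e⟩ | ⟨-, e⟩ | ⟨-, e⟩ | ⟨-, e⟩ <;> simp [e]
  · rw [orbit_sextet hS] at hX hY
    rcases hcases X hX with ⟨eX, cX⟩ | ⟨eX, cX⟩ | ⟨eX, cX⟩ | ⟨eX, cX⟩ <;>
      rcases hcases Y hY with ⟨eY, cY⟩ | ⟨eY, cY⟩ | ⟨eY, cY⟩ | ⟨eY, cY⟩
    all_goals first
      | omega
      | exact ⟨1, one_mem _, by rw [one_smul, eX, eY]⟩
      | (obtain ⟨g, hg⟩ := eX
         obtain ⟨g', hg'⟩ := eY
         refine ⟨(g' * g⁻¹ : ↥(stabilizer M24 S)).1, (g' * g⁻¹).2, ?_⟩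
         show (g' * g⁻¹) • X = Y
         rw [mul_smul, ← hg, inv_smul_smul]
         exact hg')
  · rw [orbit_sextet hS]
    simp only [Finset.mem_insert, Finset.mem_singleton] at hc
    rcases hc with rfl | rfl | rfl | rfl
    · rw [show {X | X ∈ sextets ∧ sextetClass S X = 0} = {S} from ?_, Set.ncard_singleton]
      · rfl
      ext X
      refine ⟨fun ⟨hX, h⟩ => ?_, fun h => ?_⟩
      · rcases hcases X hX with ⟨e, -⟩ | ⟨-, e⟩ | ⟨-, e⟩ | ⟨-, e⟩
        · exact e
        all_goals omega
      · rw [Set.mem_singleton_iff] at h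
        subst h
        exact ⟨hS, hclassS _ (mem_orbit_self _)⟩
    · rw [show {X | X ∈ sextets ∧ sextetClass S X = 1200} = _ from ?_, m1]
      · rfl
      ext X
      refine ⟨fun ⟨hX, h⟩ => ?_, fun h => ⟨hgr _ r1 h, (hclass _ X h).trans sextetClass_rep1⟩⟩
      rcases hcases X hX with ⟨-, e⟩ | ⟨e', -⟩ | ⟨-, e⟩ | ⟨-, e⟩
      rotate_left
      · exact e'
      all_goals omega
    · rw [show {X | X ∈ sextets ∧ sextetClass S X = 2} = _ from ?_, m2]
      · rfl
      ext X
      refine ⟨fun ⟨hX, h⟩ => ?_, fun h => ⟨hgr _ r2 h, (hclass _ X h).trans sextetClass_rep2⟩⟩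
      rcases hcases X hX with ⟨-, e⟩ | ⟨-, e⟩ | ⟨e', -⟩ | ⟨-, e⟩
      rotate_left 2
      · exact e'
      all_goals omega
    · rw [show {X | X ∈ sextets ∧ sextetClass S X = 400} = _ from ?_, m3]
      · rfl
      ext X
      refine ⟨fun ⟨hX, h⟩ => ?_, fun h => ⟨hgr _ r3 h, (hclass _ X h).trans sextetClass_rep3⟩⟩
      rcases hcases X hX with ⟨-, e⟩ | ⟨-, e⟩ | ⟨-, e⟩ | ⟨e', -⟩
      rotate_left 3
      · exact e'
      all_goals omega
  · intro e
    have h1 : (orbit M24 S).ncard = 1 := by rw [← index_stabilizer, e, Subgroup.index_top]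
    rw [orbit_sextet hS, ncard_sextets] at h1
    omega

end Cfsg.Agent.Golay
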