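/-
Golay library, part 24: tables for the ternary code of length 12 (two bits for each position in a
word, five bits for each image in a permutation; position `3 * column + row`).
-/
import Cfsg.Agent.EqLemmas

set_option autoImplicit false

namespace Cfsg.Agent.Golay.Ternary

/-- Information positions. -/
def infoPos : List ℕ := [0, 1, 2, 3, 4, 6]

/-- The matching basis. -/
def basisWords : List ℕ :=
  [0x950401, 0x8a8404, 0x584410, 0x198840, 0x924900, 0xa95000]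

/-- The hexads. -/
def hexMasks : List ℕ :=
   [0x3f, 0xde, 0xed, 0xf3, 0x15b, 0x16e, 0x175, 0x19d, 0x1ab, 0x1b6, 0x1c7, 0x1f8, 0x24f, 0x276,
   0x279, 0x29b, 0x2a7, 0x2bc, 0x2d5, 0x2ea, 0x317, 0x32d, 0x33a, 0x35c, 0x363, 0x38e, 0x3b1,
   0x3c9, 0x3d2, 0x3e4, 0x45d, 0x467, 0x47a, 0x497, 0x4ae, 0x4b9, 0x4cb, 0x4f4, 0x50f, 0x533,
   0x53c, 0x556, 0x569, 0x59a, 0x5a5, 0x5cc, 0x5d1, 0x5e2, 0x61e, 0x62b, 0x635, 0x653, 0x66c,
   0x68d, 0x6b2, 0x6c6, 0x6d8, 0x6e1, 0x719, 0x726, 0x745, 0x74a, 0x770, 0x783, 0x794, 0x7a8,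
   0x857, 0x86b, 0x87c, 0x88f, 0x8b5, 0x8ba, 0x8d9, 0x8e6, 0x91e, 0x927, 0x939, 0x94d, 0x972,
   0x993, 0x9ac, 0x9ca, 0x9d4, 0x9e1, 0xa1d, 0xa2e, 0xa33, 0xa5a, 0xa65, 0xa96, 0xaa9, 0xac3,
   0xacc, 0xaf0, 0xb0b, 0xb34, 0xb46, 0xb51, 0xb68, 0xb85, 0xb98, 0xba2, 0xc1b, 0xc2d, 0xc36,
   0xc4e, 0xc71, 0xc9c, 0xca3, 0xcc5, 0xcd2, 0xce8, 0xd15, 0xd2a, 0xd43, 0xd58, 0xd64, 0xd86,
   0xd89, 0xdb0, 0xe07, 0xe38, 0xe49, 0xe54, 0xe62, 0xe8a, 0xe91, 0xea4, 0xf0c, 0xf12, 0xf21,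
   0xfc0]

/-- Seven points determining an automorphism of the hexads. -/
def frame7 : List ℕ := [0, 1, 2, 3, 4, 5, 6]

/-- Five known points and the point they determine. -/
def hexSteps : List (List ℕ × ℕ) :=
  [([0, 1, 2, 3, 6], 9),
   ([0, 1, 2, 4, 6], 11),
   ([0, 1, 2, 3, 11], 7),
   ([0, 1, 2, 4, 7], 10),
   ([0, 1, 2, 3, 10], 8)]

/-- For each of five base points: monomial automorphisms (permutation, mask of negated places). -/
def monoTrans : List (List (ℕ × ℕ)) :=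
  [[(0x5a928398a418820, 0x0),
    (0x320ea4aca418801, 0x0),
    (0x4ad47320a418402, 0x0),
    (0x5a5063a8a410403, 0x533),
    (0x41d6a498a310404, 0x794),
    (0x52ce83248310405, 0x29b),
    (0x5a1472152310406, 0x62d),
    (0x314894296310407, 0x3e1),
    (0x2a4c459d4310408, 0x4c8),
    (0x3a90b290c310409, 0x15d),
    (0x219253ad031040a, 0x4f7),
    (0x490a6520e31040b, 0x1ae)],
   [(0x5a928398a418820, 0x0),
    (0x41ccb524a418440, 0x0),
    (0x518e942ca410460, 0x533),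
    (0x329275a0a310480, 0x794),
    (0x4a0cb3a883104a0, 0x29b),
    (0x29c8852d23104c0, 0x62d),
    (0x5250521963104e0, 0x3e1),
    (0x391693154310500, 0x4c8),
    (0x22caa41cc310520, 0x15d),
    (0x594e64910310540, 0x4f7),
    (0x419442a4e310560, 0x1ae)],
   [(0x5a928398a418820, 0x0),
    (0x4a16a31ca410c20, 0x533),
    (0x3ad06524a311020, 0x794),
    (0x59d494188311420, 0x29b),
    (0x429653912311820, 0x62d),
    (0x290ca4a16311c20, 0x3e1),
    (0x498a722d4312020, 0x4c8),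
    (0x520e4594c312420, 0x15d),
    (0x3248b29d0312820, 0x4f7),
    (0x21528328e312c20, 0x1ae)],
   [(0x5a928398a418820, 0x0),
    (0x418eb4a8a320820, 0x0),
    (0x525673208328820, 0x0),
    (0x5950a21d2330820, 0x6),
    (0x328a44256338820, 0x5),
    (0x29d265914340820, 0x3),
    (0x391482acc348820, 0x6),
    (0x22cc93950350820, 0x3),
    (0x4a085518e358820, 0x5)],
   [(0x5a928398a418820, 0x0),
    (0x3a0ca5a48518820, 0x0),
    (0x51c8b4152618820, 0x6),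
    (0x225062a96718820, 0x5),
    (0x3116549d4818820, 0x3),
    (0x42ca7510c918820, 0x6),
    (0x494e432d0a18820, 0x3),
    (0x29949220eb18820, 0x5)]]

end Cfsg.Agent.Golay.Ternary
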