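/-
Golay library, part 25: the ternary code of length 12 and its hexads.

Main results: `mem_code_iff`, `natCard_code`, `self_orthogonal`, `weights`, `hexads_eq`,
`hexads_steiner`, `ncard_hexads`.
-/
import Cfsg.Agent.Lib.Golay.Perm
import Cfsg.Agent.Lib.Golay.TernaryData
import Cfsg.Prelude.Def_SporadicCombinatorics

set_option autoImplicit false
set_option maxRecDepth 40000
open scoped Pointwise
open Cfsg

namespace Cfsg.Agent.Golay.Ternary

/-- The index of a position. -/
def pidx (p : ArrayPt) : ℕ := 3 * p.1.val + p.2.val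

/-- The position with a given index. -/
def tpt (i : ℕ) : ArrayPt := (Fin.ofNat 4 (i / 3), (i : ZMod 3))

theorem pidx_lt : ∀ p, pidx p < 12 := by decide +kernel

theorem tpt_pidx : ∀ p, tpt (pidx p) = p := by decide +kernel

theorem pidx_tpt {i : ℕ} (h : i < 12) : pidx (tpt i) = i := by
  revert i; decide +kernel

theorem pidx_injective : Function.Injective pidx := Function.LeftInverse.injective tpt_pidx

/-- The word coded by a number, two bits for each position. -/
def tw (w : ℕ) : ArrayPt → ZMod 3 := fun p => (((w >>> (2 * pidx p)) &&& 3 : ℕ) : ZMod 3)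

/-- The basis. -/
def basis (j : Fin 6) : ArrayPt → ZMod 3 := tw (basisWords.getD j.val 0)

/-- The information positions. -/
def info (j : Fin 6) : ArrayPt := tpt (infoPos.getD j.val 0)

/-- The linear combinations of the basis. -/
def comb (a : Fin 6 → ZMod 3) : ArrayPt → ZMod 3 := fun p => ∑ j, a j * basis j p

/-- The defining conditions with the tetracode spelt out. -/
def IsWord' (x : ArrayPt → ZMod 3) : Prop :=
  ∃ s : ZMod 3, (∀ i : Fin 4, ∑ r : ZMod 3, x (i, r) = -s) ∧
    ∀ a b : ZMod 3, ∑ i : Fin 4, x (i, a * ![0, 1, 1, 1] i + b * ![1, 0, 1, 2] i) = s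

instance (x : ArrayPt → ZMod 3) : Decidable (IsWord' x) := by
  unfold IsWord'
  infer_instance

theorem mem_code_iff_word {x : ArrayPt → ZMod 3} : x ∈ ternaryGolayCode ↔ IsWord' x := by
  show IsTernaryGolayWord x ↔ _
  unfold IsTernaryGolayWord IsWord' tetracode
  refine exists_congr fun s => and_congr_right fun _ => ⟨fun h a b => ?_, fun h t ht => ?_⟩
  · exact h _ (Submodule.mem_span_pair.mpr ⟨a, b, rfl⟩)
  · obtain ⟨a, b, rfl⟩ := Submodule.mem_span_pair.mp ht
    exact h a b

theorem basis_mem (j : Fin 6) : basis j ∈ ternaryGolayCode := by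
  rw [mem_code_iff_word]
  revert j
  decide +kernel

theorem basis_info : ∀ j k, basis j (info k) = if j = k then 1 else 0 := by decide +kernel

theorem comb_eq_sum (a : Fin 6 → ZMod 3) : comb a = ∑ j, a j • basis j := by
  funext p
  simp [comb]

theorem comb_mem (a : Fin 6 → ZMod 3) : comb a ∈ ternaryGolayCode := by
  rw [comb_eq_sum]
  exact Submodule.sum_mem _ fun j _ => Submodule.smul_mem _ _ (basis_mem j)

theorem comb_info (a : Fin 6 → ZMod 3) (k : Fin 6) : comb a (info k) = a k := by
  simp [comb, basis_info]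

/-- A word with given entries outside the information positions. -/
def redWord (a b c d e f : ZMod 3) : ArrayPt → ZMod 3 := fun p =>
  [0, 0, 0, 0, 0, a, 0, b, c, d, e, f].getD (pidx p) 0

theorem redWord_zero : ∀ a b c d e f : ZMod 3, IsWord' (redWord a b c d e f) →
    a = 0 ∧ b = 0 ∧ c = 0 ∧ d = 0 ∧ e = 0 ∧ f = 0 := by
  decide +kernel

/-- A word of the code is fixed by its information entries. -/
theorem eq_comb {x : ArrayPt → ZMod 3} (hx : x ∈ ternaryGolayCode) :
    x = comb fun j => x (info j) := by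
  obtain ⟨y, hy⟩ : ∃ y, y = x - comb fun j => x (info j) := ⟨_, rfl⟩
  have hy0 : ∀ k, y (info k) = 0 := fun k => by simp [hy, comb_info]
  have hred : y = redWord (y (tpt 5)) (y (tpt 7)) (y (tpt 8)) (y (tpt 9)) (y (tpt 10))
      (y (tpt 11)) := by
    funext p
    obtain ⟨i, hi, rfl⟩ : ∃ i < 12, tpt i = p := ⟨pidx p, pidx_lt p, tpt_pidx p⟩
    simp only [redWord, pidx_tpt hi]
    have h0 := hy0 0
    have h1 := hy0 1
    have h2 := hy0 2
    have h3 := hy0 3
    have h4 := hy0 4
    have h5 := hy0 5
    simp [info, infoPos] at h0 h1 h2 h3 h4 h5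
    clear hy
    interval_cases i <;> simp [*]
  have hmem : y ∈ ternaryGolayCode := by rw [hy]; exact sub_mem hx (comb_mem _)
  rw [mem_code_iff_word, hred] at hmem
  obtain ⟨h1, h2, h3, h4, h5, h6⟩ := redWord_zero _ _ _ _ _ _ hmem
  have : y = 0 := by
    rw [hred, h1, h2, h3, h4, h5, h6]
    funext p
    revert p
    decide +kernel
  exact sub_eq_zero.mp (hy.symm.trans this)

theorem mem_code_iff {x : ArrayPt → ZMod 3} : x ∈ ternaryGolayCode ↔ ∃ a, comb a = x :=
  ⟨fun h => ⟨_, (eq_comb h).symm⟩, fun ⟨a, h⟩ => h ▸ comb_mem a⟩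

theorem comb_injective : Function.Injective comb := fun a b h => funext fun k => by
  rw [← comb_info a k, h, comb_info]

theorem natCard_code : Nat.card ↥ternaryGolayCode = 729 := by
  have e : (Fin 6 → ZMod 3) ≃ ↥ternaryGolayCode :=
    Equiv.ofBijective (fun a => ⟨comb a, comb_mem a⟩)
      ⟨fun a b h => comb_injective (congrArg Subtype.val h),
        fun x => ⟨fun j => x.1 (info j), Subtype.ext (eq_comb x.2).symm⟩⟩
  rw [← Nat.card_congr e]
  simp

/-- The code is self-orthogonal. -/
theorem self_orthogonal {x y : ArrayPt → ZMod 3} (hx : x ∈ ternaryGolayCode)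
    (hy : y ∈ ternaryGolayCode) : ∑ p, x p * y p = 0 := by
  have hb : ∀ j k, ∑ p, basis j p * basis k p = 0 := by decide +kernel
  rw [eq_comb hx, eq_comb hy]
  simp only [comb, Finset.sum_mul_sum]
  rw [Finset.sum_comm]
  refine Finset.sum_eq_zero fun j _ => ?_
  rw [Finset.sum_comm]
  refine Finset.sum_eq_zero fun k _ => ?_
  calc _ = x (info j) * y (info k) * ∑ p, basis j p * basis k p := by
        rw [Finset.mul_sum]
        exact Finset.sum_congr rfl fun p _ => by ring
    _ = 0 := by rw [hb, mul_zero]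

/-! ### The 729 words by number -/

/-- The entry at position `i` of word number `k`. -/
def digN (k i : ℕ) : ℕ :=
  ((List.range 6).map fun j => k / 3 ^ j % 3 * ((basisWords.getD j 0 >>> (2 * i)) &&& 3)).sum % 3

/-- The word with number `k`. -/
def wordN (k : ℕ) : ArrayPt → ZMod 3 := fun p => (digN k (pidx p) : ZMod 3)

theorem wordN_eq_comb (k : ℕ) :
    wordN k = comb fun j => ((k / 3 ^ (j : ℕ) % 3 : ℕ) : ZMod 3) := by
  funext p
  rw [wordN, digN, ZMod.natCast_mod, Nat.cast_list_sum, List.map_map, comb]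
  simp only [Fin.sum_univ_six, List.range_succ, List.range_zero, List.nil_append, List.map_append,
    List.map_cons, List.map_nil, List.sum_append, List.sum_cons, List.sum_nil, add_zero,
    Function.comp_apply, Nat.cast_mul, basis, tw]
  rfl

theorem wordN_mem (k : ℕ) : wordN k ∈ ternaryGolayCode := wordN_eq_comb k ▸ comb_mem _

theorem exists_wordN {x : ArrayPt → ZMod 3} (hx : x ∈ ternaryGolayCode) :
    ∃ k < 729, wordN k = x := by
  let e : Fin 729 → (Fin 6 → ZMod 3) := fun k j => ((k.val / 3 ^ (j : ℕ) % 3 : ℕ) : ZMod 3)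
  have he : Function.Injective e := by
    intro a b h
    have hd : ∀ j < 6, a.val / 3 ^ j % 3 = b.val / 3 ^ j % 3 := fun j hj => by
      have := congrArg ZMod.val (congrFun h ⟨j, hj⟩)
      simpa [e, ZMod.val_natCast, Nat.mod_mod] using this
    have h0 := hd 0 (by norm_num)
    have h1 := hd 1 (by norm_num)
    have h2 := hd 2 (by norm_num)
    have h3 := hd 3 (by norm_num)
    have h4 := hd 4 (by norm_num)
    have h5 := hd 5 (by norm_num)
    have := a.isLt
    have := b.isLt
    norm_num at h0 h1 h2 h3 h4 h5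
    exact Fin.ext (by omega)
  obtain ⟨k, hk⟩ := ((Fintype.bijective_iff_injective_and_card e).mpr ⟨he, by simp⟩).2
    fun j => x (info j)
  exact ⟨k, k.isLt, by rw [wordN_eq_comb, eq_comb hx, ← hk]⟩

theorem wordN_injOn {a b : ℕ} (ha : a < 729) (hb : b < 729) (h : wordN a = wordN b) : a = b := by
  rw [wordN_eq_comb, wordN_eq_comb] at h
  have h' := comb_injective h
  have hd : ∀ j < 6, a / 3 ^ j % 3 = b / 3 ^ j % 3 := fun j hj => by
    have := congrArg ZMod.val (congrFun h' ⟨j, hj⟩)
    simpa [ZMod.val_natCast, Nat.mod_mod] using this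
  have h0 := hd 0 (by norm_num)
  have h1 := hd 1 (by norm_num)
  have h2 := hd 2 (by norm_num)
  have h3 := hd 3 (by norm_num)
  have h4 := hd 4 (by norm_num)
  have h5 := hd 5 (by norm_num)
  norm_num at h0 h1 h2 h3 h4 h5
  omega

/-- The set of positions coded by a mask. -/
def tset (m : ℕ) : Finset ArrayPt := Finset.univ.filter fun p => m.testBit (pidx p)

@[simp] theorem mem_tset {m : ℕ} {p : ArrayPt} : p ∈ tset m ↔ m.testBit (pidx p) = true := by
  simp [tset]

/-- The mask of a set of positions. -/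
def tmask (s : Finset ArrayPt) : ℕ := Nat.ofBits fun i : Fin 12 => decide (tpt i ∈ s)

theorem tmask_lt (s : Finset ArrayPt) : tmask s < 2 ^ 12 := Nat.ofBits_lt_two_pow _

@[simp] theorem tset_tmask (s : Finset ArrayPt) : tset (tmask s) = s := by
  ext p
  rw [mem_tset, tmask, Nat.testBit_ofBits_lt _ _ (pidx_lt p)]
  simp [tpt_pidx]

theorem tset_injOn {a b : ℕ} (ha : a < 2 ^ 12) (hb : b < 2 ^ 12) (h : tset a = tset b) :
    a = b := by
  apply Nat.eq_of_testBit_eq
  intro i
  rcases lt_or_ge i 12 with hi | hi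
  · have := Finset.ext_iff.mp h (tpt i)
    simpa [pidx_tpt hi] using this
  · have h2 : 2 ^ 12 ≤ 2 ^ i := Nat.pow_le_pow_right (by norm_num) hi
    rw [Nat.testBit_lt_two_pow (lt_of_lt_of_le ha h2),
      Nat.testBit_lt_two_pow (lt_of_lt_of_le hb h2)]

/-- The positions of a mask. -/
def bitsOf (m : ℕ) : List ℕ := (List.range 12).filter fun i => m.testBit i

theorem card_tset (m : ℕ) : (tset m).card = (bitsOf m).length := by
  have h : tset m = ((bitsOf m).map tpt).toFinset := by
    ext p
    simp only [mem_tset, List.mem_toFinset, List.mem_map, bitsOf, List.mem_filter, List.mem_range]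
    exact ⟨fun h => ⟨pidx p, ⟨pidx_lt p, h⟩, tpt_pidx p⟩,
      fun ⟨i, ⟨hi, h⟩, hp⟩ => by rw [← hp, pidx_tpt hi]; exact h⟩
  rw [h, List.toFinset_card_of_nodup, List.length_map]
  exact List.Nodup.map_on (fun a ha b hb hab => by
    simp only [bitsOf, List.mem_filter, List.mem_range] at ha hb
    rw [← pidx_tpt ha.1, hab, pidx_tpt hb.1]) (List.nodup_range.filter _)

/-- The support mask of word number `k`. -/
def suppN (k : ℕ) : ℕ := Nat.ofBits fun i : Fin 12 => digN k i != 0

theorem support_wordN (k : ℕ) : ternarySupport (wordN k) = tset (suppN k) := by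
  ext p
  simp only [mem_tset, suppN, Nat.testBit_ofBits_lt _ _ (pidx_lt p), bne_iff_ne]
  unfold ternarySupport
  rw [Finset.mem_filter, wordN, ne_eq, ZMod.natCast_eq_zero_iff]
  simp only [Finset.mem_univ, true_and]
  have : digN k (pidx p) < 3 := Nat.mod_lt _ (by norm_num)
  constructor
  · intro h e; exact h (e ▸ dvd_zero 3)
  · intro h e; exact h (Nat.eq_zero_of_dvd_of_lt e this)

theorem suppN_lt (k : ℕ) : suppN k < 2 ^ 12 := Nat.ofBits_lt_two_pow _

/-- Counting words by the size of their support. -/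
theorem ncard_weight (n : ℕ) :
    {x : ArrayPt → ZMod 3 | x ∈ ternaryGolayCode ∧ (ternarySupport x).card = n}.ncard =
      ((List.range 729).filter fun k => (bitsOf (suppN k)).length == n).length := by
  have hset : {x : ArrayPt → ZMod 3 | x ∈ ternaryGolayCode ∧ (ternarySupport x).card = n} =
      ↑(((List.range 729).filter fun k => (bitsOf (suppN k)).length == n).map wordN).toFinset := by
    ext x
    simp only [Set.mem_ofPred_eq, List.coe_toFinset, List.mem_map, List.mem_filter,
      List.mem_range, beq_iff_eq]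
    constructor
    · rintro ⟨hx, h⟩
      obtain ⟨k, hk, rfl⟩ := exists_wordN hx
      exact ⟨k, ⟨hk, by rwa [support_wordN, card_tset] at h⟩, rfl⟩
    · rintro ⟨k, ⟨-, h⟩, rfl⟩
      exact ⟨wordN_mem k, by rwa [support_wordN, card_tset]⟩
  rw [hset, Set.ncard_coe_finset, List.toFinset_card_of_nodup, List.length_map]
  exact List.Nodup.map_on (fun a ha b hb h => by
    simp only [List.mem_filter, List.mem_range] at ha hb
    exact wordN_injOn ha.1 hb.1 h) (List.nodup_range.filter _)

/-- The weights of the nonzero words. -/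
theorem weights {x : ArrayPt → ZMod 3} (hx : x ∈ ternaryGolayCode) (h0 : x ≠ 0) :
    (ternarySupport x).card = 6 ∨ (ternarySupport x).card = 9 ∨
      (ternarySupport x).card = 12 := by
  have h : (List.range 729).all (fun k => k == 0 ||
      [6, 9, 12].contains (bitsOf (suppN k)).length) = true := by
    decide +kernel
  obtain ⟨k, hk, rfl⟩ := exists_wordN hx
  have := List.all_eq_true.mp h k (List.mem_range.mpr hk)
  rw [support_wordN, card_tset]
  have hk0 : k ≠ 0 := by
    rintro rfl
    refine h0 (funext fun p => ?_)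
    revert p
    decide +kernel
  simpa [hk0] using this

theorem hexMasks_lt : ∀ h ∈ hexMasks, h < 2 ^ 12 := by decide +kernel

/-- The supports of the words of weight six. -/
theorem hexads_eq :
    {h : Finset ArrayPt | ∃ x ∈ ternaryGolayCode, ternarySupport x = h ∧ h.card = 6} =
      tset '' {m | m ∈ hexMasks} := by
  have hiff : (((List.range 729).map suppN).filter fun m => (bitsOf m).length == 6).toFinset =
      hexMasks.toFinset := by
    decide +kernel
  ext h
  simp only [Set.mem_ofPred_eq, Set.mem_image]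
  constructor
  · rintro ⟨x, hx, rfl, hc⟩
    obtain ⟨k, hk, rfl⟩ := exists_wordN hx
    rw [support_wordN, card_tset] at hc
    refine ⟨suppN k, ?_, (support_wordN k).symm⟩
    rw [← List.mem_toFinset, ← hiff, List.mem_toFinset, List.mem_filter, List.mem_map]
    exact ⟨⟨k, List.mem_range.mpr hk, rfl⟩, by simpa using hc⟩
  · rintro ⟨m, hm, rfl⟩
    rw [← List.mem_toFinset, ← hiff, List.mem_toFinset, List.mem_filter, List.mem_map] at hm
    obtain ⟨⟨k, hk, rfl⟩, hc⟩ := hm
    exact ⟨wordN k, wordN_mem k, support_wordN k, by rw [card_tset]; simpa using hc⟩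

theorem hexMasks_nodup : hexMasks.Nodup := by decide +kernel

/-- There are 132 hexads. -/
theorem ncard_hexads :
    {h : Finset ArrayPt | ∃ x ∈ ternaryGolayCode, ternarySupport x = h ∧ h.card = 6}.ncard =
      132 := by
  have hinj : Set.InjOn tset {m | m ∈ hexMasks} := fun a ha b hb h =>
    tset_injOn (hexMasks_lt a ha) (hexMasks_lt b hb) h
  rw [hexads_eq, hinj.ncard_image, show {m | m ∈ hexMasks} = ↑hexMasks.toFinset by ext m; simp,
    Set.ncard_coe_finset, List.toFinset_card_of_nodup hexMasks_nodup]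
  decide +kernel

theorem five_cert : allBits (fun s => !((bitsOf s).length == 5) ||
    ((hexMasks.filter fun h => (h &&& s) == s).length == 1)) 12 0 = true := by
  decide +kernel

theorem tset_subset {a b : ℕ} (ha : a < 2 ^ 12) : tset a ⊆ tset b ↔ b &&& a = a := by
  constructor
  · intro h
    apply Nat.eq_of_testBit_eq
    intro i
    rw [Nat.testBit_and]
    by_cases hb : a.testBit i = true
    · have hi : i < 12 := by
        by_contra hge
        rw [Nat.testBit_lt_two_pow (lt_of_lt_of_le ha
          (Nat.pow_le_pow_right (by norm_num) (not_lt.mp hge)))] at hb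
        simp at hb
      have h2 := h (mem_tset.mpr (by rw [pidx_tpt hi]; exact hb) : tpt i ∈ tset a)
      rw [mem_tset, pidx_tpt hi] at h2
      simp [hb, h2]
    · simp [hb]
  · intro h p hp
    rw [mem_tset] at hp ⊢
    rw [← h, Nat.testBit_and] at hp
    exact (Bool.and_eq_true_iff.mp hp).1

/-- The hexads form an S(5,6,12). -/
theorem hexads_steiner : IsSteinerSystem 5 6
    {h : Finset ArrayPt | ∃ x ∈ ternaryGolayCode, ternarySupport x = h ∧ h.card = 6} := by
  refine ⟨fun b hb => ?_, fun s hs => ?_⟩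
  · obtain ⟨x, -, -, h⟩ := hb
    exact h
  rw [hexads_eq]
  have h := forall_lt_two_pow five_cert (tmask_lt s)
  rw [← card_tset, tset_tmask, hs] at h
  simp only [beq_self_eq_true, Bool.not_true, Bool.false_or, beq_iff_eq] at h
  obtain ⟨m, hm⟩ := List.length_eq_one_iff.mp h
  have hmem : ∀ a, a = m ↔ (a ∈ hexMasks ∧ a &&& tmask s = tmask s) := fun a => by
    rw [← List.mem_singleton, ← hm, List.mem_filter, beq_iff_eq]
  obtain ⟨h1, h2⟩ := (hmem m).mp rfl
  refine ⟨tset m, ⟨⟨m, h1, rfl⟩, ?_⟩, ?_⟩
  · rw [← tset_tmask s, tset_subset (tmask_lt s)]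
    exact h2
  · rintro _ ⟨⟨a, ha, rfl⟩, hsub⟩
    rw [← tset_tmask s, tset_subset (tmask_lt s)] at hsub
    rw [(hmem a).mpr ⟨ha, hsub⟩]

end Cfsg.Agent.Golay.Ternary
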