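/-
Golay library, part 26: monomial automorphisms of the ternary code of length 12.

Main results: `sign_kernel`, `eq_one_of_fix_five`, `hexAutEquiv`, `mem_permPart_iff`,
`natCard_monomial`.
-/
import Cfsg.Agent.Lib.Golay.Ternary

set_option autoImplicit false
set_option maxRecDepth 40000
open scoped Pointwise
open Cfsg

namespace Cfsg.Agent.Golay.Ternary

/-- A monomial map preserves the code. -/
def Pres (σ : Equiv.Perm ArrayPt) (c : ArrayPt → (ZMod 3)ˣ) : Prop :=
  ∀ x ∈ ternaryGolayCode, monomialMap σ c x ∈ ternaryGolayCode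

theorem monomial_comb (σ : Equiv.Perm ArrayPt) (c : ArrayPt → (ZMod 3)ˣ) (a : Fin 6 → ZMod 3) :
    monomialMap σ c (comb a) = ∑ j, a j • monomialMap σ c (basis j) := by
  funext p
  simp only [monomialMap, comb, Finset.sum_apply, Pi.smul_apply, smul_eq_mul, Finset.mul_sum]
  exact Finset.sum_congr rfl fun j _ => by ring

theorem pres_of_basis {σ : Equiv.Perm ArrayPt} {c : ArrayPt → (ZMod 3)ˣ}
    (h : ∀ j, monomialMap σ c (basis j) ∈ ternaryGolayCode) : Pres σ c := by
  intro x hx
  rw [eq_comb hx, monomial_comb]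
  exact Submodule.sum_mem _ fun j _ => Submodule.smul_mem _ _ (h j)

/-- The only sign changes preserving the code are the two constant ones. -/
theorem sign_kernel {c : ArrayPt → (ZMod 3)ˣ} (h : Pres 1 c) :
    (∀ p, c p = 1) ∨ (∀ p, c p = -1) := by
  have hj : ∀ j p, basis j p ≠ 0 → c p = c (info j) := by
    intro j p hp
    have he := congrFun (eq_comb (h _ (basis_mem j))) p
    simp only [monomialMap, Equiv.Perm.one_symm, Equiv.Perm.coe_one, id_eq, comb, basis_info,
      mul_ite, mul_one, mul_zero, ite_mul, zero_mul, Finset.sum_ite_eq, Finset.mem_univ,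
      if_true] at he
    exact Units.ext (mul_right_cancel₀ hp he)
  have hlink : ∀ j : Fin 6, ∃ i : Fin 6, ∃ q : ArrayPt,
      basis j q ≠ 0 ∧ basis i q ≠ 0 ∧ basis i (tpt 5) ≠ 0 := by
    decide +kernel
  have hcover : ∀ p : ArrayPt, ∃ j : Fin 6, basis j p ≠ 0 := by decide +kernel
  have hall : ∀ p, c p = c (tpt 5) := by
    intro p
    obtain ⟨j, hp⟩ := hcover p
    obtain ⟨i, q, h1, h2, h3⟩ := hlink j
    rw [hj j p hp, ← hj j q h1, hj i q h2, ← hj i _ h3]
  rcases (by decide : ∀ u : (ZMod 3)ˣ, u = 1 ∨ u = -1) (c (tpt 5)) with e | e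
  · exact Or.inl fun p => (hall p).trans e
  · exact Or.inr fun p => (hall p).trans e

/-- The hexads. -/
def hexads : Set (Finset ArrayPt) :=
  {h : Finset ArrayPt | ∃ x ∈ ternaryGolayCode, ternarySupport x = h ∧ h.card = 6}

theorem support_monomial (σ : Equiv.Perm ArrayPt) (c : ArrayPt → (ZMod 3)ˣ)
    (x : ArrayPt → ZMod 3) :
    ternarySupport (monomialMap σ c x) = σ • ternarySupport x := by
  ext p
  rw [← Finset.inv_smul_mem_iff, ternarySupport, ternarySupport, Finset.mem_filter,
    Finset.mem_filter]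
  simp [monomialMap]

theorem smul_hexad_of_pres {σ : Equiv.Perm ArrayPt} {c : ArrayPt → (ZMod 3)ˣ} (h : Pres σ c)
    {b : Finset ArrayPt} (hb : b ∈ hexads) : σ • b ∈ hexads := by
  obtain ⟨x, hx, rfl, hc⟩ := hb
  exact ⟨_, h x hx, support_monomial σ c x, by rw [Finset.card_smul_finset]; exact hc⟩

theorem mem_setSystemAut_of_maps {σ : Equiv.Perm ArrayPt}
    (h : ∀ b ∈ hexads, σ • b ∈ hexads) : σ ∈ setSystemAut hexads := by
  refine MulAction.mem_stabilizer_iff.mpr
    (Set.eq_of_subset_of_ncard_le ?_ (by rw [Set.ncard_smul_set]))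
  rintro _ ⟨b, hb, rfl⟩
  exact h b hb

theorem smul_mem_hexads {σ : Equiv.Perm ArrayPt} (hσ : σ ∈ setSystemAut hexads)
    {b : Finset ArrayPt} (hb : b ∈ hexads) : σ • b ∈ hexads := by
  rw [← MulAction.mem_stabilizer_iff.mp hσ]
  exact Set.smul_mem_smul_set hb

/-! ### Maps given by lists of images -/

/-- The mask of a list of indices. -/
def maskL (l : List ℕ) : ℕ := l.foldr (fun i m => 1 <<< i ||| m) 0

theorem testBit_maskL (j : ℕ) : ∀ l : List ℕ, (maskL l).testBit j = true ↔ j ∈ l
  | [] => by simp [maskL]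
  | i :: l => by
    show (1 <<< i ||| maskL l).testBit j = true ↔ _
    rw [Nat.testBit_or, Bool.or_eq_true, testBit_maskL j l, Nat.one_shiftLeft,
      Nat.testBit_two_pow, decide_eq_true_eq, List.mem_cons, eq_comm]

theorem maskL_lt {l : List ℕ} (hl : ∀ i ∈ l, i < 12) : maskL l < 2 ^ 12 := by
  refine Nat.lt_pow_two_of_testBit _ fun i hi => ?_
  rw [← Bool.not_eq_true, testBit_maskL]
  intro h
  have := hl i h
  omega

theorem tset_maskL {l : List ℕ} (hl : ∀ i ∈ l, i < 12) :
    tset (maskL l) = (l.map tpt).toFinset := by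
  ext p
  rw [mem_tset, testBit_maskL, List.mem_toFinset, List.mem_map]
  exact ⟨fun h => ⟨_, h, tpt_pidx p⟩, fun ⟨i, hi, he⟩ => by rwa [← he, pidx_tpt (hl i hi)]⟩

theorem tset_eq_bits (m : ℕ) : tset m = ((bitsOf m).map tpt).toFinset := by
  ext p
  simp only [mem_tset, List.mem_toFinset, List.mem_map, bitsOf, List.mem_filter, List.mem_range]
  exact ⟨fun h => ⟨pidx p, ⟨pidx_lt p, h⟩, tpt_pidx p⟩,
    fun ⟨i, ⟨hi, h⟩, hp⟩ => by rw [← hp, pidx_tpt hi]; exact h⟩

/-- The image of a mask under a list of images. -/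
def imgL (d : List ℕ) (m : ℕ) : ℕ := maskL ((bitsOf m).map fun i => d.getD i 0)

theorem tset_imgL {σ : Equiv.Perm ArrayPt} {d : List ℕ}
    (hd : ∀ i < 12, d.getD i 0 = pidx (σ (tpt i))) (m : ℕ) :
    tset (imgL d m) = σ • tset m ∧ imgL d m < 2 ^ 12 := by
  have hlt : ∀ j ∈ (bitsOf m).map (fun i => d.getD i 0), j < 12 := by
    intro j hj
    obtain ⟨i, hi, rfl⟩ := List.mem_map.mp hj
    rw [hd i (List.mem_range.mp (List.mem_filter.mp hi).1)]
    exact pidx_lt _
  refine ⟨?_, maskL_lt hlt⟩
  rw [imgL, tset_maskL hlt, tset_eq_bits m]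
  ext p
  rw [← Finset.inv_smul_mem_iff]
  simp only [List.mem_toFinset, List.mem_map, exists_exists_and_eq_and, Equiv.Perm.smul_def]
  refine exists_congr fun i => and_congr_right fun hi => ?_
  rw [hd i (List.mem_range.mp (List.mem_filter.mp hi).1), tpt_pidx, Equiv.Perm.eq_inv_iff_eq]

/-- The point completing five points to a hexad. -/
def sixth (m : ℕ) : ℕ :=
  (bitsOf (((hexMasks.filter fun h => (h &&& m) == m).headD 0) ^^^ m)).headD 0

theorem sixth_cert : allBits (fun s => !((bitsOf s).length == 5) ||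
    ((bitsOf (((hexMasks.filter fun h => (h &&& s) == s).headD 0) ^^^ s)).length == 1)) 12 0 =
      true := by
  decide +kernel

theorem sixth_spec {m : ℕ} (hm : m < 2 ^ 12) (h5 : (tset m).card = 5) :
    sixth m < 12 ∧ ∃ b ∈ hexads, tset m ⊆ b ∧ b \ tset m = {tpt (sixth m)} := by
  have h := forall_lt_two_pow five_cert hm
  have h1 := forall_lt_two_pow sixth_cert hm
  rw [← card_tset, h5] at h h1
  simp only [beq_self_eq_true, Bool.not_true, Bool.false_or, beq_iff_eq] at h h1
  obtain ⟨b, hb⟩ := List.length_eq_one_iff.mp h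
  obtain ⟨hb1, hb2⟩ : b ∈ hexMasks ∧ b &&& m = m := by
    have := hb ▸ List.mem_singleton_self b
    rw [List.mem_filter, beq_iff_eq] at this
    exact this
  rw [hb, List.headD_cons] at h1
  obtain ⟨q, hq⟩ := List.length_eq_one_iff.mp h1
  have hs : sixth m = q := by rw [sixth, hb, List.headD_cons, hq, List.headD_cons]
  have hq12 : q < 12 :=
    List.mem_range.mp (List.mem_filter.mp (hq ▸ List.mem_singleton_self q)).1
  refine ⟨hs ▸ hq12, tset b, by rw [hexads, hexads_eq]; exact ⟨b, hb1, rfl⟩,
    (tset_subset hm).mpr hb2, ?_⟩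
  have hx : tset (b ^^^ m) = {tpt q} := by rw [tset_eq_bits, hq]; rfl
  rw [hs, ← hx]
  ext p
  simp only [Finset.mem_sdiff, mem_tset, Nat.testBit_xor]
  have : m.testBit (pidx p) = true → b.testBit (pidx p) = true := by
    intro e
    rw [← hb2, Nat.testBit_and] at e
    exact (Bool.and_eq_true_iff.mp e).1
  revert this
  cases b.testBit (pidx p) <;> cases m.testBit (pidx p) <;> simp

theorem apply_sixth {σ : Equiv.Perm ArrayPt} (hσ : σ ∈ setSystemAut hexads) {m m' : ℕ}
    (hm : m < 2 ^ 12) (hm' : m' < 2 ^ 12) (h5 : (tset m).card = 5)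
    (he : σ • tset m = tset m') : σ (tpt (sixth m)) = tpt (sixth m') := by
  obtain ⟨-, b, hb, hsub, hd⟩ := sixth_spec hm h5
  obtain ⟨-, b', hb', hsub', hd'⟩ :=
    sixth_spec hm' (by rw [← he, Finset.card_smul_finset, h5])
  have hbb : σ • b = b' := by
    refine (hexads_steiner.2 (tset m') (by rw [← he, Finset.card_smul_finset, h5])).unique
      ⟨smul_mem_hexads hσ hb, ?_⟩ ⟨hb', hsub'⟩
    rw [← he]
    exact Finset.smul_finset_subset_smul_finset hsub
  have := congrArg (σ • ·) hd
  simp only [Finset.smul_finset_sdiff, hbb, he, hd', Finset.smul_finset_singleton,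
    Equiv.Perm.smul_def, Finset.singleton_inj] at this
  exact this.symm

/-- Filling in forced images. -/
def propagate : List (List ℕ × ℕ) → List ℕ → List ℕ
  | [], d => d
  | (f, q) :: rest, d =>
    propagate rest (d.set q (sixth (maskL (f.map fun i => d.getD i 0))))

/-- The steps only use what is known. -/
def stepsOk : List (List ℕ × ℕ) → List ℕ → Bool
  | [], known => (List.range 12).all known.contains
  | (f, q) :: rest, known =>
    f.all known.contains && (bitsOf (maskL f)).length == 5 &&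
      sixth (maskL f) == q && !known.contains q && stepsOk rest (q :: known)

theorem getD_propagate {σ : Equiv.Perm ArrayPt} (hσ : σ ∈ setSystemAut hexads) :
    ∀ (steps : List (List ℕ × ℕ)) (known d : List ℕ), stepsOk steps known = true →
      d.length = 12 → (∀ i ∈ known, i < 12 ∧ d.getD i 0 = pidx (σ (tpt i))) →
      ∀ i < 12, (propagate steps d).getD i 0 = pidx (σ (tpt i))
  | [], known, d, h, _, hk => fun i hi => by
    simp only [stepsOk, List.all_eq_true, List.mem_range, List.contains_iff_mem] at h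
    exact (hk i (h i hi)).2
  | (f, q) :: rest, known, d, h, hl, hk => by
    simp only [stepsOk, Bool.and_eq_true, List.all_eq_true, List.contains_iff_mem, beq_iff_eq,
      Bool.not_eq_true'] at h
    obtain ⟨⟨⟨⟨h1, h2⟩, h3⟩, h4⟩, h5⟩ := h
    have hf : ∀ i ∈ f, i < 12 := fun i hi => (hk i (h1 i hi)).1
    have hf' : ∀ j ∈ f.map (fun i => d.getD i 0), j < 12 := by
      intro j hj
      obtain ⟨i, hi, rfl⟩ := List.mem_map.mp hj
      rw [(hk i (h1 i hi)).2]
      exact pidx_lt _
    have hc : (tset (maskL f)).card = 5 := by rw [card_tset]; exact h2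
    have he : σ • tset (maskL f) = tset (maskL (f.map fun i => d.getD i 0)) := by
      rw [tset_maskL hf, tset_maskL hf']
      ext p
      rw [← Finset.inv_smul_mem_iff]
      simp only [List.mem_toFinset, List.mem_map, exists_exists_and_eq_and, Equiv.Perm.smul_def]
      refine exists_congr fun i => and_congr_right fun hi => ?_
      rw [(hk i (h1 i hi)).2, tpt_pidx, Equiv.Perm.eq_inv_iff_eq]
    have hq12 : q < 12 := h3 ▸ (sixth_spec (maskL_lt hf) hc).1
    have hs := apply_sixth hσ (maskL_lt hf) (maskL_lt hf') hc he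
    rw [h3] at hs
    have hv := (sixth_spec (maskL_lt hf') (by rw [← he, Finset.card_smul_finset, hc])).1
    rw [propagate]
    refine getD_propagate hσ rest (q :: known) _ h5 (by simpa using hl) fun i hi => ?_
    rcases List.mem_cons.mp hi with rfl | hi
    · refine ⟨hq12, ?_⟩
      rw [hs, pidx_tpt hv, List.getD_eq_getElem?_getD, List.getElem?_set_self (by omega)]
      rfl
    · refine ⟨(hk i hi).1, ?_⟩
      have hne : q ≠ i := by
        rintro rfl
        rw [List.contains_iff_mem.mpr hi] at h4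
        simp at h4
      rw [List.getD_eq_getElem?_getD, List.getElem?_set_ne hne, ← List.getD_eq_getElem?_getD]
      exact (hk i hi).2

/-- The check that nothing but the identity fixes five points. -/
def rigidOk : Bool :=
  stepsOk hexSteps [0, 1, 2, 3, 4, 5, 6] && sixth (maskL [0, 1, 2, 3, 4]) == 5 &&
    (List.range 12).all fun x =>
      let d := propagate hexSteps [0, 1, 2, 3, 4, 5, x, 0, 0, 0, 0, 0]
      d == List.range 12 || !hexMasks.all fun h => hexMasks.contains (imgL d h)

/-- Only the identity fixes five of the positions and preserves the hexads. -/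
theorem eq_one_of_fix_five {σ : Equiv.Perm ArrayPt} (hσ : σ ∈ setSystemAut hexads)
    (h : ∀ i < 5, σ (tpt i) = tpt i) : σ = 1 := by
  have hok : rigidOk = true := by decide +kernel
  simp only [rigidOk, Bool.and_eq_true, List.all_eq_true, List.mem_range, beq_iff_eq] at hok
  obtain ⟨⟨hst, h6⟩, hall⟩ := hok
  have h012 : ∀ i ∈ [0, 1, 2, 3, 4], i < 12 := by decide
  have h5 : σ (tpt 5) = tpt 5 := by
    have := apply_sixth hσ (maskL_lt h012) (maskL_lt h012)
      (by rw [card_tset]; decide +kernel) (by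
        rw [tset_maskL h012]
        ext p
        rw [← Finset.inv_smul_mem_iff]
        simp only [List.mem_toFinset, List.mem_map, exists_exists_and_eq_and,
          Equiv.Perm.smul_def]
        refine exists_congr fun i => and_congr_right fun hi => ?_
        rw [Equiv.Perm.eq_inv_iff_eq, h i (by simp at hi; omega)])
    rwa [h6] at this
  have hd := getD_propagate hσ hexSteps [0, 1, 2, 3, 4, 5, 6]
    [0, 1, 2, 3, 4, 5, pidx (σ (tpt 6)), 0, 0, 0, 0, 0] hst rfl (by
      intro i hi
      simp only [List.mem_cons, List.not_mem_nil, or_false] at hi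
      rcases hi with rfl | rfl | rfl | rfl | rfl | rfl | rfl
      all_goals refine ⟨by norm_num, ?_⟩
      · rw [h 0 (by norm_num), pidx_tpt (by norm_num)]; rfl
      · rw [h 1 (by norm_num), pidx_tpt (by norm_num)]; rfl
      · rw [h 2 (by norm_num), pidx_tpt (by norm_num)]; rfl
      · rw [h 3 (by norm_num), pidx_tpt (by norm_num)]; rfl
      · rw [h 4 (by norm_num), pidx_tpt (by norm_num)]; rfl
      · rw [h5, pidx_tpt (by norm_num)]; rfl
      · rfl)
  rcases Bool.or_eq_true_iff.mp (hall _ (pidx_lt (σ (tpt 6)))) with he | he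
  · refine Equiv.ext fun p => ?_
    have := hd (pidx p) (pidx_lt p)
    rw [beq_iff_eq.mp he, List.getD_eq_getElem _ _ (by simp [pidx_lt]), List.getElem_range,
      tpt_pidx] at this
    exact (pidx_injective this).symm
  · exfalso
    rw [Bool.not_eq_true', ← Bool.not_eq_true] at he
    refine he (List.all_eq_true.mpr fun m hm => List.contains_iff_mem.mpr ?_)
    obtain ⟨hi, hlt⟩ := tset_imgL hd m
    have hH := smul_mem_hexads hσ (b := tset m) (by rw [hexads, hexads_eq]; exact ⟨m, hm, rfl⟩)
    rw [hexads, hexads_eq] at hH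
    obtain ⟨m', hm', he'⟩ := hH
    rwa [tset_injOn hlt (hexMasks_lt m' hm') (hi.trans he'.symm)]

/-! ### The transversals -/

/-- The permutation with a given list of images. -/
noncomputable def tperm (d : List ℕ) : Equiv.Perm ArrayPt :=
  if h : Function.Bijective fun p => tpt (d.getD (pidx p) 0) then Equiv.ofBijective _ h else 1

/-- The inverse images. -/
def tinv (d : List ℕ) (q : ArrayPt) : ArrayPt := tpt (d.findIdx fun v => v == pidx q)

/-- The list of images in a packed permutation. -/
def unpack (d : ℕ) : List ℕ := (List.range 12).map (fn d)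

/-- The sign at a position of a mask. -/
def signOf (m : ℕ) (p : ArrayPt) : (ZMod 3)ˣ := if m.testBit (pidx p) then -1 else 1

/-- The check of a table entry for base point `k`. -/
def transOk (k : ℕ) (e : ℕ × ℕ) : Bool :=
  decide (∀ p, tinv (unpack e.1) (tpt ((unpack e.1).getD (pidx p) 0)) = p) &&
    decide (∀ j : Fin 6, IsWord' fun q =>
      (signOf e.2 q : ZMod 3) * basis j (tinv (unpack e.1) q)) &&
    (List.range k).all fun i => (unpack e.1).getD i 0 == i

theorem monoTrans_cert : ((List.range 5).all fun k =>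
    (monoTrans.getD k []).all (transOk k) &&
      ((List.range 12).all fun q => Nat.blt q k ||
        (monoTrans.getD k []).any fun e => (unpack e.1).getD k 0 == q)) = true := by
  decide +kernel

/-- The permutation parts of the monomial automorphisms. -/
def PermPart (σ : Equiv.Perm ArrayPt) : Prop := ∃ c, Pres σ c

theorem monomial_mul (σ τ : Equiv.Perm ArrayPt) (c d : ArrayPt → (ZMod 3)ˣ)
    (x : ArrayPt → ZMod 3) :
    monomialMap (σ * τ) (fun p => c p * d (σ.symm p)) x = monomialMap σ c (monomialMap τ d x) := by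
  funext p
  simp only [monomialMap, Units.val_mul, mul_assoc]
  rfl

theorem permPart_mul {σ τ : Equiv.Perm ArrayPt} (h : PermPart σ) (h' : PermPart τ) :
    PermPart (σ * τ) := by
  obtain ⟨c, hc⟩ := h
  obtain ⟨d, hd⟩ := h'
  exact ⟨_, fun x hx => monomial_mul σ τ c d x ▸ hc _ (hd x hx)⟩

theorem permPart_one : PermPart 1 :=
  ⟨fun _ => 1, fun x hx => by
    convert hx using 1
    funext p
    simp [monomialMap]
    rfl⟩

theorem mem_aut_of_permPart {σ : Equiv.Perm ArrayPt} (h : PermPart σ) :
    σ ∈ setSystemAut hexads :=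
  mem_setSystemAut_of_maps fun _ hb => smul_hexad_of_pres h.choose_spec hb

/-- Transversals. -/
theorem exists_step {k : ℕ} (hk : k < 5) {q : ArrayPt} (hq : k ≤ pidx q) :
    ∃ t, PermPart t ∧ t (tpt k) = q ∧ ∀ i < k, t (tpt i) = tpt i := by
  have h := monoTrans_cert
  simp only [List.all_eq_true, Bool.and_eq_true, List.mem_range, Bool.or_eq_true, Nat.blt_eq,
    List.any_eq_true, beq_iff_eq] at h
  obtain ⟨hall, hex⟩ := h k hk
  obtain ⟨e, he, hek⟩ : ∃ e ∈ monoTrans.getD k [], (unpack e.1).getD k 0 = pidx q := by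
    rcases hex (pidx q) (pidx_lt q) with h' | h'
    · omega
    · exact h'
  have ht := hall e he
  simp only [transOk, Bool.and_eq_true, decide_eq_true_eq, List.all_eq_true, List.mem_range,
    beq_iff_eq] at ht
  obtain ⟨⟨hinv, hw⟩, hfix⟩ := ht
  have hbij : Function.Bijective fun p => tpt ((unpack e.1).getD (pidx p) 0) :=
    Finite.injective_iff_bijective.mp (Function.LeftInverse.injective hinv)
  have happ : ∀ p, tperm (unpack e.1) p = tpt ((unpack e.1).getD (pidx p) 0) := fun p => by
    rw [tperm, dif_pos hbij, Equiv.ofBijective_apply]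
  refine ⟨tperm (unpack e.1), ⟨signOf e.2, pres_of_basis fun j => ?_⟩, ?_, fun i hi => ?_⟩
  · rw [mem_code_iff_word]
    convert hw j using 1
    funext p
    have : (tperm (unpack e.1)).symm p = tinv (unpack e.1) p := by
      have h2 := hinv ((tperm (unpack e.1)).symm p)
      rw [← happ, Equiv.apply_symm_apply] at h2
      exact h2.symm
    rw [monomialMap, this]
  · rw [happ, pidx_tpt (by omega), hek, tpt_pidx]
  · rw [happ, pidx_tpt (by omega), hfix i hi]

/-- The five base positions. -/
def base5 : Fin 5 ↪ ArrayPt :=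
  ⟨fun i => tpt i.val, fun i j h => Fin.ext (by
    have h' : tpt i.val = tpt j.val := h
    rw [← pidx_tpt (i := i.val) (by omega), h', pidx_tpt (by omega)])⟩

theorem exists_permPart (v : Fin 5 ↪ ArrayPt) : ∃ σ, PermPart σ ∧ ∀ i, σ (base5 i) = v i := by
  suffices ∀ k ≤ 5, ∃ σ, PermPart σ ∧ ∀ i : Fin 5, i.val < k → σ (base5 i) = v i by
    obtain ⟨σ, h1, h2⟩ := this 5 le_rfl
    exact ⟨σ, h1, fun i => h2 i i.isLt⟩
  intro k
  induction k with
  | zero => exact fun _ => ⟨1, permPart_one, fun i hi => absurd hi (Nat.not_lt_zero _)⟩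
  | succ k ih =>
    intro hk
    obtain ⟨σ, hσ, hσv⟩ := ih (by omega)
    have hq : k ≤ pidx (σ.symm (v ⟨k, hk⟩)) := by
      by_contra hlt
      rw [not_le] at hlt
      have h1 := hσv ⟨pidx (σ.symm (v ⟨k, hk⟩)), by omega⟩ hlt
      rw [show base5 ⟨pidx (σ.symm (v ⟨k, hk⟩)), by omega⟩ = σ.symm (v ⟨k, hk⟩) from tpt_pidx _,
        Equiv.apply_symm_apply, v.injective.eq_iff, Fin.ext_iff] at h1
      have h1' : k = pidx (σ.symm (v ⟨k, hk⟩)) := h1
      omega
    obtain ⟨t, ht, htk, htfix⟩ := exists_step (by omega) hq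
    refine ⟨σ * t, permPart_mul hσ ht, fun i hi => ?_⟩
    rcases Nat.lt_succ_iff_lt_or_eq.mp hi with hi' | hi'
    · rw [Equiv.Perm.mul_apply, show t (base5 i) = base5 i from htfix i.val hi', hσv i hi']
    · obtain rfl : i = ⟨k, hk⟩ := Fin.ext hi'
      rw [Equiv.Perm.mul_apply, show t (base5 ⟨k, hk⟩) = _ from htk, Equiv.apply_symm_apply]

theorem eq_of_base {σ τ : Equiv.Perm ArrayPt} (hσ : σ ∈ setSystemAut hexads)
    (hτ : τ ∈ setSystemAut hexads) (h : ∀ i, σ (base5 i) = τ (base5 i)) : σ = τ := by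
  have := eq_one_of_fix_five (mul_mem (inv_mem hτ) hσ) fun i hi => by
    rw [Equiv.Perm.mul_apply, show σ (tpt i) = τ (tpt i) from h ⟨i, hi⟩, Equiv.Perm.coe_inv,
      Equiv.symm_apply_apply]
  exact (inv_mul_eq_one.mp this).symm

/-- The permutation parts are exactly the automorphisms of the hexads. -/
theorem permPart_iff {σ : Equiv.Perm ArrayPt} : PermPart σ ↔ σ ∈ setSystemAut hexads := by
  refine ⟨mem_aut_of_permPart, fun h => ?_⟩
  obtain ⟨τ, hτ, hv⟩ := exists_permPart (base5.trans σ.toEmbedding)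
  rwa [← eq_of_base (mem_aut_of_permPart hτ) h hv]

/-- The automorphisms of the hexads are sharply five-transitive. -/
noncomputable def hexAutEquiv : setSystemAut hexads ≃ (Fin 5 ↪ ArrayPt) :=
  Equiv.ofBijective (fun σ => base5.trans σ.1.toEmbedding)
    ⟨fun σ τ h => Subtype.ext (eq_of_base σ.2 τ.2 fun i =>
        congrArg (fun e : Fin 5 ↪ ArrayPt => e i) h),
      fun v => by
        obtain ⟨σ, hσ, hv⟩ := exists_permPart v
        exact ⟨⟨σ, mem_aut_of_permPart hσ⟩, Function.Embedding.ext hv⟩⟩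

theorem natCard_hexAut : Nat.card (setSystemAut hexads) = 95040 := by
  rw [Nat.card_congr hexAutEquiv, Nat.card_eq_fintype_card, Fintype.card_embedding_eq]
  rfl

theorem pres_neg {σ : Equiv.Perm ArrayPt} {c : ArrayPt → (ZMod 3)ˣ} (h : Pres σ c) :
    Pres σ fun p => -c p := by
  intro x hx
  convert neg_mem (h x hx) using 1
  funext p
  show ((-c p : (ZMod 3)ˣ) : ZMod 3) * x (σ.symm p) = -((c p : ZMod 3) * x (σ.symm p))
  rw [Units.val_neg, neg_mul]

theorem pres_unique {σ : Equiv.Perm ArrayPt} {c c' : ArrayPt → (ZMod 3)ˣ} (h : Pres σ c)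
    (h' : Pres σ c') : c' = c ∨ c' = fun p => -c p := by
  have hinj : Function.Injective fun x : ↥ternaryGolayCode =>
      (⟨monomialMap σ c x.1, h _ x.2⟩ : ↥ternaryGolayCode) := by
    intro x y e
    refine Subtype.ext (funext fun p => ?_)
    have := congrFun (congrArg Subtype.val e) (σ p)
    simpa [monomialMap] using this
  have : Finite ↥ternaryGolayCode := Nat.finite_of_card_ne_zero (by rw [natCard_code]; norm_num)
  have hk : Pres 1 fun p => c' p * (c p)⁻¹ := by
    intro x hx
    obtain ⟨y, hy⟩ := (Finite.injective_iff_surjective.mp hinj) ⟨x, hx⟩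
    have hy' : monomialMap σ c y.1 = x := congrArg Subtype.val hy
    convert h' y.1 y.2 using 1
    funext p
    rw [← hy']
    show ((c' p * (c p)⁻¹ : (ZMod 3)ˣ) : ZMod 3) * ((c p : ZMod 3) * y.1 (σ.symm p)) =
      (c' p : ZMod 3) * y.1 (σ.symm p)
    rw [← mul_assoc, ← Units.val_mul, inv_mul_cancel_right]
  rcases sign_kernel hk with e | e
  · exact Or.inl (funext fun p => mul_inv_eq_one.mp (e p))
  · refine Or.inr (funext fun p => ?_)
    have := e p
    rw [mul_inv_eq_iff_eq_mul] at this
    simpa using this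

theorem natCard_monomial :
    Nat.card {f : Equiv.Perm ArrayPt × (ArrayPt → (ZMod 3)ˣ) // Pres f.1 f.2} = 190080 := by
  classical
  have hch : ∀ σ : setSystemAut hexads, ∃ c, Pres σ.1 c := fun σ => permPart_iff.mpr σ.2
  choose cs hcs using hch
  let F : setSystemAut hexads × Bool →
      {f : Equiv.Perm ArrayPt × (ArrayPt → (ZMod 3)ˣ) // Pres f.1 f.2} := fun a =>
    ⟨(a.1.1, bif a.2 then (fun p => -cs a.1 p) else cs a.1), by
      cases a.2
      · exact hcs a.1
      · exact pres_neg (hcs a.1)⟩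
  have hF : Function.Bijective F := by
    constructor
    · rintro ⟨σ, a⟩ ⟨τ, b⟩ e
      simp only [F, Subtype.mk.injEq, Prod.mk.injEq] at e
      obtain rfl : σ = τ := Subtype.ext e.1
      have hne : ∀ u : (ZMod 3)ˣ, -u ≠ u := by decide
      have e2 := congrFun e.2 (tpt 0)
      cases a <;> cases b <;> simp only [cond_true, cond_false] at e2
      · rfl
      · exact absurd e2.symm (hne _)
      · exact absurd e2 (hne _)
      · rfl
    · rintro ⟨⟨σ, c⟩, h⟩
      rcases pres_unique (hcs ⟨σ, mem_aut_of_permPart ⟨c, h⟩⟩) h with e | e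
      · exact ⟨(⟨σ, mem_aut_of_permPart ⟨c, h⟩⟩, false), Subtype.ext (Prod.ext rfl e.symm)⟩
      · exact ⟨(⟨σ, mem_aut_of_permPart ⟨c, h⟩⟩, true), Subtype.ext (Prod.ext rfl e.symm)⟩
  rw [← Nat.card_congr (Equiv.ofBijective F hF), Nat.card_prod, natCard_hexAut]
  simp

end Cfsg.Agent.Golay.Ternary
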