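/-
Golay library, part 33: the orbits of a trio stabiliser on trios and its maximality.

Main results: `exists_trio_orbits`.
-/
import Cfsg.Agent.Lib.Golay.TrioStab
import Cfsg.Agent.Lib.Golay.Maximal

set_option autoImplicit false
set_option maxRecDepth 40000
open scoped Pointwise
open Cfsg MulAction

namespace Cfsg.Agent.Golay

/-- An invariant separating the orbits. -/
def trioClass (T X : Finset (Finset GolayPt)) : ℕ :=
  100 * interCount 4 T X + interCount 2 T X

theorem trioClass_smul (g : Equiv.Perm GolayPt) (T X : Finset (Finset GolayPt)) :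
    trioClass (g • T) (g • X) = trioClass T X := by
  simp [trioClass, interCount_smul]

/-- The member through the last point. -/
def topMask (L : List ℕ) : ℕ := (L.filter fun m => m.testBit 23).headD 0

/-- The first point outside a mask. -/
def lowOut (a : ℕ) : ℕ := (List.range 24).findIdx fun i => !a.testBit i

/-- The member through the first point outside `topMask`. -/
def secMask (L : List ℕ) : ℕ := (L.filter fun m => m.testBit (lowOut (topMask L))).headD 0

/-- A number determining a trio. -/
def trioKey (L : List ℕ) : ℕ := topMask L * 16777216 + secMask L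

/-- The five orbit lists. -/
def trioLists : List (List ℕ) :=
  [trio0] ++ orbitList trioGens trioSteps1 trioRep1 ++ orbitList trioGens trioSteps2 trioRep2 ++
    orbitList trioGens trioSteps3 trioRep3 ++ orbitList trioGens trioSteps4 trioRep4

theorem trioGens_ok : ∀ d ∈ trioGens, stabOk trio0 d = true := by decide +kernel

theorem trioLists_keys : distinctBits 48 (trioLists.map trioKey) = true := by decide +kernel

theorem trioLists_valid : trioLists.all (fun L => (topMask L).testBit 23 &&
    (secMask L).testBit (lowOut (topMask L)) && Nat.blt (lowOut (topMask L)) 24 &&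
    L.all fun m => Nat.blt m 16777216) = true := by
  decide +kernel

theorem trioLists_length :
    (orbitList trioGens trioSteps1 trioRep1).length = 42 ∧
      (orbitList trioGens trioSteps2 trioRep2).length = 56 ∧
      (orbitList trioGens trioSteps3 trioRep3).length = 1008 ∧
      (orbitList trioGens trioSteps4 trioRep4).length = 2688 := by
  decide +kernel

theorem trioReps_ok : trioOk trioRep1 = true ∧ trioOk trioRep2 = true ∧
    trioOk trioRep3 = true ∧ trioOk trioRep4 = true := by
  decide +kernel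

theorem trioClass_self0 : trioClass (toFinS trio0) (toFinS trio0) = 0 := by decide +kernel

theorem trioClass_rep1 : trioClass (toFinS trio0) (toFinS trioRep1) = 400 := by decide +kernel

theorem trioClass_rep2 : trioClass (toFinS trio0) (toFinS trioRep2) = 600 := by decide +kernel

theorem trioClass_rep3 : trioClass (toFinS trio0) (toFinS trioRep3) = 404 := by decide +kernel

theorem trioClass_rep4 : trioClass (toFinS trio0) (toFinS trioRep4) = 306 := by decide +kernel

theorem headD_mem_of_bit {L : List ℕ} {i : ℕ}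
    (h : ((L.filter fun m => m.testBit i).headD 0).testBit i = true) :
    (L.filter fun m => m.testBit i).headD 0 ∈ L := by
  cases hL : L.filter fun m => m.testBit i with
  | nil => rw [hL] at h; simp at h
  | cons a l =>
    rw [List.headD_cons]
    exact (List.mem_filter.mp (hL ▸ List.mem_cons_self .. : a ∈ L.filter fun m => m.testBit i)).1

theorem member_eq {L L' : List ℕ} (hs : toFinS L ∈ trios) (h : toFinS L = toFinS L') {a b i : ℕ}
    (ha : a ∈ L) (hb : b ∈ L') (ha' : a < 2 ^ 24) (hb' : b < 2 ^ 24) (hi : i < 24)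
    (hai : a.testBit i = true) (hbi : b.testBit i = true) : a = b := by
  have hm : pts a ∈ toFinS L := mem_toFinS.mpr ⟨a, ha, rfl⟩
  have hm' : pts b ∈ toFinS L := h.symm ▸ mem_toFinS.mpr ⟨b, hb, rfl⟩
  refine pts_injOn ha' hb' ?_
  by_contra hne
  exact Finset.disjoint_left.mp (hs.2.2 _ hm _ hm' hne)
    (mem_pts.mpr ((idx_pt hi).symm ▸ hai)) (mem_pts.mpr ((idx_pt hi).symm ▸ hbi))

theorem trioKey_eq {L L' : List ℕ} (hL : L ∈ trioLists) (hL' : L' ∈ trioLists)
    (hs : toFinS L ∈ trios) (h : toFinS L = toFinS L') : trioKey L = trioKey L' := by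
  have hv := trioLists_valid
  simp only [List.all_eq_true, Bool.and_eq_true, Nat.blt_eq] at hv
  obtain ⟨⟨⟨h1, h2⟩, h3⟩, hlt⟩ := hv L hL
  obtain ⟨⟨⟨h1', h2'⟩, h3'⟩, hlt'⟩ := hv L' hL'
  have m1 : topMask L ∈ L := headD_mem_of_bit h1
  have m1' : topMask L' ∈ L' := headD_mem_of_bit h1'
  have m2 : secMask L ∈ L := headD_mem_of_bit h2
  have m2' : secMask L' ∈ L' := headD_mem_of_bit h2'
  have e1 : topMask L = topMask L' :=
    member_eq hs h m1 m1' (hlt _ m1) (hlt' _ m1') (by norm_num) h1 h1'
  rw [← e1] at h2'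
  have e2 : secMask L = secMask L' :=
    member_eq hs h m2 m2' (hlt _ m2) (hlt' _ m2') h3 h2 h2'
  rw [trioKey, trioKey, e1, e2]

/-- The orbit of a standard representative. -/
abbrev trOrb0 (rep : List ℕ) : Set (Finset (Finset GolayPt)) :=
  orbit (stabilizer M24 (toFinS trio0)) (toFinS rep)

theorem trOrb0_subset {rep : List ℕ} (h : toFinS rep ∈ trios) : trOrb0 rep ⊆ trios := by
  rintro _ ⟨g, rfl⟩
  exact smul_mem_trios g.1.2 h

theorem trioClass_orb0 {rep : List ℕ} {X : Finset (Finset GolayPt)} (hX : X ∈ trOrb0 rep) :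
    trioClass (toFinS trio0) X = trioClass (toFinS trio0) (toFinS rep) := by
  obtain ⟨g, rfl⟩ := hX
  conv_rhs => rw [← trioClass_smul (g.1 : Equiv.Perm GolayPt)]
  rw [show (g.1 : Equiv.Perm GolayPt) • toFinS trio0 = toFinS trio0 from g.2]
  rfl

theorem trio_orbits0 :
    (trOrb0 trioRep1).ncard = 42 ∧ (trOrb0 trioRep2).ncard = 56 ∧
      (trOrb0 trioRep3).ncard = 1008 ∧ (trOrb0 trioRep4).ncard = 2688 ∧
      trios = {toFinS trio0} ∪ trOrb0 trioRep1 ∪ trOrb0 trioRep2 ∪ trOrb0 trioRep3 ∪
        trOrb0 trioRep4 := by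
  classical
  have r1 := toFinS_mem_trios trioReps_ok.1
  have r2 := toFinS_mem_trios trioReps_ok.2.1
  have r3 := toFinS_mem_trios trioReps_ok.2.2.1
  have r4 := toFinS_mem_trios trioReps_ok.2.2.2
  have hmem : ∀ L ∈ trioLists, toFinS L ∈ trios := by
    intro L hL
    simp only [trioLists, List.mem_append, List.mem_singleton] at hL
    rcases hL with (((rfl | h) | h) | h) | h
    · exact trio0_mem
    · exact trOrb0_subset r1 (mem_orbit_of_mem_orbitList trioGens_ok h)
    · exact trOrb0_subset r2 (mem_orbit_of_mem_orbitList trioGens_ok h)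
    · exact trOrb0_subset r3 (mem_orbit_of_mem_orbitList trioGens_ok h)
    · exact trOrb0_subset r4 (mem_orbit_of_mem_orbitList trioGens_ok h)
  have hnd : (trioLists.map toFinS).Nodup := by
    have hk := nodup_of_distinctBits _ _ trioLists_keys
    refine List.Nodup.map_on (fun a ha b hb e => ?_) (List.Nodup.of_map _ hk)
    exact List.inj_on_of_nodup_map hk ha hb (trioKey_eq ha hb (hmem a ha) e)
  let O : List ℕ → List ℕ → Finset (Finset (Finset GolayPt)) := fun steps rep =>
    ((orbitList trioGens steps rep).map toFinS).toFinset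
  have hnd' := hnd
  simp only [trioLists, List.map_append, List.nodup_append] at hnd'
  have hO : ∀ steps rep, (O steps rep : Set (Finset (Finset GolayPt))) ⊆ trOrb0 rep := by
    intro steps rep X hX
    simp only [O, List.coe_toFinset, List.mem_map, Set.mem_ofPred_eq] at hX
    obtain ⟨L, hL, rfl⟩ := hX
    exact mem_orbit_of_mem_orbitList trioGens_ok hL
  have c1 : (O trioSteps1 trioRep1).card = 42 := by
    rw [List.toFinset_card_of_nodup hnd'.1.1.1.2.1, List.length_map, trioLists_length.1]
  have c2 : (O trioSteps2 trioRep2).card = 56 := by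
    rw [List.toFinset_card_of_nodup hnd'.1.1.2.1, List.length_map, trioLists_length.2.1]
  have c3 : (O trioSteps3 trioRep3).card = 1008 := by
    rw [List.toFinset_card_of_nodup hnd'.1.2.1, List.length_map, trioLists_length.2.2.1]
  have c4 : (O trioSteps4 trioRep4).card = 2688 := by
    rw [List.toFinset_card_of_nodup hnd'.2.1, List.length_map, trioLists_length.2.2.2]
  have hcover : trios = ↑(trioLists.map toFinS).toFinset := by
    symm
    refine Set.eq_of_subset_of_ncard_le ?_ ?_
    · intro X hX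
      simp only [List.coe_toFinset, List.mem_map, Set.mem_ofPred_eq] at hX
      obtain ⟨L, hL, rfl⟩ := hX
      exact hmem L hL
    · rw [ncard_trios, Set.ncard_coe_finset, List.toFinset_card_of_nodup hnd, List.length_map,
        trioLists]
      simp only [List.length_append, List.length_singleton, trioLists_length.1,
        trioLists_length.2.1, trioLists_length.2.2.1, trioLists_length.2.2.2]
      norm_num
  have hsplit : ∀ X ∈ trios, X = toFinS trio0 ∨ X ∈ O trioSteps1 trioRep1 ∨
      X ∈ O trioSteps2 trioRep2 ∨ X ∈ O trioSteps3 trioRep3 ∨ X ∈ O trioSteps4 trioRep4 := by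
    intro X hX
    rw [hcover] at hX
    simp only [List.coe_toFinset, List.mem_map, Set.mem_ofPred_eq, trioLists, List.mem_append,
      List.mem_singleton] at hX
    simp only [O, List.mem_toFinset, List.mem_map]
    obtain ⟨L, (((rfl | h) | h) | h) | h, rfl⟩ := hX
    · exact Or.inl rfl
    · exact Or.inr (Or.inl ⟨L, h, rfl⟩)
    · exact Or.inr (Or.inr (Or.inl ⟨L, h, rfl⟩))
    · exact Or.inr (Or.inr (Or.inr (Or.inl ⟨L, h, rfl⟩)))
    · exact Or.inr (Or.inr (Or.inr (Or.inr ⟨L, h, rfl⟩)))
  have eqO : ∀ steps rep, toFinS rep ∈ trios →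
      (∀ X ∈ trios, X ∉ O steps rep →
        trioClass (toFinS trio0) X ≠ trioClass (toFinS trio0) (toFinS rep)) →
      trOrb0 rep = ↑(O steps rep) := by
    intro steps rep hr hne
    refine Set.Subset.antisymm (fun X hX => ?_) (hO _ _)
    by_contra hn
    exact hne X (trOrb0_subset hr hX) hn (trioClass_orb0 hX)
  have cls : ∀ steps rep X, X ∈ O steps rep →
      trioClass (toFinS trio0) X = trioClass (toFinS trio0) (toFinS rep) := fun steps rep X h =>
    trioClass_orb0 (hO steps rep h)
  have e1 : trOrb0 trioRep1 = ↑(O trioSteps1 trioRep1) := eqO _ _ r1 fun X hX hn => by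
    rcases hsplit X hX with rfl | h | h | h | h
    · simp [trioClass_self0, trioClass_rep1]
    · exact absurd h hn
    all_goals simp [cls _ _ X h, trioClass_rep1, trioClass_rep2, trioClass_rep3, trioClass_rep4]
  have e2 : trOrb0 trioRep2 = ↑(O trioSteps2 trioRep2) := eqO _ _ r2 fun X hX hn => by
    rcases hsplit X hX with rfl | h | h | h | h
    · simp [trioClass_self0, trioClass_rep2]
    rotate_left
    · exact absurd h hn
    all_goals simp [cls _ _ X h, trioClass_rep1, trioClass_rep2, trioClass_rep3, trioClass_rep4]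
  have e3 : trOrb0 trioRep3 = ↑(O trioSteps3 trioRep3) := eqO _ _ r3 fun X hX hn => by
    rcases hsplit X hX with rfl | h | h | h | h
    · simp [trioClass_self0, trioClass_rep3]
    rotate_left 2
    · exact absurd h hn
    all_goals simp [cls _ _ X h, trioClass_rep1, trioClass_rep2, trioClass_rep3, trioClass_rep4]
  have e4 : trOrb0 trioRep4 = ↑(O trioSteps4 trioRep4) := eqO _ _ r4 fun X hX hn => by
    rcases hsplit X hX with rfl | h | h | h | h
    · simp [trioClass_self0, trioClass_rep4]
    rotate_left 3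
    · exact absurd h hn
    all_goals simp [cls _ _ X h, trioClass_rep1, trioClass_rep2, trioClass_rep3, trioClass_rep4]
  refine ⟨by rw [e1, Set.ncard_coe_finset, c1], by rw [e2, Set.ncard_coe_finset, c2],
    by rw [e3, Set.ncard_coe_finset, c3], by rw [e4, Set.ncard_coe_finset, c4], ?_⟩
  ext X
  simp only [Set.mem_union, Set.mem_singleton_iff, e1, e2, e3, e4, Finset.mem_coe]
  constructor
  · intro hX
    rcases hsplit X hX with h | h | h | h | h <;> simp [h]
  · rintro ((((rfl | h) | h) | h) | h)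
    · exact trio0_mem
    · exact trOrb0_subset r1 (hO _ _ h)
    · exact trOrb0_subset r2 (hO _ _ h)
    · exact trOrb0_subset r3 (hO _ _ h)
    · exact trOrb0_subset r4 (hO _ _ h)

set_option maxHeartbeats 2000000 in
/-- The five orbits of a trio stabiliser on trios, and maximality. -/
theorem exists_trio_orbits {T : Finset (Finset GolayPt)} (hT : T ∈ trios) :
    ∃ X₁ ∈ trios, ∃ X₂ ∈ trios, ∃ X₃ ∈ trios, ∃ X₄ ∈ trios,
      (orbit ↥(stabilizer M24 T) X₁).ncard = 42 ∧ (orbit ↥(stabilizer M24 T) X₂).ncard = 56 ∧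
      (orbit ↥(stabilizer M24 T) X₃).ncard = 1008 ∧
      (orbit ↥(stabilizer M24 T) X₄).ncard = 2688 ∧
      trios = {T} ∪ orbit ↥(stabilizer M24 T) X₁ ∪ orbit ↥(stabilizer M24 T) X₂ ∪
        orbit ↥(stabilizer M24 T) X₃ ∪ orbit ↥(stabilizer M24 T) X₄ ∧
      IsCoatom (stabilizer M24 T) := by
  classical
  obtain ⟨k, hk, hkT⟩ := exists_map_trio trio0_mem hT
  let t : ↥M24 := ⟨k, hk⟩
  have htT : t • toFinS trio0 = T := hkT
  have r1 := toFinS_mem_trios trioReps_ok.1
  have r2 := toFinS_mem_trios trioReps_ok.2.1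
  have r3 := toFinS_mem_trios trioReps_ok.2.2.1
  have r4 := toFinS_mem_trios trioReps_ok.2.2.2
  obtain ⟨n1, n2, n3, n4, hall⟩ := trio_orbits0
  have m1 : (orbit ↥(stabilizer M24 T) (t • toFinS trioRep1)).ncard = 42 := by
    rw [← htT, ncard_orbit_stabilizer_smul]; exact n1
  have m2 : (orbit ↥(stabilizer M24 T) (t • toFinS trioRep2)).ncard = 56 := by
    rw [← htT, ncard_orbit_stabilizer_smul]; exact n2
  have m3 : (orbit ↥(stabilizer M24 T) (t • toFinS trioRep3)).ncard = 1008 := by
    rw [← htT, ncard_orbit_stabilizer_smul]; exact n3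
  have m4 : (orbit ↥(stabilizer M24 T) (t • toFinS trioRep4)).ncard = 2688 := by
    rw [← htT, ncard_orbit_stabilizer_smul]; exact n4
  have hall' : trios = {T} ∪ orbit ↥(stabilizer M24 T) (t • toFinS trioRep1) ∪
      orbit ↥(stabilizer M24 T) (t • toFinS trioRep2) ∪
      orbit ↥(stabilizer M24 T) (t • toFinS trioRep3) ∪
      orbit ↥(stabilizer M24 T) (t • toFinS trioRep4) := by
    have himg : (fun X => t • X) '' trios = trios := by
      refine Set.eq_of_subset_of_ncard_le ?_
        (by rw [Set.ncard_image_of_injective _ (MulAction.injective t)])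
      rintro _ ⟨X, hX, rfl⟩
      exact smul_mem_trios hk hX
    rw [← himg, hall, Set.image_union, Set.image_union, Set.image_union, Set.image_union,
      Set.image_singleton, ← orbit_stabilizer_smul, ← orbit_stabilizer_smul,
      ← orbit_stabilizer_smul, ← orbit_stabilizer_smul, htT]
  refine ⟨_, smul_mem_trios hk r1, _, smul_mem_trios hk r2, _, smul_mem_trios hk r3,
    _, smul_mem_trios hk r4, m1, m2, m3, m4, hall', ?_⟩
  have hclassT : trioClass T T = 0 := by rw [← hkT, trioClass_smul, trioClass_self0]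
  have hclass : ∀ rep X, X ∈ orbit ↥(stabilizer M24 T) (t • toFinS rep) →
      trioClass T X = trioClass (toFinS trio0) (toFinS rep) := by
    intro rep X hX
    rw [← htT, orbit_stabilizer_smul] at hX
    obtain ⟨Y, hY, rfl⟩ := hX
    show trioClass T (k • Y) = _
    rw [← hkT, trioClass_smul]
    exact trioClass_orb0 hY
  have hcases : ∀ X ∈ trios,
      (X = T ∧ trioClass T X = 0) ∨
      (X ∈ orbit ↥(stabilizer M24 T) (t • toFinS trioRep1) ∧ trioClass T X = 400) ∨
      (X ∈ orbit ↥(stabilizer M24 T) (t • toFinS trioRep2) ∧ trioClass T X = 600) ∨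
      (X ∈ orbit ↥(stabilizer M24 T) (t • toFinS trioRep3) ∧ trioClass T X = 404) ∨
      (X ∈ orbit ↥(stabilizer M24 T) (t • toFinS trioRep4) ∧ trioClass T X = 306) := by
    intro X hX
    rw [hall'] at hX
    rcases hX with (((h | h) | h) | h) | h
    · rw [Set.mem_singleton_iff] at h
      exact Or.inl ⟨h, h ▸ hclassT⟩
    · exact Or.inr (Or.inl ⟨h, (hclass _ X h).trans trioClass_rep1⟩)
    · exact Or.inr (Or.inr (Or.inl ⟨h, (hclass _ X h).trans trioClass_rep2⟩))
    · exact Or.inr (Or.inr (Or.inr (Or.inl ⟨h, (hclass _ X h).trans trioClass_rep3⟩)))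
    · exact Or.inr (Or.inr (Or.inr (Or.inr ⟨h, (hclass _ X h).trans trioClass_rep4⟩)))
  have hgr : ∀ rep, toFinS rep ∈ trios →
      orbit ↥(stabilizer M24 T) (t • toFinS rep) ⊆ trios := by
    rintro rep hr _ ⟨g, rfl⟩
    exact smul_mem_trios g.1.2 (smul_mem_trios hk hr)
  have hsz : ∀ rep v, trioClass (toFinS trio0) (toFinS rep) = v → toFinS rep ∈ trios →
      (∀ X ∈ trios, trioClass T X = v → X ∈ orbit ↥(stabilizer M24 T) (t • toFinS rep)) →
      {X | X ∈ trios ∧ trioClass T X = v} = orbit ↥(stabilizer M24 T) (t • toFinS rep) := by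
    intro rep v hv hr hin
    ext X
    exact ⟨fun h => hin X h.1 h.2, fun h => ⟨hgr rep hr h, (hclass rep X h).trans hv⟩⟩
  refine isCoatom_stabilizer_of_suborbits T (trioClass T) {0, 400, 600, 404, 306}
    (fun c => if c = 0 then 1 else if c = 400 then 42 else if c = 600 then 56 else
      if c = 404 then 1008 else 2688)
    (fun X hX => ?_) (fun X hX Y hY h => ?_) (fun c hc => ?_)
    (by rw [hclassT]; decide +kernel) (by rw [hclassT]; decide +kernel) ?_
  · rw [orbit_trio hT] at hX
    rcases hcases X hX with ⟨-, e⟩ | ⟨-, e⟩ | ⟨-, e⟩ | ⟨-, e⟩ | ⟨-, e⟩ <;> simp [e]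
  · rw [orbit_trio hT] at hX hY
    rcases hcases X hX with ⟨eX, cX⟩ | ⟨eX, cX⟩ | ⟨eX, cX⟩ | ⟨eX, cX⟩ | ⟨eX, cX⟩ <;>
      rcases hcases Y hY with ⟨eY, cY⟩ | ⟨eY, cY⟩ | ⟨eY, cY⟩ | ⟨eY, cY⟩ | ⟨eY, cY⟩
    all_goals first
      | omega
      | exact ⟨1, one_mem _, by rw [one_smul, eX, eY]⟩
      | (obtain ⟨g, hg⟩ := eX
         obtain ⟨g', hg'⟩ := eY
         refine ⟨(g' * g⁻¹ : ↥(stabilizer M24 T)).1, (g' * g⁻¹).2, ?_⟩
         show (g' * g⁻¹) • X = Y
         rw [mul_smul, ← hg, inv_smul_smul]
         exact hg')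
  · rw [orbit_trio hT]
    simp only [Finset.mem_insert, Finset.mem_singleton] at hc
    have hin : ∀ X ∈ trios, ∀ v, trioClass T X = v →
        (v = 400 → X ∈ orbit ↥(stabilizer M24 T) (t • toFinS trioRep1)) ∧
        (v = 600 → X ∈ orbit ↥(stabilizer M24 T) (t • toFinS trioRep2)) ∧
        (v = 404 → X ∈ orbit ↥(stabilizer M24 T) (t • toFinS trioRep3)) ∧
        (v = 306 → X ∈ orbit ↥(stabilizer M24 T) (t • toFinS trioRep4)) ∧
        (v = 0 → X = T) := by
      intro X hX v hv
      rcases hcases X hX with ⟨e', e⟩ | ⟨e', e⟩ | ⟨e', e⟩ | ⟨e', e⟩ | ⟨e', e⟩ <;>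
        refine ⟨?_, ?_, ?_, ?_, ?_⟩ <;> intro hv' <;> first | omega | exact e'
    rcases hc with rfl | rfl | rfl | rfl | rfl
    · rw [show {X | X ∈ trios ∧ trioClass T X = 0} = {T} from ?_, Set.ncard_singleton]
      · rfl
      ext X
      refine ⟨fun h => (hin X h.1 0 h.2).2.2.2.2 rfl, fun h => ?_⟩
      rw [Set.mem_singleton_iff] at h
      subst h
      exact ⟨hT, hclassT⟩
    · rw [hsz _ _ trioClass_rep1 r1 fun X hX h => (hin X hX _ h).1 rfl, m1]; rfl
    · rw [hsz _ _ trioClass_rep2 r2 fun X hX h => (hin X hX _ h).2.1 rfl, m2]; rfl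
    · rw [hsz _ _ trioClass_rep3 r3 fun X hX h => (hin X hX _ h).2.2.1 rfl, m3]; rfl
    · rw [hsz _ _ trioClass_rep4 r4 fun X hX h => (hin X hX _ h).2.2.2.1 rfl, m4]; rfl
  · intro e
    have h1 : (orbit M24 T).ncard = 1 := by rw [← index_stabilizer, e, Subgroup.index_top]
    rw [orbit_trio hT, ncard_trios] at h1
    omega

end Cfsg.Agent.Golay
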