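/-
Generation of M23 by pairs of elements of prime order.

* `not_generate_of_cycles` : Scott's inequality for the permutation module on 24 points
* `eq_top_of_twentyThree` : a subgroup of M23 with a non-normal subgroup of order 23 is everything
* `entries_spec` : the certified generating pairs
-/
import Cfsg.Agent.Lib.Golay.M24Aut
import Cfsg.Agent.Lib.Golay.M22Aut
import Cfsg.Agent.Lib.Golay.M12Aut
import Cfsg.Agent.Lib.Golay.IndexSubgroups
import Cfsg.Agent.Lib.Golay.TriplesData
import Cfsg.Agent.S5394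

set_option autoImplicit false
open scoped Pointwise
open Cfsg MulAction

namespace Cfsg.Agent.Golay.Triples

open Subgroup (normalizer centralizer)

/-! ### Scott's inequality -/

/-- The permutation module on the points. -/
abbrev Vec : Type := GolayPt → ℚ

/-- The action of a permutation. -/
def P (g : Equiv.Perm GolayPt) : Vec →ₗ[ℚ] Vec := LinearMap.funLeft ℚ ℚ g.symm

/-- The displacement of a permutation. -/
def D (g : Equiv.Perm GolayPt) : Vec →ₗ[ℚ] Vec := LinearMap.id - P g

theorem P_apply (g : Equiv.Perm GolayPt) (v : Vec) (a : GolayPt) : P g v a = v (g.symm a) := rfl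

theorem P_mul (g h : Equiv.Perm GolayPt) (v : Vec) : P (g * h) v = P g (P h v) := rfl

theorem D_apply (g : Equiv.Perm GolayPt) (v : Vec) : D g v = v - P g v := rfl

/-- The orbits of the powers of `g`. -/
abbrev Cycles (g : Equiv.Perm GolayPt) : Type :=
  Quotient (MulAction.orbitRel (Subgroup.zpowers g) GolayPt)

theorem finrank_range_D (g : Equiv.Perm GolayPt) :
    Module.finrank ℚ (LinearMap.range (D g)) + Nat.card (Cycles g) ≤ 24 := by
  classical
  let mk : GolayPt → Cycles g := Quotient.mk _
  let L : (Cycles g → ℚ) →ₗ[ℚ] Vec := LinearMap.funLeft ℚ ℚ mk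
  have hL : Function.Injective L :=
    LinearMap.funLeft_injective_of_surjective ℚ ℚ mk Quotient.mk_surjective
  have hle : LinearMap.range L ≤ LinearMap.ker (D g) := by
    rintro v ⟨u, rfl⟩
    rw [LinearMap.mem_ker, D_apply, sub_eq_zero]
    funext a
    show u (mk a) = u (mk (g.symm a))
    congr 1
    exact Quotient.sound ⟨⟨g, Subgroup.mem_zpowers g⟩, g.apply_symm_apply a⟩
  have h1 := LinearMap.finrank_range_add_finrank_ker (D g)
  have h2 := Submodule.finrank_mono hle
  rw [LinearMap.finrank_range_of_inj hL, Module.finrank_pi,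
    ← Nat.card_eq_fintype_card] at h2
  rw [Module.finrank_pi, show Fintype.card GolayPt = 24 from rfl] at h1
  omega

theorem cycles_ge {g : Equiv.Perm GolayPt} {p : ℕ} (ho : orderOf g = p) :
    24 + (p - 1) * (g.supportᶜ).card ≤ Nat.card (Cycles g) * p := by
  classical
  have hp : 0 < p := ho ▸ orderOf_pos g
  have key := MulAction.sum_card_fixedBy_eq_card_orbits_mul_card_group (Subgroup.zpowers g) GolayPt
  rw [← Nat.card_eq_fintype_card, ← Nat.card_eq_fintype_card, Nat.card_zpowers, ho] at key
  refine le_trans ?_ key.le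
  rw [← Finset.sum_erase_add _ _ (Finset.mem_univ (1 : Subgroup.zpowers g))]
  have hone : Fintype.card (fixedBy GolayPt (1 : Subgroup.zpowers g)) = 24 := by
    rw [← Nat.card_eq_fintype_card, fixedBy_one_eq_univ, Nat.card_univ, Nat.card_eq_fintype_card]
    rfl
  rw [hone, add_comm]
  refine Nat.add_le_add ?_ le_rfl
  have hcard : ((Finset.univ : Finset (Subgroup.zpowers g)).erase 1).card = p - 1 := by
    rw [Finset.card_erase_of_mem (Finset.mem_univ _), Finset.card_univ, ← Nat.card_eq_fintype_card,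
      Nat.card_zpowers, ho]
  rw [← hcard, ← smul_eq_mul, ← Finset.sum_const]
  refine Finset.sum_le_sum fun k _ => ?_
  rw [← Fintype.card_coe]
  refine Fintype.card_le_of_injective (fun a => ⟨a.1, ?_⟩) fun a b h =>
    Subtype.ext (congrArg (fun u : fixedBy GolayPt k => (u : GolayPt)) h)
  have hga : g a.1 = a.1 := Equiv.Perm.notMem_support.mp (Finset.mem_compl.mp a.2)
  have hstab : Subgroup.zpowers g ≤ stabilizer (Equiv.Perm GolayPt) a.1 := Subgroup.zpowers_le.mpr hga
  exact hstab k.2

/-- Scott's inequality: three permutations with product one generating a group with two orbits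
have few cycles. -/
theorem cycles_le {x y z : Equiv.Perm GolayPt} (hxyz : x * y * z = 1) (hxn : x none = none)
    (hyn : y none = none) (htr : ∀ a b : GolayPt, a ≠ none → b ≠ none →
      ∃ g ∈ Subgroup.closure {x, y}, g a = b) :
    Nat.card (Cycles x) + Nat.card (Cycles y) + Nat.card (Cycles z) ≤ 28 := by
  classical
  have ho : (some 0 : GolayPt) ≠ none := Option.some_ne_none _
  let W : Submodule ℚ Vec := LinearMap.range (D x) ⊔ LinearMap.range (D y)
  -- the submodule spanned by the displacements is invariant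
  have hWmem : ∀ g ∈ Subgroup.closure {x, y}, ∀ v, D g v ∈ W := by
    intro g hg
    induction hg using Subgroup.closure_induction with
    | mem g hg =>
      intro v
      rcases hg with rfl | rfl
      · exact Submodule.mem_sup_left ⟨v, rfl⟩
      · exact Submodule.mem_sup_right ⟨v, rfl⟩
    | one =>
      intro v
      rw [D_apply, show P 1 v = v from rfl, sub_self]
      exact W.zero_mem
    | mul g h _ _ ihg ihh =>
      intro v
      have e : D (g * h) v = D g v + (D h v - D g (D h v)) := by
        simp only [D_apply, P_mul, map_sub]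
        abel
      rw [e]
      exact W.add_mem (ihg v) (W.sub_mem (ihh v) (ihg _))
    | inv g _ ih =>
      intro v
      have e : D g⁻¹ v = -(D g (P g⁻¹ v)) := by
        have h2 : P g (P g⁻¹ v) = v := by
          funext a
          show v (g (g.symm a)) = v a
          rw [Equiv.apply_symm_apply]
        rw [D_apply, D_apply, h2]
        abel
      rw [e]
      exact W.neg_mem (ih _)
  -- W together with two basis vectors is everything
  have hW22 : 22 ≤ Module.finrank ℚ W := by
    let w0 : Vec := Pi.single none 1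
    let w1 : Vec := Pi.single (some 0) 1
    have hs : ∀ a, Pi.single a (1 : ℚ) ∈ W ⊔ Submodule.span ℚ ({w0, w1} : Set Vec) := by
      intro a
      by_cases ha : a = none
      · subst ha
        exact Submodule.mem_sup_right (Submodule.subset_span (by simp [w0]))
      obtain ⟨g, hg, hga⟩ := htr (some 0) a ho ha
      have e : Pi.single a (1 : ℚ) = w1 - D g w1 := by
        rw [D_apply, sub_sub_cancel]
        funext b
        show (Pi.single a (1 : ℚ) : Vec) b = (Pi.single (some 0) (1 : ℚ) : Vec) (g.symm b)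
        rw [Pi.single_apply, Pi.single_apply]
        simp only [Equiv.symm_apply_eq, hga]
      rw [e]
      exact Submodule.sub_mem _ (Submodule.mem_sup_right (Submodule.subset_span (by simp)))
        (Submodule.mem_sup_left (hWmem g hg _))
    have htop : W ⊔ Submodule.span ℚ ({w0, w1} : Set Vec) = ⊤ := by
      rw [eq_top_iff, ← (Pi.basisFun ℚ GolayPt).span_eq, Submodule.span_le]
      rintro _ ⟨a, rfl⟩
      rw [Pi.basisFun_apply]
      exact hs a
    have h1 := Submodule.finrank_add_le_finrank_add_finrank W (Submodule.span ℚ ({w0, w1} : Set Vec))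
    rw [htop, finrank_top, Module.finrank_pi, show Fintype.card GolayPt = 24 from rfl] at h1
    have h2 := finrank_span_finset_le_card (R := ℚ) ({w0, w1} : Finset Vec)
    have h3 : ({w0, w1} : Finset Vec).card ≤ 2 := Finset.card_le_two
    rw [show ({w0, w1} : Set Vec) = (({w0, w1} : Finset Vec) : Set Vec) by simp] at h1
    simp only [Set.finrank] at h2
    omega
  -- the two maps of Scott's lemma
  let Ix := LinearMap.range (D x)
  let Iy := LinearMap.range (D y)
  let Iz := LinearMap.range (D z)
  let α : Vec →ₗ[ℚ] Ix × Iy × Iz :=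
    (D x).rangeRestrict.prod ((D y).rangeRestrict.prod (D z).rangeRestrict)
  let β : Ix × Iy × Iz →ₗ[ℚ] Vec :=
    (Ix.subtype).coprod (((P x).comp Iy.subtype).coprod ((P (x * y)).comp Iz.subtype))
  have hβα : ∀ v, β (α v) = 0 := fun v => by
    show D x v + (P x (D y v) + P (x * y) (D z v)) = 0
    simp only [D_apply, map_sub, ← P_mul, hxyz]
    rw [show P 1 v = v from rfl]
    abel
  have hβW : W ≤ LinearMap.range β := by
    refine sup_le ?_ ?_
    · rintro _ ⟨v, rfl⟩
      exact ⟨(⟨D x v, v, rfl⟩, 0, 0), by simp [β]⟩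
    · rintro _ ⟨v, rfl⟩
      refine ⟨(⟨D x (D y v), _, rfl⟩, ⟨D y v, v, rfl⟩, 0), ?_⟩
      show D x (D y v) + (P x (D y v) + P (x * y) 0) = D y v
      rw [map_zero, add_zero, D_apply x, sub_add_cancel]
  have hkerα : Module.finrank ℚ (LinearMap.ker α) ≤ 2 := by
    let ev : LinearMap.ker α →ₗ[ℚ] ℚ × ℚ :=
      ((LinearMap.proj (R := ℚ) (φ := fun _ : GolayPt => ℚ) none).comp (LinearMap.ker α).subtype).prod
        ((LinearMap.proj (R := ℚ) (φ := fun _ : GolayPt => ℚ) (some 0)).comp (LinearMap.ker α).subtype)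
    have hinj : Function.Injective ev := by
      rw [← LinearMap.ker_eq_bot, LinearMap.ker_eq_bot']
      rintro ⟨v, hv⟩ h
      have h' : v none = 0 ∧ v (some 0) = 0 := Prod.ext_iff.mp h
      rw [LinearMap.mem_ker] at hv
      have hx0 : D x v = 0 := congrArg (fun t : Ix × Iy × Iz => (t.1 : Vec)) hv
      have hy0 : D y v = 0 := congrArg (fun t : Ix × Iy × Iz => (t.2.1 : Vec)) hv
      rw [D_apply, sub_eq_zero] at hx0 hy0
      have hinv : ∀ g ∈ Subgroup.closure {x, y}, ∀ a, v (g a) = v a := by
        intro g hg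
        induction hg using Subgroup.closure_induction with
        | mem g hg =>
          intro a
          rcases hg with rfl | rfl
          · have := congrFun hx0 (g a)
            rwa [P_apply, Equiv.symm_apply_apply] at this
          · have := congrFun hy0 (g a)
            rwa [P_apply, Equiv.symm_apply_apply] at this
        | one => intro a; rfl
        | mul g h _ _ ihg ihh => intro a; rw [Equiv.Perm.mul_apply, ihg, ihh]
        | inv g _ ih => intro a; rw [← ih (g⁻¹ a), Equiv.Perm.coe_inv, Equiv.apply_symm_apply]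
      refine Subtype.ext (funext fun a => ?_)
      show v a = 0
      by_cases ha : a = none
      · rw [ha]; exact h'.1
      obtain ⟨g, hg, rfl⟩ := htr (some 0) a ho ha
      rw [hinv g hg]; exact h'.2
    have := LinearMap.finrank_le_finrank_of_injective hinj
    rwa [Module.finrank_prod, Module.finrank_self] at this
  have hαβ : LinearMap.range α ≤ LinearMap.ker β := by
    rintro _ ⟨v, rfl⟩
    exact hβα v
  have hα := LinearMap.finrank_range_add_finrank_ker α
  rw [Module.finrank_pi, show Fintype.card GolayPt = 24 from rfl] at hα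
  have hβ := LinearMap.finrank_range_add_finrank_ker β
  rw [Module.finrank_prod, Module.finrank_prod] at hβ
  have h1 := Submodule.finrank_mono hβW
  have h2 := Submodule.finrank_mono hαβ
  have hx' := finrank_range_D x
  have hy' := finrank_range_D y
  have hz' := finrank_range_D z
  simp only [Ix, Iy, Iz] at hβ h1 h2 hα
  omega

/-! ### Fixed points in M23 -/

theorem orderOf_ne_one_of_prime {g : Equiv.Perm GolayPt} {p : ℕ} (hp : p.Prime)
    (ho : orderOf g = p) : g ≠ 1 := fun h => hp.ne_one (by rw [← ho, h, orderOf_one])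

/-- A lower bound for the number of cycles of an element of prime order of M23. -/
theorem cycles_m23 {g : Equiv.Perm GolayPt} (hg : g ∈ Spor.M23) {p : ℕ} (hp : p.Prime)
    (ho : orderOf g = p) : 2 ≤ Nat.card (Cycles g) ∧ (p = 2 → 16 ≤ Nat.card (Cycles g)) ∧
      (p = 3 → 12 ≤ Nat.card (Cycles g)) ∧ (p = 5 → 8 ≤ Nat.card (Cycles g)) ∧
      (p = 7 → 6 ≤ Nat.card (Cycles g)) := by
  classical
  have : Fact p.Prime := ⟨hp⟩
  have hgn : g none = none := hg.2
  obtain ⟨hmod, -⟩ := natCard_fixed_of_prime_order ho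
  have h1 : 1 ≤ (g.supportᶜ).card :=
    Finset.card_pos.mpr ⟨none, Finset.mem_compl.mpr (Equiv.Perm.notMem_support.mpr hgn)⟩
  have hc := cycles_ge ho
  have h2p := hp.two_le
  refine ⟨?_, ?_, ?_, ?_, ?_⟩
  · have : (p - 1) * 1 ≤ (p - 1) * (g.supportᶜ).card := Nat.mul_le_mul_left _ h1
    by_contra hlt
    have : Nat.card (Cycles g) * p ≤ 1 * p := Nat.mul_le_mul_right _ (by omega)
    omega
  · rintro rfl
    have h8 : (g.supportᶜ).card = 8 := by
      rcases Cfsg.Agent.S5394.result.1 g hg.1 ho with h | h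
      · rw [show g.supportᶜ = Finset.univ.filter fun q => g q = q by ext q; simp]
        exact h.2
      · exact absurd hgn (h none)
    omega
  · rintro rfl
    have := natCard_fixed_order_three_ne hg.1 ho
    omega
  · rintro rfl
    omega
  · rintro rfl
    omega

/-- The triples that do not generate. -/
theorem not_generate {p q r : ℕ} (hp : p.Prime) (hq : q.Prime) (hr : r.Prime) (hqr : q ≤ r)
    (hbad : (p = 2 ∧ q = 3) ∨ (p = 2 ∧ q = 5 ∧ r = 5) ∨ (p = 2 ∧ q = 5 ∧ r = 7) ∨
      (p = 3 ∧ q = 3 ∧ r ≤ 7))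
    (x y z : Spor.M23) (hx : orderOf x = p) (hy : orderOf y = q) (hz : orderOf z = r)
    (hxyz : x * y * z = 1) : Subgroup.closure {x, y} ≠ ⊤ := by
  intro htop
  have hcl : (Subgroup.closure {x, y}).map Spor.M23.subtype =
      Subgroup.closure {(x : Equiv.Perm GolayPt), (y : Equiv.Perm GolayPt)} := by
    rw [MonoidHom.map_closure, Set.image_pair]
    rfl
  rw [htop, ← MonoidHom.range_eq_map, Subgroup.range_subtype] at hcl
  have hc := cycles_le (x := (x : Equiv.Perm GolayPt)) (y := (y : Equiv.Perm GolayPt))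
    (z := (z : Equiv.Perm GolayPt)) (congrArg Subtype.val hxyz) x.2.2 y.2.2 (fun a b ha hb => by
      obtain ⟨g, hg, h0, h1⟩ := exists_map_two (a := none) (b := a) (c := none) (d := b)
        (Ne.symm ha) (Ne.symm hb)
      exact ⟨g, hcl ▸ (⟨hg, h0⟩ : g ∈ Spor.M23), h1⟩)
  obtain ⟨-, hx2, hx3, hx5, hx7⟩ := cycles_m23 x.2 hp (by rw [Subgroup.orderOf_coe, hx])
  obtain ⟨-, hy2, hy3, hy5, hy7⟩ := cycles_m23 y.2 hq (by rw [Subgroup.orderOf_coe, hy])
  obtain ⟨hz1, hz2, hz3, hz5, hz7⟩ := cycles_m23 z.2 hr (by rw [Subgroup.orderOf_coe, hz])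
  rcases hbad with ⟨rfl, rfl⟩ | ⟨rfl, rfl, rfl⟩ | ⟨rfl, rfl, rfl⟩ | ⟨rfl, rfl, hr7⟩
  · have := hx2 rfl
    have := hy3 rfl
    omega
  · have := hx2 rfl
    have := hy5 rfl
    omega
  · have := hx2 rfl
    have := hy5 rfl
    have := hz7 rfl
    omega
  · have := hx3 rfl
    have := hy3 rfl
    have hr' : r = 3 ∨ r = 5 ∨ r = 7 := by
      interval_cases r <;> first | omega | (exfalso; revert hr; decide)
    rcases hr' with rfl | rfl | rfl
    · have := hz3 rfl; omega
    · have := hz5 rfl; omega
    · have := hz7 rfl; omega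

/-! ### A generation criterion -/

/-- An involution fixing a point cannot normalise a subgroup of order 11 or 23. -/
theorem not_normalizes {g t : Equiv.Perm GolayPt} (hgM : g ∈ M24) (htM : t ∈ M24) {p : ℕ}
    (hp : p = 11 ∨ p = 23) (hg : orderOf g = p) (ht : orderOf t = 2) (htn : t none = none) {k : ℕ}
    (hconj : t * g * t⁻¹ = g ^ k) : False := by
  classical
  have hpp : p.Prime := by rcases hp with rfl | rfl <;> norm_num
  have : Fact p.Prime := ⟨hpp⟩
  have h8 : (Finset.univ.filter fun a => t a = a).card = 8 := by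
    rcases Cfsg.Agent.S5394.result.1 t htM ht with h | h
    · exact h.2
    · exact absurd htn (h none)
  have hF : (g.supportᶜ).card ≤ 2 := by
    obtain ⟨hmod, hlt⟩ := natCard_fixed_of_prime_order hg
    rcases hp with rfl | rfl
    · exact (Index.card_fixed_eleven hgM hg).le
    · omega
  have hsix : 3 ≤ ((Finset.univ.filter fun a => t a = a) \ g.supportᶜ).card := by
    have := Finset.le_card_sdiff (g.supportᶜ) (Finset.univ.filter fun a => t a = a)
    omega
  have hpow : ∀ m : ℕ, t * g ^ m * t⁻¹ = g ^ (k * m) := fun m => by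
    rw [← conj_pow, hconj, ← pow_mul]
  have hfree : ∀ (a : GolayPt), g a ≠ a → ∀ m : ℕ, (g ^ m) a = a → p ∣ m := by
    intro a ha m hm
    by_contra hnd
    apply ha
    obtain ⟨n, hn⟩ : ∃ n, (m * n) % p = 1 := by
      obtain ⟨n, hn⟩ := Nat.exists_mul_mod_eq_one_of_coprime
        (Nat.Coprime.symm ((hpp.coprime_iff_not_dvd).mpr hnd)) hpp.one_lt
      exact ⟨n, hn.2⟩
    have h1 : g ^ (m * n) = g := by
      rw [← pow_mod_orderOf g (m * n), hg, hn, pow_one]
    have h2 : ∀ j : ℕ, ((g ^ m) ^ j) a = a := by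
      intro j
      induction j with
      | zero => rfl
      | succ j ih => rw [pow_succ, Equiv.Perm.mul_apply, hm, ih]
    have := h2 n
    rwa [← pow_mul, h1] at this
  let O : GolayPt → Finset GolayPt := fun a => (Finset.range p).image fun m => (g ^ m) a
  have hO : ∀ a, g a ≠ a → (O a).card = p := by
    intro a ha
    rw [Finset.card_image_of_injOn, Finset.card_range]
    intro i hi j hj hij
    simp only [Finset.coe_range, Set.mem_Iio] at hi hj
    have key : ∀ i j, i ≤ j → j < p → (g ^ i) a = (g ^ j) a → i = j := by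
      intro i j hle hj e
      have : (g ^ i) ((g ^ (j - i)) a) = (g ^ i) a := by
        rw [← Equiv.Perm.mul_apply, ← pow_add, Nat.add_sub_cancel' hle, e]
      have := Nat.eq_zero_of_dvd_of_lt (hfree a ha _ ((g ^ i).injective this)) (by omega)
      omega
    rcases le_total i j with h | h
    · exact key i j h hj hij
    · exact (key j i h hi hij.symm).symm
  obtain ⟨S, hS, hS3⟩ := Finset.exists_subset_card_eq hsix
  have hmem : ∀ a ∈ S, t a = a ∧ g a ≠ a := fun a ha => by
    simpa using hS ha
  have hnd : ¬ (S : Set GolayPt).PairwiseDisjoint O := fun hd => by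
    have h1 := Finset.card_biUnion hd
    rw [Finset.sum_congr rfl fun a ha => hO a (hmem a ha).2, Finset.sum_const, hS3] at h1
    have h2 := Finset.card_le_univ (S.biUnion O)
    rw [show Fintype.card GolayPt = 24 from rfl, h1] at h2
    rcases hp with rfl | rfl <;> simp at h2
  obtain ⟨a, ha, b, hb, hab, hint⟩ : ∃ a ∈ S, ∃ b ∈ S, a ≠ b ∧ ¬ Disjoint (O a) (O b) := by
    by_contra! h
    exact hnd fun a ha b hb hab => h a ha b hb hab
  obtain ⟨c, hca, hcb⟩ := Finset.not_disjoint_iff.mp hint
  obtain ⟨i, hi, rfl⟩ := Finset.mem_image.mp hca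
  obtain ⟨j, hj, hji⟩ := Finset.mem_image.mp hcb
  rw [Finset.mem_range] at hi hj
  have hgp : g ^ p = 1 := hg ▸ pow_orderOf_eq_one g
  have hb' : (g ^ (i + (p - j))) a = b := by
    rw [add_comm, pow_add, Equiv.Perm.mul_apply, ← hji, ← Equiv.Perm.mul_apply, ← pow_add,
      Nat.sub_add_cancel hj.le, hgp]
    rfl
  set m := i + (p - j)
  have hm : ¬ p ∣ m := fun h => by
    obtain ⟨n, hn⟩ := h
    rw [hn, pow_mul, hgp, one_pow] at hb'
    exact hab hb'
  have hkm : (g ^ (k * m)) a = (g ^ m) a := by
    rw [← hpow, Equiv.Perm.mul_apply, Equiv.Perm.mul_apply,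
      show t⁻¹ a = a from Equiv.Perm.inv_eq_iff_eq.mpr (hmem a ha).1.symm, hb', (hmem b hb).1]
  have hk0 : 1 ≤ k := by
    rcases Nat.eq_zero_or_pos k with rfl | h
    · rw [pow_zero, conj_eq_one_iff] at hconj
      exact absurd hconj (orderOf_ne_one_of_prime hpp hg)
    · exact h
  have hkm' : p ∣ (k - 1) * m := by
    refine hfree a (hmem a ha).2 _ ((g ^ m).injective ?_)
    rw [← Equiv.Perm.mul_apply, ← pow_add, ← hkm, Nat.sub_mul, one_mul,
      Nat.add_sub_cancel' (Nat.le_mul_of_pos_left m hk0)]
  have hk1 : g ^ k = g := by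
    obtain ⟨n, hn⟩ := (hpp.dvd_mul.mp hkm').resolve_right hm
    rw [show k = p * n + 1 by omega, pow_add, pow_mul, hgp, one_pow, one_mul, pow_one]
  rw [hk1] at hconj
  have hcomm : t * g = g * t := mul_inv_eq_iff_eq_mul.mp hconj
  have hinv : ∀ u, g u ∈ (Finset.univ.filter fun a => t a = a) ↔
      u ∈ (Finset.univ.filter fun a => t a = a) := fun u => by
    simp only [Finset.mem_filter, Finset.mem_univ, true_and]
    rw [← Equiv.Perm.mul_apply, hcomm, Equiv.Perm.mul_apply]
    exact g.injective.eq_iff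
  have hmod := card_mod_of_invariant (p := p) hgp hinv
  rw [h8] at hmod
  have hle : ((Finset.univ.filter fun a => t a = a).filter fun a => g a = a).card ≤ 2 :=
    le_trans (Finset.card_le_card fun a ha => Finset.mem_compl.mpr
      (Equiv.Perm.notMem_support.mpr (Finset.mem_filter.mp ha).2)) hF
  rcases hp with rfl | rfl <;> omega

/-- The number of Sylow subgroups and the odd normaliser of a subgroup of order 11 or 23. -/
theorem normalizer_facts {K : Subgroup (Equiv.Perm GolayPt)} (hK : K ≤ Spor.M23) {p : ℕ}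
    [Fact p.Prime] (hp : p = 11 ∨ p = 23) (hdvd : p ∣ Nat.card K) (hp2 : ¬ p ^ 2 ∣ Nat.card K)
    (Q : Sylow p K) : ¬ 2 ∣ Nat.card (normalizer (Q : Set K)) := by
  intro h2
  have : Fact (Nat.Prime 2) := ⟨Nat.prime_two⟩
  obtain ⟨⟨t, ht⟩, hto⟩ := exists_prime_orderOf_dvd_card' 2 h2
  rw [Subgroup.orderOf_mk] at hto
  have hQ := card_sylow_prime hdvd hp2 Q
  obtain ⟨⟨g, hg⟩, hgo⟩ := exists_prime_orderOf_dvd_card' (G := (Q : Subgroup K)) p (by rw [hQ])
  rw [Subgroup.orderOf_mk] at hgo
  have hQg : Subgroup.zpowers g = (Q : Subgroup K) :=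
    Subgroup.eq_of_le_of_card_ge (Subgroup.zpowers_le.mpr hg) (by rw [hQ, Nat.card_zpowers, hgo])
  have hconj : t * g * t⁻¹ ∈ (Q : Subgroup K) :=
    SetLike.mem_coe.mp ((Subgroup.mem_normalizer_iff.mp ht g).mp hg)
  rw [← hQg, ← mem_powers_iff_mem_zpowers] at hconj
  obtain ⟨k, hk⟩ := hconj
  exact not_normalizes (hK g.2).1 (hK t.2).1 hp (by rw [Subgroup.orderOf_coe, hgo])
    (by rw [Subgroup.orderOf_coe, hto]) (hK t.2).2 (k := k)
    (by rw [← SubmonoidClass.coe_pow]; exact (congrArg Subtype.val hk).symm)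

theorem sylow23_counts : ∀ n < 201, n ∣ 40320 → n % 23 = 1 → n = 1 ∨ n = 24 ∨ n = 70 := by
  intro n hn hd hm
  rcases (show n = 1 ∨ n = 24 ∨ n = 47 ∨ n = 70 ∨ n = 93 ∨ n = 116 ∨ n = 139 ∨ n = 162 ∨
    n = 185 by omega) with rfl | rfl | rfl | rfl | rfl | rfl | rfl | rfl | rfl <;> omega

theorem counts_of_dvd {n : ℕ} (hd : n ∣ 40320) (hm : n % 23 = 1) (h1 : 1 < n) :
    n = 24 ∨ n = 70 ∨ n = 576 ∨ n = 1680 ∨ n = 40320 := by
  obtain ⟨m, hnm⟩ := hd
  have hm' : m % 23 = 1 := by
    have h := congrArg (· % 23) hnm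
    simp only [Nat.mul_mod n m, hm, one_mul, Nat.mod_mod] at h
    omega
  by_cases hn : n < 201
  · rcases sylow23_counts n hn (Dvd.intro m hnm.symm) hm with h | h | h <;> omega
  · have hm2 : m < 201 := by
      by_contra hm2
      have := Nat.mul_le_mul (show 201 ≤ n by omega) (show 201 ≤ m by omega)
      omega
    rcases sylow23_counts m hm2 (Dvd.intro_left n hnm.symm) hm' with h | h | h <;> subst h <;> omega

/-- A subgroup of M23 with at least two subgroups of order 23 is everything. -/
theorem eq_top_of_twentyThree {K : Subgroup (Equiv.Perm GolayPt)} (hK : K ≤ Spor.M23)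
    {g h : Equiv.Perm GolayPt} (hg : g ∈ K) (hh : h ∈ K) (ho : orderOf g = 23)
    (hnc : h * g * h⁻¹ * g ≠ g * (h * g * h⁻¹)) : K = Spor.M23 := by
  classical
  have : Fact (Nat.Prime 23) := ⟨by norm_num⟩
  have : Fact (Nat.Prime 11) := ⟨by norm_num⟩
  have hKM : Nat.card Spor.M23 = 10200960 := natCard_m23 _
  have hKd : Nat.card K ∣ 10200960 := hKM ▸ Subgroup.card_dvd_of_le hK
  have h23 : 23 ∣ Nat.card K := by
    have := orderOf_dvd_natCard (⟨g, hg⟩ : K)
    rwa [Subgroup.orderOf_mk, ho] at this
  have h23' : ¬ 23 ^ 2 ∣ Nat.card K := fun hd => by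
    have := hd.trans hKd
    norm_num at this
  have hfix : ∀ k ∈ K, k none = none := fun k hk => (hK hk).2
  let X := onFinset K (Finset.univ.erase (none : GolayPt)) fun k hk => by
    rw [smul_eq_image, Finset.image_erase k.injective, hfix k hk, Finset.image_univ_equiv]
  have hX : Nat.card X = 23 := by
    show Nat.card ↥((Finset.univ.erase (none : GolayPt) : Finset GolayPt) : Set GolayPt) = 23
    simp
  have : FaithfulSMul K X := ⟨fun {a b} e => Subtype.ext (Equiv.ext fun u => by
    by_cases hu : u = none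
    · rw [hu, hfix a a.2, hfix b b.2]
    · exact congrArg Subtype.val (e ⟨u, Finset.mem_erase.mpr ⟨hu, Finset.mem_univ _⟩⟩))⟩
  let Z := (Subgroup.zpowers (⟨g, hg⟩ : K))
  have hZc : Nat.card Z = 23 := by rw [Nat.card_zpowers, Subgroup.orderOf_mk, ho]
  let Q : Sylow 23 K := Sylow.ofCard Z (by
    obtain ⟨P⟩ : Nonempty (Sylow 23 K) := Sylow.nonempty
    rw [hZc, ← P.card_eq_multiplicity, card_sylow_prime h23 h23' P])
  have hQZ : (Q : Subgroup K) = Z := rfl
  have hgfix : ∀ u, g u = u → u = none := fun u hu => by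
    obtain ⟨hmod, hlt⟩ := natCard_fixed_of_prime_order ho
    obtain ⟨w, hw⟩ := Finset.card_eq_one.mp (show (g.supportᶜ).card = 1 by omega)
    have h1 : u ∈ g.supportᶜ := Finset.mem_compl.mpr (Equiv.Perm.notMem_support.mpr hu)
    have h2 : (none : GolayPt) ∈ g.supportᶜ :=
      Finset.mem_compl.mpr (Equiv.Perm.notMem_support.mpr (hfix g hg))
    rw [hw, Finset.mem_singleton] at h1 h2
    rw [h1, h2]
  have : IsPretransitive K X := by
    have hne : ∀ u : X, (u : GolayPt) ≠ none := fun u =>
      (Finset.mem_erase.mp (show (u : GolayPt) ∈ Finset.univ.erase none from u.2)).1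
    obtain ⟨u0⟩ : Nonempty X := ⟨⟨some 0, Finset.mem_erase.mpr ⟨by simp, Finset.mem_univ _⟩⟩⟩
    have horb : orbit Z u0 = Set.univ := by
      refine Set.eq_of_subset_of_ncard_le (Set.subset_univ _) ?_ (Set.toFinite _)
      rw [Set.ncard_univ, hX, ← index_stabilizer]
      rcases (Nat.dvd_prime (by norm_num)).mp (hZc ▸ Subgroup.index_dvd_card (stabilizer Z u0))
        with e | e
      · exfalso
        rw [Subgroup.index_eq_one] at e
        have : (⟨⟨g, hg⟩, Subgroup.mem_zpowers _⟩ : Z) ∈ stabilizer Z u0 := e ▸ Subgroup.mem_top _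
        exact hne u0 (hgfix u0 (congrArg Subtype.val (mem_stabilizer_iff.mp this)))
      · rw [e]
    refine isPretransitive_iff_base u0 |>.mpr fun u => ?_
    obtain ⟨z, hz⟩ := (horb ▸ Set.mem_univ u : u ∈ orbit Z u0)
    exact ⟨z.1, hz⟩
  have : IsPreprimitive K X := IsPreprimitive.of_prime_card (by rw [hX]; norm_num)
  have hC := card_centralizer_le_of_card_eq hX h23' h23 Q
  have hdvdN := card_normalizer_dvd h23 h23' Q
  have hQC : (Q : Subgroup K) ≤ centralizer (Q : Set K) := fun a ha => by
    rw [Subgroup.mem_centralizer_iff]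
    intro b hb
    obtain ⟨i, rfl⟩ := Subgroup.mem_zpowers_iff.mp (show a ∈ Z from ha)
    obtain ⟨j, rfl⟩ := Subgroup.mem_zpowers_iff.mp (show b ∈ Z from hb)
    exact zpow_mul_comm _ j i
  have hQc := card_sylow_prime h23 h23' Q
  have hC23 : Nat.card (centralizer (Q : Set K)) = 23 :=
    le_antisymm hC (hQc.symm.le.trans (Nat.le_of_dvd Nat.card_pos (Subgroup.card_dvd_of_le hQC)))
  rw [hC23] at hdvdN
  obtain ⟨j, hj, hjmod⟩ := normalizer_card_split h23 h23' Q
  have hodd := normalizer_facts hK (Or.inr rfl) h23 h23' Q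
  rw [hj] at hodd hdvdN
  have hj22 : j ∣ 22 := (Nat.mul_dvd_mul_iff_left (by norm_num)).mp hdvdN
  have hidx := Subgroup.index_mul_card (normalizer (Q : Set K))
  rw [hj, ← Q.card_eq_index_normalizer] at hidx
  set n := Nat.card (Sylow 23 K) with hn
  have hn1 : n % 23 = 1 := by
    have := card_sylow_modEq_one 23 K
    rwa [Nat.ModEq, ← hn] at this
  have hn2 : 1 < n := by
    by_contra hle
    have hn' : n = 1 := by omega
    have : Subsingleton (Sylow 23 K) := (Nat.card_eq_one_iff_unique.mp (hn ▸ hn')).1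
    have hQn : (Q : Subgroup K).Normal := Q.normal_of_subsingleton
    have h1 : (⟨h, hh⟩ : K) * ⟨g, hg⟩ * (⟨h, hh⟩ : K)⁻¹ ∈ Z :=
      hQZ ▸ hQn.conj_mem _ (hQZ ▸ Subgroup.mem_zpowers _) _
    obtain ⟨i, hi⟩ := Subgroup.mem_zpowers_iff.mp h1
    have hi' : g ^ i = h * g * h⁻¹ := by
      have := congrArg Subtype.val hi
      simpa using this
    apply hnc
    rw [← hi']
    exact (Commute.zpow_self g i).eq
  have hj' : j = 1 ∨ j = 11 := by
    have := Nat.le_of_dvd (by norm_num) hj22
    interval_cases j <;> omega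
  rcases hj' with rfl | rfl
  · -- a self-normalising subgroup of prime order has a normal complement
    exfalso
    have hNQ : normalizer (Q : Set K) ≤ centralizer (Q : Set K) := fun a ha => hQC (by
      have : (Q : Subgroup K) = normalizer (Q : Set K) :=
        Subgroup.eq_of_le_of_card_ge Subgroup.le_normalizer (by rw [hj, hQc])
      rw [this]; exact ha)
    let C := (MonoidHom.transferSylow Q hNQ).ker
    have hcompl : Subgroup.IsComplement' C Q := MonoidHom.ker_transferSylow_isComplement' Q hNQ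
    have hCn : C.Normal := MonoidHom.normal_ker _
    have hCp : ¬ 23 ∣ Nat.card C := MonoidHom.not_dvd_card_ker_transferSylow Q hNQ
    have hCb : C = ⊥ := by
      by_contra hne
      have : Nonempty X := ⟨⟨some 0, Finset.mem_erase.mpr ⟨by simp, Finset.mem_univ _⟩⟩⟩
      exact hCp (hX ▸ card_dvd_of_pretransitive C (Perm.isPretransitive_of_normal_ne_bot hne))
    have hKc := hcompl.card_mul_card
    rw [hCb, Subgroup.card_bot, one_mul, hQc] at hKc
    rw [← hKc] at hidx
    omega
  · have hnd : n ∣ 40320 := by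
      refine (Nat.mul_dvd_mul_iff_right (show 0 < 23 * 11 by norm_num)).mp ?_
      rw [hidx]
      exact hKd
    rcases counts_of_dvd hnd hn1 hn2 with h' | h' | h' | h' | h'
    case inr.inr.inr.inr.inr =>
      exact Subgroup.eq_of_le_of_card_ge hK (by rw [hKM, ← hidx, h'])
    case inr.inr.inr.inr.inl =>
      exfalso
      refine not_natCard_eq_of_fix (K := K.subgroupOf M24) (a := none) (fun k hk => hfix _ hk) ?_
      rw [Nat.card_congr (Subgroup.subgroupOfEquivOfLe (fun k hk => (hK hk).1)).toEquiv, ← hidx, h']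
    all_goals
      exfalso
      -- the subgroups of order 11 of a point stabiliser
      let K1 : Subgroup (Equiv.Perm GolayPt) := K ⊓ stabilizer (Equiv.Perm GolayPt) (some 0 : GolayPt)
      have hK1c : Nat.card K1 = 11 * n := by
        have e : Nat.card K1 = Nat.card (stabilizer K (some 0 : GolayPt)) := Nat.card_congr
          { toFun := fun a => ⟨⟨a.1, a.2.1⟩, a.2.2⟩
            invFun := fun a => ⟨a.1.1, a.1.2, a.2⟩ }
        have h2 := (stabilizer K (some 0 : GolayPt)).index_mul_card
        have horb : orbit K (some 0 : GolayPt) =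
            ((Finset.univ.erase (none : GolayPt) : Finset GolayPt) : Set GolayPt) := by
          ext u
          rw [Finset.mem_coe, Finset.mem_erase]
          constructor
          · rintro ⟨k, rfl⟩
            refine ⟨fun e => ?_, Finset.mem_univ _⟩
            exact absurd ((k : Equiv.Perm GolayPt).injective (e.trans (hfix k k.2).symm)) (by simp)
          · rintro ⟨hu, -⟩
            obtain ⟨k, hk⟩ := exists_smul_eq K
              (⟨some 0, Finset.mem_erase.mpr ⟨by simp, Finset.mem_univ _⟩⟩ : X)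
              (⟨u, Finset.mem_erase.mpr ⟨hu, Finset.mem_univ _⟩⟩ : X)
            exact ⟨k, congrArg Subtype.val hk⟩
        rw [index_stabilizer, horb, Set.ncard_coe_finset, ← e, ← hidx] at h2
        simp only [Finset.card_erase_of_mem (Finset.mem_univ _), Finset.card_univ,
          show Fintype.card GolayPt = 24 from rfl] at h2
        have : 23 * Nat.card K1 = 23 * (11 * n) := by rw [mul_left_comm, ← mul_assoc] at *; linarith
        exact Nat.eq_of_mul_eq_mul_left (by norm_num) this
      have hp1 : 11 ∣ Nat.card K1 := ⟨n, hK1c⟩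
      have hp2 : ¬ 11 ^ 2 ∣ Nat.card K1 := by rw [hK1c, h']; norm_num
      obtain ⟨R⟩ : Nonempty (Sylow 11 K1) := Sylow.nonempty
      have hR := card_sylow_prime hp1 hp2 R
      have hK1M : K1 ≤ Spor.M23 := le_trans inf_le_left hK
      obtain ⟨i, hi, himod⟩ := normalizer_card_split hp1 hp2 R
      have hiodd := normalizer_facts hK1M (Or.inl rfl) hp1 hp2 R
      let X2 := onFinset K1 ((Finset.univ.erase (none : GolayPt)).erase (some 0)) fun k hk => by
        have h0 : k (some 0) = some 0 := hk.2
        rw [smul_eq_image, Finset.image_erase k.injective, Finset.image_erase k.injective,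
          hfix k hk.1, h0, Finset.image_univ_equiv]
      have hX2 : Nat.card X2 = 2 * 11 := by
        show Nat.card ↥((((Finset.univ.erase (none : GolayPt)).erase (some 0)) :
          Finset GolayPt) : Set GolayPt) = 22
        simp
      have : FaithfulSMul K1 X2 := ⟨fun {a b} e => Subtype.ext (Equiv.ext fun u => by
        by_cases hu : u = none
        · rw [hu, hfix a a.2.1, hfix b b.2.1]
        by_cases hu' : u = some 0
        · rw [hu']; exact (show (a : Equiv.Perm GolayPt) (some 0) = some 0 from a.2.2).trans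
            (show (b : Equiv.Perm GolayPt) (some 0) = some 0 from b.2.2).symm
        · exact congrArg Subtype.val (e ⟨u, Finset.mem_erase.mpr ⟨hu', Finset.mem_erase.mpr
            ⟨hu, Finset.mem_univ _⟩⟩⟩))⟩
      have hfree : ∀ u ∈ (R : Subgroup K1), ∀ a : X2, u • a = a → u = 1 := fun u hu a ha => by
        have hu11 : u ^ 11 = 1 := by
          have h0 : (⟨u, hu⟩ : (R : Subgroup K1)) ^ Nat.card (R : Subgroup K1) = 1 := pow_card_eq_one'
          rw [hR] at h0
          exact congrArg Subtype.val h0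
        have h1 : (u : Equiv.Perm GolayPt) ^ 11 = 1 := by rw [← SubmonoidClass.coe_pow, hu11]; rfl
        have hae : (a : GolayPt) ∈ (Finset.univ.erase (none : GolayPt)).erase (some 0) := a.2
        simp only [Finset.mem_erase] at hae
        exact Subtype.ext (eq_one_of_pow_eleven (hK1M u.2).1 h1
          (a := none) (b := some 0) (c := (a : GolayPt)) (by simp) (Ne.symm hae.2.1) (Ne.symm hae.1)
          (hfix _ u.2.1) u.2.2 (congrArg Subtype.val ha))
      have hC1 := card_centralizer_le_of_two_orbits hX2 hp2 hp1 R hfree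
      have hd1 := card_normalizer_dvd hp1 hp2 R
      have hRC : (R : Subgroup K1) ≤ centralizer (R : Set K1) := fun a ha => by
        have hcyc : IsCyclic R := isCyclic_of_prime_card hR
        exact Subgroup.mem_centralizer_iff.mpr fun b hb =>
          congrArg Subtype.val ((hcyc.isMulCommutative).is_comm.comm ⟨b, hb⟩ ⟨a, ha⟩)
      obtain ⟨c, hc⟩ := Subgroup.card_dvd_of_le hRC
      rw [hR] at hc
      rw [hi] at hd1 hiodd
      rw [hc] at hd1 hC1
      rw [hK1c, Nat.mul_div_cancel_left _ (by norm_num : 0 < 11)] at himod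
      have hc2 : c = 1 ∨ c = 2 := by
        have := Nat.card_pos (α := centralizer (R : Set K1))
        rw [hc] at this
        omega
      have hi20 : i ∣ 20 := by
        rw [mul_assoc] at hd1
        have := (Nat.mul_dvd_mul_iff_left (by norm_num)).mp hd1
        rcases hc2 with rfl | rfl
        · exact this.trans (by norm_num)
        · exact this
      have : i ≤ 20 := Nat.le_of_dvd (by norm_num) hi20
      interval_cases i <;> omega

/-! ### Certified pairs -/

/-- A word in two codes applied to a point: bit `j` selects the `j`th letter from the left. -/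
def wordFn (x y : ℕ) : ℕ → ℕ → ℕ → ℕ
  | 0, _, i => i
  | n + 1, w, i => fn (bif w % 2 == 1 then y else x) (wordFn x y n (w / 2) i)

/-- The word as a permutation. -/
noncomputable def wordPerm (x y : ℕ) : ℕ → ℕ → Equiv.Perm GolayPt
  | 0, _ => 1
  | n + 1, w => toPerm (bif w % 2 == 1 then y else x) * wordPerm x y n (w / 2)

theorem idx_wordPerm {x y : ℕ} (hx : validPerm x = true) (hy : validPerm y = true) :
    ∀ (n w : ℕ) (p : GolayPt), idx (wordPerm x y n w p) = wordFn x y n w (idx p)
  | 0, _, _ => rfl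
  | n + 1, w, p => by
    rw [wordPerm, wordFn, Equiv.Perm.mul_apply]
    cases (w % 2 == 1)
    · rw [cond_false, idx_toPerm hx, idx_wordPerm hx hy n]
    · rw [cond_true, idx_toPerm hy, idx_wordPerm hx hy n]

theorem wordPerm_mem {x y : ℕ} {K : Subgroup (Equiv.Perm GolayPt)} (hx : toPerm x ∈ K)
    (hy : toPerm y ∈ K) : ∀ n w, wordPerm x y n w ∈ K
  | 0, _ => one_mem K
  | n + 1, w => by
    rw [wordPerm]
    refine mul_mem ?_ (wordPerm_mem hx hy n (w / 2))
    cases (w % 2 == 1)
    · exact hx
    · exact hy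

/-- Iteration. -/
def iter (f : ℕ → ℕ) : ℕ → ℕ → ℕ
  | 0, i => i
  | n + 1, i => f (iter f n i)

theorem idx_pow {g : Equiv.Perm GolayPt} {f : ℕ → ℕ} (hf : ∀ p, idx (g p) = f (idx p)) :
    ∀ (n : ℕ) (p : GolayPt), idx ((g ^ n) p) = iter f n (idx p)
  | 0, _ => rfl
  | n + 1, p => by rw [pow_succ', Equiv.Perm.mul_apply, hf, idx_pow hf n, iter]

/-- The order check. -/
def ordOk (f : ℕ → ℕ) (p : ℕ) : Bool :=
  (List.range 24).all (fun i => iter f p i == i) && (List.range 24).any fun i => f i != i

theorem orderOf_of_ordOk {g : Equiv.Perm GolayPt} {f : ℕ → ℕ} (hf : ∀ p, idx (g p) = f (idx p))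
    {p : ℕ} (hp : p.Prime) (h : ordOk f p = true) : orderOf g = p := by
  have : Fact p.Prime := ⟨hp⟩
  simp only [ordOk, Bool.and_eq_true, List.all_eq_true, List.mem_range, beq_iff_eq,
    List.any_eq_true, bne_iff_ne] at h
  refine orderOf_eq_prime (Equiv.ext fun q => idx_injective ?_) fun e => ?_
  · rw [idx_pow hf, h.1 _ (idx_lt q)]
    rfl
  · obtain ⟨i, hi, hne⟩ := h.2
    have := hf (pt i)
    rw [e, Equiv.Perm.one_apply, idx_pt hi] at this
    exact hne this.symm

/-- The check of an entry. -/
def entryOk : ℕ × ℕ × ℕ × ℕ × ℕ × ℕ × ℕ × ℕ → Bool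
  | (p, q, r, n, w, s, x, y) =>
    let z := wordFn x y n w
    let h := bif s == 0 then x else y
    isAut x && isAut y && fn x 23 == 23 && fn y 23 == 23 && ordOk (fn x) p && ordOk (fn y) q &&
      ordOk (fun i => fn x (fn y i)) r && ordOk z 23 &&
      (List.range 24).any fun i => (List.range 24).any fun j =>
        fn h j == z (fn h i) && fn h (z j) != z (fn h (z i))

theorem entries_ok : entries.all entryOk = true := by decide +kernel

theorem exists_of_entry {e : ℕ × ℕ × ℕ × ℕ × ℕ × ℕ × ℕ × ℕ} (he : e ∈ entries) {p q r : ℕ}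
    (hp : p.Prime) (hq : q.Prime) (hr : r.Prime) (h1 : e.1 = p) (h2 : e.2.1 = q)
    (h3 : e.2.2.1 = r) :
    ∃ x y z : Spor.M23, orderOf x = p ∧ orderOf y = q ∧ orderOf z = r ∧ x * y * z = 1 ∧
      Subgroup.closure {x, y} = ⊤ := by
  obtain ⟨p', q', r', n, w, s, a, b⟩ := e
  simp only at h1 h2 h3
  subst h1 h2 h3
  have h := List.all_eq_true.mp entries_ok _ he
  simp only [entryOk, Bool.and_eq_true, List.any_eq_true, List.mem_range, beq_iff_eq,
    bne_iff_ne] at h
  obtain ⟨⟨⟨⟨⟨⟨⟨⟨hxa, hya⟩, hxf⟩, hyf⟩, hxo⟩, hyo⟩, hzo⟩, hgo⟩, i, hi, j, hj, hji, hne⟩ := h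
  have hvx := validPerm_of_isAut hxa
  have hvy := validPerm_of_isAut hya
  have hmem : ∀ d, isAut d = true → fn d 23 = 23 → toPerm d ∈ Spor.M23 := fun d hd hd23 =>
    ⟨toPerm_mem_M24 hd, idx_injective (show idx (toPerm d none) = idx none by
      rw [idx_toPerm (validPerm_of_isAut hd), show idx (none : GolayPt) = 23 from rfl, hd23])⟩
  let x : Spor.M23 := ⟨toPerm a, hmem a hxa hxf⟩
  let y : Spor.M23 := ⟨toPerm b, hmem b hya hyf⟩
  let h := bif s == 0 then a else b
  let g := wordPerm a b n w
  have hidx : ∀ u, idx (g u) = wordFn a b n w (idx u) := idx_wordPerm hvx hvy n w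
  have hvh : validPerm h = true := by
    show validPerm (bif s == 0 then a else b) = true
    cases (s == 0)
    · exact hvy
    · exact hvx
  refine ⟨x, y, (x * y)⁻¹, ?_, ?_, ?_, mul_inv_cancel _, ?_⟩
  · rw [← Subgroup.orderOf_coe]
    exact orderOf_of_ordOk (idx_toPerm hvx) hp hxo
  · rw [← Subgroup.orderOf_coe]
    exact orderOf_of_ordOk (idx_toPerm hvy) hq hyo
  · rw [orderOf_inv, ← Subgroup.orderOf_coe]
    exact orderOf_of_ordOk (g := toPerm a * toPerm b)
      (fun u => by rw [Equiv.Perm.mul_apply, idx_toPerm hvx, idx_toPerm hvy]) hr hzo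
  let C := Subgroup.closure {x, y}
  have hKx : toPerm a ∈ C.map Spor.M23.subtype :=
    ⟨x, Subgroup.subset_closure (Or.inl rfl), rfl⟩
  have hKy : toPerm b ∈ C.map Spor.M23.subtype :=
    ⟨y, Subgroup.subset_closure (Or.inr rfl), rfl⟩
  have hKh : toPerm h ∈ C.map Spor.M23.subtype := by
    show toPerm (bif s == 0 then a else b) ∈ _
    cases (s == 0)
    · exact hKy
    · exact hKx
  have htop := eq_top_of_twentyThree (Subgroup.map_subtype_le C) (wordPerm_mem hKx hKy n w) hKh
    (orderOf_of_ordOk hidx (by norm_num) hgo) (fun e => hne (by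
      have happ := congrArg (fun t : Equiv.Perm GolayPt => idx (t (toPerm h (pt i)))) e
      have hgh : g (toPerm h (pt i)) = toPerm h (pt j) := idx_injective (by
        rw [hidx, idx_toPerm hvh, idx_toPerm hvh, idx_pt hi, idx_pt hj]
        exact hji.symm)
      simp only [Equiv.Perm.mul_apply, Equiv.Perm.coe_inv, Equiv.symm_apply_apply] at happ
      rw [show wordPerm a b n w (toPerm h (pt i)) = toPerm h (pt j) from hgh,
        Equiv.symm_apply_apply] at happ
      simpa [hidx, idx_toPerm hvh, idx_pt hi, idx_pt hj, g] using happ))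
  rw [eq_top_iff]
  intro u _
  obtain ⟨v, hv, hvu⟩ := (htop.symm ▸ u.2 : (u : Equiv.Perm GolayPt) ∈ C.map Spor.M23.subtype)
  exact Subtype.ext hvu ▸ hv

end Cfsg.Agent.Golay.Triples
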